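import Groth.Agent.Hensel.Henselization
import Groth.Agent.Hensel.TensorHenzFinite
import Groth.Prelude.Def_Hens2

/-!
# Morphisms out of spectra of local rings and strict henselizations
-/

set_option autoImplicit false

universe u

open CategoryTheory AlgebraicGeometry IsLocalRing

namespace Groth.Agent.HenselConn

theorem exists_stalk_map {Z X : Scheme.{u}} (p : Z ⟶ X) (z : Z) (x : X) (h : p z = x) :
    ∃ σ : X.presheaf.stalk x →+* Z.presheaf.stalk z, IsLocalHom σ ∧
      Spec.map (CommRingCat.ofHom σ) ≫ X.fromSpecStalk x = Z.fromSpecStalk z ≫ p := by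
  subst h
  exact ⟨(p.stalkMap z).hom, inferInstance, Scheme.SpecMap_stalkMap_fromSpecStalk p⟩

theorem eq_of_spec_fromSpecStalk {X : Scheme.{u}} {x : X} {T : Type u} [CommRing T]
    {f g : X.presheaf.stalk x →+* T}
    (h : Spec.map (CommRingCat.ofHom f) ≫ X.fromSpecStalk x = Spec.map (CommRingCat.ofHom g) ≫ X.fromSpecStalk x) :
    f = g := by
  have := Spec.map_injective ((cancel_mono (X.fromSpecStalk x)).1 h)
  exact congrArg CommRingCat.Hom.hom this

theorem specOf_comp {X Y : Scheme.{u}} (g : X ⟶ Y) (x : X) (RY RX : Type u) [CommRing RY] [CommRing RX]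
    [Algebra (Y.presheaf.stalk (g.base x)) RY] [Algebra (X.presheaf.stalk x) RX] [Algebra RY RX]
    (hsq : (algebraMap RY RX).comp (algebraMap (Y.presheaf.stalk (g.base x)) RY) =
      (algebraMap (X.presheaf.stalk x) RX).comp (g.stalkMap x).hom) :
    Hens2.specOf X x RX ≫ g = Spec.map (CommRingCat.ofHom (algebraMap RY RX)) ≫ Hens2.specOf Y (g.base x) RY := by
  rw [Hens2.specOf, Hens2.specOf, Category.assoc, ← Scheme.SpecMap_stalkMap_fromSpecStalk,
    ← Category.assoc, ← Spec.map_comp, ← Category.assoc, ← Spec.map_comp]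
  congr 2
  ext1
  exact hsq.symm

theorem specOf_closedPoint (X : Scheme.{u}) (x : X) (R : Type u) [CommRing R] [IsLocalRing R]
    [Algebra (X.presheaf.stalk x) R] [IsLocalHom (algebraMap (X.presheaf.stalk x) R)] :
    Hens2.specOf X x R (closedPoint R) = x := by
  rw [Hens2.specOf, Scheme.Hom.comp_apply]
  refine Eq.trans ?_ (Scheme.fromSpecStalk_closedPoint (X := X) (x := x))
  congr 1
  exact IsLocalRing.comap_closedPoint (algebraMap (X.presheaf.stalk x) R)

/-- The map of stalks at a point over which a strict local scheme lies. -/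
theorem exists_stalk_to {X : Scheme.{u}} {T : Type u} [CommRing T] [IsLocalRing T] (j : Spec (CommRingCat.of T) ⟶ X)
    (x : X) (hx : j (closedPoint T) = x) :
    ∃ Φ : X.presheaf.stalk x →+* T, IsLocalHom Φ ∧ Spec.map (CommRingCat.ofHom Φ) ≫ X.fromSpecStalk x = j := by
  subst hx
  exact ⟨(Scheme.stalkClosedPointTo j).hom, inferInstance, Scheme.Spec_stalkClosedPointTo_fromSpecStalk j⟩

/-- The local ring at the closed point of a local affine scheme. -/
theorem exists_stalk_equiv (B : Type u) [CommRing B] [IsLocalRing B] (y : Spec (CommRingCat.of B))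
    (hy : y = closedPoint B) :
    ∃ (γ : B →+* (Spec (CommRingCat.of B)).presheaf.stalk y)
      (α : (Spec (CommRingCat.of B)).presheaf.stalk y →+* B),
      Function.Bijective α ∧ α.comp γ = RingHom.id B ∧ γ.comp α = RingHom.id _ ∧
        Spec.map (CommRingCat.ofHom α) ≫ (Spec (CommRingCat.of B)).fromSpecStalk y = 𝟙 _ := by
  subst hy
  let e := (Scheme.stalkClosedPointTo (𝟙 (Spec (CommRingCat.of B))))
  haveI : IsIso e := by
    show IsIso ((𝟙 (Spec (CommRingCat.of B)) : _ ⟶ _).stalkMap _ ≫ (stalkClosedPointIso (CommRingCat.of B)).hom)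
    infer_instance
  refine ⟨(inv e).hom, e.hom, ConcreteCategory.bijective_of_isIso e, ?_, ?_, Scheme.Spec_stalkClosedPointTo_fromSpecStalk _⟩
  · exact congrArg CommRingCat.Hom.hom (IsIso.inv_hom_id e)
  · exact congrArg CommRingCat.Hom.hom (IsIso.hom_inv_id e)

theorem isStrictHenselization_of_bijective (S T : Type u) [CommRing S] [IsLocalRing S] [CommRing T] [IsLocalRing T]
    [Algebra S T] [IsLocalHom (algebraMap S T)] (hb : Function.Bijective (algebraMap S T))
    (h : HenselianLocalRing T) (hsep : IsSepClosed (ResidueField T)) : Hensel.IsStrictHenselization S T := by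
  refine ⟨h, ?_, fun T' _ _ f _ τ hτ => ?_⟩
  · refine Hensel.isSepClosure_of_surjective hsep fun z => ?_
    obtain ⟨t, rfl⟩ := residue_surjective z
    obtain ⟨s, rfl⟩ := hb.2 t
    exact ⟨residue S s, ResidueField.map_residue _ s⟩
  · let e := RingEquiv.ofBijective (algebraMap S T) hb
    refine ⟨f.comp e.symm.toRingHom, ⟨RingHom.ext fun s => congrArg f (e.symm_apply_apply s), fun t => ?_⟩,
      fun g hg => RingHom.ext fun t => ?_⟩
    · obtain ⟨s, rfl⟩ := hb.2 t
      refine Eq.trans ?_ (Eq.trans (RingHom.congr_fun hτ (residue S s)).symm ?_)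
      · rw [ResidueField.map_residue]
        exact congrArg (residue T' ∘ f) (e.symm_apply_apply s)
      · rw [RingHom.comp_apply, ResidueField.map_residue]
    · refine Eq.trans ?_ (RingHom.congr_fun hg.1 (e.symm t))
      exact congrArg g (e.apply_symm_apply t).symm

end Groth.Agent.HenselConn
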