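import Groth.Agent.Hensel.Henselization
import Mathlib.RingTheory.Smooth.NoetherianDescent
import Mathlib.RingTheory.Etale.Basic
import Mathlib.RingTheory.Flat.EquationalCriterion
import Mathlib.RingTheory.Unramified.Finite

/-!
# Algebras which are filtered unions of etale algebras
-/

set_option autoImplicit false

universe u

open TensorProduct IsLocalRing

namespace Groth.Agent.HenselConn

/-- Every finite subset lies in the image of an etale algebra. -/
def HasEtLift (P X : Type u) [CommRing P] [CommRing X] [Algebra P X] : Prop :=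
  ∀ T : Finset X, ∃ (C : Type u) (_ : CommRing C) (_ : Algebra P C) (_ : Algebra.Etale P C) (π : C →ₐ[P] X),
    ∀ t ∈ T, t ∈ π.range

variable {P X : Type u} [CommRing P] [CommRing X] [Algebra P X]

theorem HasEtLift.of_fraction
    (h : ∀ T : Finset X, ∃ (C : Type u) (_ : CommRing C) (_ : Algebra P C) (_ : Algebra.Etale P C) (π : C →ₐ[P] X),
      ∀ t ∈ T, ∃ c d : C, IsUnit (π d) ∧ t * π d = π c) : HasEtLift P X := by
  classical
  intro T
  obtain ⟨C, _, _, _, π, hπ⟩ := h T
  choose c d hd he using fun t : T => hπ t.1 t.2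
  let g := ∏ t : T, d t
  have hg : IsUnit (π g) := by rw [map_prod]; exact IsUnit.prod_univ_iff.2 hd
  let C' := Localization.Away g
  let π' : C' →ₐ[P] X := IsLocalization.liftAlgHom (A := P) (S := C') (M := Submonoid.powers g) (f := π) (fun y => by
    obtain ⟨n, hn⟩ := y.2
    rw [← hn, map_pow]
    exact hg.pow n)
  have hπ' : ∀ x, π' (algebraMap C C' x) = π x := fun x => by simp [π']
  refine ⟨C', inferInstance, inferInstance, inferInstance, π', fun t ht => ?_⟩
  have hu : IsUnit (algebraMap C C' (d ⟨t, ht⟩)) := by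
    have := IsLocalization.Away.algebraMap_isUnit (S := C') g
    rw [map_prod, IsUnit.prod_univ_iff] at this
    exact this _
  obtain ⟨v, hv⟩ := hu.exists_left_inv
  refine ⟨algebraMap C C' (c ⟨t, ht⟩) * v, ?_⟩
  have hv' : π' v * π (d ⟨t, ht⟩) = 1 := by rw [← hπ', ← map_mul, hv, map_one]
  show π' _ = t
  rw [map_mul, hπ', ← he ⟨t, ht⟩, mul_assoc, mul_comm (π _), hv', mul_one]

theorem HasEtLift.of_algEquiv {Y : Type u} [CommRing Y] [Algebra P Y] (h : HasEtLift P X) (e : X ≃ₐ[P] Y) :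
    HasEtLift P Y := by
  classical
  intro T
  obtain ⟨C, i₁, i₂, i₃, π, hπ⟩ := h (T.image e.symm)
  refine ⟨C, i₁, i₂, i₃, (e : X →ₐ[P] Y).comp π, fun t ht => ?_⟩
  obtain ⟨c, hc⟩ := hπ _ (Finset.mem_image_of_mem _ ht)
  exact ⟨c, (congrArg e hc).trans (e.apply_symm_apply t)⟩

theorem hasEtLift_henz (R K : Type u) [CommRing R] [CommRing K] [Algebra R K] :
    HasEtLift R (Hensel.Henz R K) := by
  refine .of_fraction fun T => ?_
  obtain ⟨N, -, hN⟩ := Hensel.Henz.exists_of_finset (Classical.arbitrary _) T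
  let π : N.B →ₐ[R] Hensel.Henz R K := (Hensel.Henz.of N).comp (IsScalarTower.toAlgHom R N.B N.Stage)
  refine ⟨N.B, inferInstance, inferInstance, inferInstance, π, fun t ht => ?_⟩
  obtain ⟨x, rfl⟩ := hN t ht
  obtain ⟨⟨b, s⟩, e⟩ := IsLocalization.surj N.S x
  refine ⟨b, s.1, (IsLocalization.map_units N.Stage s).map (Hensel.Henz.of N), ?_⟩
  show Hensel.Henz.of N x * Hensel.Henz.of N _ = Hensel.Henz.of N _
  rw [← map_mul]
  exact congrArg _ e

theorem hasEtLift_strict (R S : Type u) [CommRing R] [IsLocalRing R] [CommRing S] [IsLocalRing S] [Algebra R S]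
    [IsLocalHom (algebraMap R S)] [Hensel.IsStrictHenselization R S] : HasEtLift R S := by
  obtain ⟨e⟩ := Hensel.exists_algEquiv_strictHenz R S
  exact (hasEtLift_henz R _).of_algEquiv e

theorem flat_strict (R S : Type u) [CommRing R] [IsLocalRing R] [CommRing S] [IsLocalRing S] [Algebra R S]
    [IsLocalHom (algebraMap R S)] [Hensel.IsStrictHenselization R S] : Module.Flat R S := by
  obtain ⟨e⟩ := Hensel.exists_algEquiv_strictHenz R S
  exact Module.Flat.of_linearEquiv e.symm.toLinearEquiv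

/-- Descent of lifts along a localization. -/
theorem HasEtLift.of_isLocalization {A₁ : Type u} [CommRing A₁] [Algebra P A₁] [Algebra A₁ X] [IsScalarTower P A₁ X]
    (S : Submonoid P) [IsLocalization S A₁] (h : HasEtLift A₁ X) : HasEtLift P X := by
  classical
  refine .of_fraction fun T => ?_
  obtain ⟨C₁, _, _, _, π₁, hπ₁⟩ := h T
  obtain ⟨A₀, B₀, _, _, ⟨G, hG⟩, hB₀, ⟨e⟩⟩ := Algebra.Etale.exists_subalgebra_fg (R := ℤ) (A := A₁) (B := C₁)
  haveI := hB₀
  have hGA : ∀ x : G, (x : A₁) ∈ A₀ := fun x => hG ▸ Algebra.subset_adjoin x.2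
  let φ : MvPolynomial G ℤ →ₐ[ℤ] A₁ := MvPolynomial.aeval fun x : G => (x : A₁)
  have hφ : φ.range = A₀ := by
    rw [← hG, ← Algebra.adjoin_range_eq_range_aeval]
    simp
  choose p hp using fun x : G => IsLocalization.surj S (x : A₁)
  let g := ∏ x : G, ((p x).2 : P)
  have hgS : g ∈ S := Submonoid.prod_mem _ fun x _ => (p x).2.2
  let P' := Localization.Away g
  let l' : P' →ₐ[P] A₁ := IsLocalization.liftAlgHom (A := P) (S := P') (M := Submonoid.powers g) (f := Algebra.ofId P A₁)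
    (fun y => by
      obtain ⟨n, hn⟩ := y.2
      rw [← hn, map_pow]
      exact (IsLocalization.map_units A₁ ⟨g, hgS⟩).pow n)
  have hu : ∀ x : G, IsUnit (algebraMap P P' (p x).2) := fun x => by
    have := IsLocalization.Away.algebraMap_isUnit (S := P') g
    rw [map_prod, IsUnit.prod_univ_iff] at this
    exact this x
  choose v hv using fun x : G => (hu x).exists_left_inv
  let θ : MvPolynomial G ℤ →ₐ[ℤ] P' := MvPolynomial.aeval fun x : G => algebraMap P P' (p x).1 * v x
  have hl'x : ∀ x : G, l' (algebraMap P P' (p x).1 * v x) = x := fun x => by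
    have h1 : l' (v x) * algebraMap P A₁ (p x).2 = 1 := by rw [← l'.commutes, ← map_mul, hv, map_one]
    rw [map_mul, l'.commutes, ← hp x, mul_assoc, mul_comm (algebraMap P A₁ _), h1, mul_one]
  have hlθ : ∀ q, l' (θ q) = φ q := fun q => by
    refine AlgHom.congr_fun (φ₁ := (l'.restrictScalars ℤ).comp θ) (φ₂ := φ) (MvPolynomial.algHom_ext fun x => ?_) q
    simp [θ, φ, hl'x]
  obtain ⟨J, hJ⟩ := (IsNoetherian.noetherian (RingHom.ker φ.toRingHom))
  have hkill : ∀ j ∈ J, ∃ s ∈ S, algebraMap P P' s * θ j = 0 := fun j hj => by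
    obtain ⟨⟨a, ⟨_, n, rfl⟩⟩, ha⟩ := IsLocalization.surj (Submonoid.powers g) (θ j)
    have h0 : φ j = 0 := show j ∈ RingHom.ker φ.toRingHom from hJ ▸ Ideal.subset_span hj
    have ha0 : algebraMap P A₁ a = algebraMap P A₁ 0 := by
      rw [map_zero, ← l'.commutes a, ← ha, map_mul, hlθ, h0, zero_mul]
    obtain ⟨s, hs⟩ := (IsLocalization.eq_iff_exists S A₁).1 ha0
    refine ⟨(s : P) * g ^ n, S.mul_mem s.2 (S.pow_mem hgS n), ?_⟩
    rw [map_mul, mul_assoc, mul_comm _ (θ j), ha, ← map_mul, hs, mul_zero, map_zero]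
  choose s hs hs0 using hkill
  let g' := ∏ j : J, s j.1 j.2
  have hg'S : g' ∈ S := Submonoid.prod_mem _ fun j _ => hs j.1 j.2
  let P'' := Localization.Away (algebraMap P P' g')
  haveI : Algebra.Etale P P' := Algebra.Etale.of_isLocalizationAway g
  haveI : Algebra.Etale P' P'' := Algebra.Etale.of_isLocalizationAway (algebraMap P P' g')
  haveI : Algebra.Etale P P'' := Algebra.Etale.comp P P' P''
  let θ'' : MvPolynomial G ℤ →ₐ[ℤ] P'' := ((IsScalarTower.toAlgHom P P' P'').restrictScalars ℤ).comp θ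
  have hker : RingHom.ker φ.toRingHom ≤ RingHom.ker θ''.toRingHom := by
    rw [← hJ]
    refine Ideal.span_le.2 fun j hj => ?_
    show algebraMap P' P'' (θ j) = 0
    have hu' : IsUnit (algebraMap P' P'' (algebraMap P P' (s j hj))) :=
      isUnit_of_dvd_unit (map_dvd _ (map_dvd _ (Finset.dvd_prod_of_mem (fun j : J => s j.1 j.2) (Finset.mem_univ ⟨j, hj⟩))))
        (IsLocalization.Away.algebraMap_isUnit (S := P'') (algebraMap P P' g'))
    refine hu'.mul_right_eq_zero.1 ?_
    rw [← map_mul, hs0, map_zero]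
  let l'' : P'' →ₐ[P] A₁ := IsLocalization.liftAlgHom (A := P) (S := P'') (M := Submonoid.powers (algebraMap P P' g')) (f := l')
    (fun y => by
      obtain ⟨n, hn⟩ := y.2
      rw [← hn, map_pow, l'.commutes]
      exact (IsLocalization.map_units A₁ ⟨g', hg'S⟩).pow n)
  have hl'' : ∀ q, l'' (θ'' q) = φ q := fun q => by
    show l'' (algebraMap P' P'' (θ q)) = _
    simp [l'', hlθ]
  have hmem : ∀ a : A₀, ∃ q, φ q = (a : A₁) := fun a => by
    have : (a : A₁) ∈ φ.range := hφ.symm ▸ a.2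
    exact this
  choose q hq using hmem
  have hθeq : ∀ {a b}, φ a = φ b → θ'' a = θ'' b := fun {a b} e => by
    rw [← sub_eq_zero, ← map_sub]
    exact hker (show φ (a - b) = 0 by rw [map_sub, e, sub_self])
  let γ : A₀ →+* P'' :=
    { toFun := fun a => θ'' (q a)
      map_one' := (hθeq ((hq 1).trans (map_one φ).symm)).trans (map_one _)
      map_mul' := fun a b => (hθeq (((hq _).trans (congrArg₂ (· * ·) (hq a) (hq b)).symm).trans (map_mul φ _ _).symm)).trans (map_mul _ _ _)
      map_zero' := (hθeq ((hq 0).trans (map_zero φ).symm)).trans (map_zero _)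
      map_add' := fun a b => (hθeq (((hq _).trans (congrArg₂ (· + ·) (hq a) (hq b)).symm).trans (map_add φ _ _).symm)).trans (map_add _ _ _) }
  letI : Algebra A₀ P'' := γ.toAlgebra
  let C := P'' ⊗[A₀] B₀
  haveI : Algebra.Etale P'' C := inferInstance
  haveI : Algebra.Etale P C := Algebra.Etale.comp P P'' C
  let lA : P'' →ₐ[A₀] A₁ := { l''.toRingHom with commutes' := fun a => (hl'' _).trans (hq a) }
  let Θ : C →+* A₁ ⊗[A₀] B₀ := (Algebra.TensorProduct.map lA (AlgHom.id A₀ B₀)).toRingHom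
  let π : C →ₐ[P] X :=
    { π₁.toRingHom.comp (e.symm.toAlgHom.toRingHom.comp Θ) with
      commutes' := fun r => by
        show π₁ (e.symm (Algebra.TensorProduct.map lA (AlgHom.id A₀ B₀) ((algebraMap P P'' r) ⊗ₜ[A₀] (1 : B₀)))) = _
        rw [Algebra.TensorProduct.map_tmul, map_one]
        show π₁ (e.symm (algebraMap A₁ _ (l'' (algebraMap P P'' r)))) = _
        rw [e.symm.commutes, π₁.commutes, l''.commutes, ← IsScalarTower.algebraMap_apply] }
  have hrange : ∀ z : A₁ ⊗[A₀] B₀, ∃ r ∈ S, ∃ w : C, Θ w = algebraMap A₁ _ (algebraMap P A₁ r) * z := fun z => by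
    induction z using TensorProduct.induction_on with
    | zero => exact ⟨1, S.one_mem, 0, by rw [mul_zero, map_zero]⟩
    | tmul a b =>
      obtain ⟨⟨c, r⟩, hr⟩ := IsLocalization.surj S a
      refine ⟨r, r.2, (algebraMap P P'' c ⊗ₜ[A₀] b : C), ?_⟩
      show Algebra.TensorProduct.map lA (AlgHom.id A₀ B₀) _ = _
      rw [Algebra.TensorProduct.map_tmul]
      show l'' (algebraMap P P'' c) ⊗ₜ b = (algebraMap P A₁ r ⊗ₜ[A₀] (1 : B₀)) * _
      rw [l''.commutes, Algebra.TensorProduct.tmul_mul_tmul, one_mul, ← hr, mul_comm]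
    | add x y hx hy =>
      obtain ⟨r, hr, wx, hx⟩ := hx
      obtain ⟨r', hr', wy, hy⟩ := hy
      have hc : ∀ r : P, Θ (algebraMap P P'' r ⊗ₜ[A₀] (1 : B₀)) = algebraMap A₁ _ (algebraMap P A₁ r) := fun r => by
        show Algebra.TensorProduct.map lA (AlgHom.id A₀ B₀) _ = _
        rw [Algebra.TensorProduct.map_tmul, map_one]
        show l'' (algebraMap P P'' r) ⊗ₜ _ = _
        rw [l''.commutes]
        rfl
      refine ⟨r * r', S.mul_mem hr hr',
        (algebraMap P P'' r' ⊗ₜ[A₀] (1 : B₀) : C) * wx + (algebraMap P P'' r ⊗ₜ[A₀] (1 : B₀) : C) * wy, ?_⟩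
      rw [map_add, map_mul Θ, map_mul Θ, hc, hc, hx, hy, map_mul, map_mul]
      ring
  refine ⟨C, inferInstance, inferInstance, inferInstance, π, fun t ht => ?_⟩
  obtain ⟨c₁, hc₁⟩ := hπ₁ t ht
  obtain ⟨r, hr, w, hw⟩ := hrange (e c₁)
  refine ⟨w, (algebraMap P P'' r ⊗ₜ[A₀] (1 : B₀) : C), ?_, ?_⟩
  · rw [show π (algebraMap P P'' r ⊗ₜ[A₀] (1 : B₀) : C) = algebraMap P X r from π.commutes r, IsScalarTower.algebraMap_apply P A₁ X]
    exact (IsLocalization.map_units A₁ ⟨r, hr⟩).map _
  · show _ = π₁ (e.symm (Θ w))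
    rw [hw, map_mul, e.symm.commutes, e.symm_apply_apply, map_mul, π₁.commutes, show π (algebraMap P P'' r ⊗ₜ[A₀] (1 : B₀) : C) = algebraMap P X r from π.commutes r,
      ← IsScalarTower.algebraMap_apply, mul_comm, show π₁ c₁ = t from hc₁]

end Groth.Agent.HenselConn
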