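import Groth.Agent.HenselConn.Stage

/-!
# Connected geometric fibres of limits of etale algebras over a base change of a flat algebra
-/

set_option autoImplicit false

universe u

open TensorProduct IsLocalRing

namespace Groth.Agent.HenselConn

variable {R A Q BQ : Type u} [CommRing R] [CommRing A] [Algebra R A]

/-- Etale algebras over base changes of an algebra with geometrically reduced fibres keep them. -/
theorem isReduced_model [CommRing Q] [Algebra R Q] [CommRing BQ] [Algebra (Q ⊗[R] A) BQ]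
    [Algebra.Etale (Q ⊗[R] A) BQ] [Algebra Q BQ] [IsScalarTower Q (Q ⊗[R] A) BQ]
    (hgeo : ∀ (L : Type u) [Field L] [Algebra R L], IsReduced (L ⊗[R] A))
    (L : Type u) [Field L] [Algebra Q L] : IsReduced (L ⊗[Q] BQ) := by
  letI : Algebra R L := ((algebraMap Q L).comp (algebraMap R Q)).toAlgebra
  haveI : IsScalarTower R Q L := IsScalarTower.of_algebraMap_eq' rfl
  let N := (Q ⊗[R] A) ⊗[Q] L
  let eN : N ≃+* L ⊗[R] A := (Algebra.TensorProduct.comm Q (Q ⊗[R] A) L).toRingEquiv.trans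
    (Algebra.TensorProduct.cancelBaseChange R Q Q L A).toRingEquiv
  haveI := hgeo L
  haveI : IsReduced N := isReduced_of_injective eN.toRingHom eN.injective
  haveI : IsReduced (N ⊗[Q ⊗[R] A] BQ) := Hensel.isReduced_of_etale N (N ⊗[Q ⊗[R] A] BQ)
  let e : N ⊗[Q ⊗[R] A] BQ ≃+* L ⊗[Q] BQ :=
    ((Algebra.TensorProduct.comm (Q ⊗[R] A) N BQ).toRingEquiv.trans
      (Algebra.TensorProduct.cancelBaseChange Q (Q ⊗[R] A) (Q ⊗[R] A) BQ L).toRingEquiv).trans
      (Algebra.TensorProduct.comm Q BQ L).toRingEquiv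
  exact isReduced_of_injective e.symm e.symm.injective

variable (R A) (RY RX : Type u) [IsNoetherianRing R] [Module.Flat R A]
  [CommRing RY] [HenselianLocalRing RY] [IsSepClosed (ResidueField RY)] [Algebra R RY]
  [CommRing RX] [IsLocalRing RX] [Algebra RY RX] [IsLocalHom (algebraMap RY RX)] [Module.Flat RY RX]
  [Algebra (A ⊗[R] RY) RX] [Module.Flat (A ⊗[R] RY) RX]

/-- Fibres of a limit of etale algebras over a base change are geometrically connected. -/
theorem connectedSpace_fibre_limit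
    (hgeo : ∀ (L : Type u) [Field L] [Algebra R L], IsReduced (L ⊗[R] A))
    (hcompat : ∀ a : RY, algebraMap (A ⊗[R] RY) RX ((1 : A) ⊗ₜ[R] a) = algebraMap RY RX a)
    (hlift : ∀ S : Finset RX, ∃ (C : Type u) (_ : CommRing C) (_ : Algebra (A ⊗[R] RY) C)
      (_ : Algebra.Etale (A ⊗[R] RY) C) (π : C →ₐ[A ⊗[R] RY] RX), ∀ s ∈ S, s ∈ π.range)
    (L : Type u) [Field L] [Algebra RY L] : ConnectedSpace (PrimeSpectrum (L ⊗[RY] RX)) := by
  classical
  haveI : Module.FaithfullyFlat RY RX := Module.FaithfullyFlat.of_flat_of_isLocalHom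
  haveI : Nontrivial (L ⊗[RY] RX) := inferInstance
  refine FormCat.connectedSpace_of_idem _ fun e he => ?_
  obtain ⟨S, hS⟩ := TensorProduct.exists_finset (R := RY) e
  obtain ⟨C, _, _, _, π, hπ⟩ := hlift (S.image Prod.snd)
  choose c hc using fun i : S => hπ i.1.2 (Finset.mem_image_of_mem _ i.2)
  obtain ⟨Q, hQ, BQ, _, ρ, πC, hρ, hπρ, hπS⟩ := exists_etale_model R A RY C (Finset.univ.image c)
  choose b hb using fun i : S => hπS (c i) (Finset.mem_image_of_mem _ (Finset.mem_univ i))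
  haveI : IsNoetherianRing Q := by
    haveI : Algebra.FiniteType R Q := (Subalgebra.fg_iff_finiteType Q).1 hQ
    exact Algebra.FiniteType.isNoetherianRing R Q
  let cm : Q ⊗[R] A ≃+* A ⊗[R] Q := (Algebra.TensorProduct.comm R Q A).toRingEquiv
  let ρ' : Q ⊗[R] A →+* BQ := ρ.comp cm.toRingHom
  letI : Algebra (Q ⊗[R] A) BQ := ρ'.toAlgebra
  haveI : Algebra.Etale (Q ⊗[R] A) BQ := RingHom.etale_algebraMap.1
    (RingHom.Etale.stableUnderComposition _ _ (RingHom.Etale.of_bijective cm.bijective) hρ)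
  letI : Algebra Q BQ := (ρ'.comp (algebraMap Q (Q ⊗[R] A))).toAlgebra
  haveI : IsScalarTower Q (Q ⊗[R] A) BQ :=
    IsScalarTower.of_algebraMap_eq' (R := Q) (S := Q ⊗[R] A) (A := BQ) rfl
  letI : Algebra R BQ := ((algebraMap Q BQ).comp (algebraMap R Q)).toAlgebra
  haveI : IsScalarTower R Q BQ := IsScalarTower.of_algebraMap_eq' (R := R) (S := Q) (A := BQ) rfl
  haveI : Module.Flat Q BQ := Module.Flat.trans Q (Q ⊗[R] A) BQ
  let M := A ⊗[R] RY
  let πX : BQ →+* RX := (π : C →+* RX).comp πC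
  let ψQ : A ⊗[R] Q →+* M := (Algebra.TensorProduct.map (AlgHom.id A A) Q.val).toRingHom
  have hπX : ∀ z, πX (ρ z) = algebraMap M RX (ψQ z) := fun z => by
    show π (πC (ρ z)) = _
    rw [show πC (ρ z) = algebraMap M C (ψQ z) from RingHom.congr_fun hπρ z, π.commutes]
  let χ : BQ →ₐ[Q] RX :=
    { πX with
      commutes' := fun q => by
        show πX (ρ ((Algebra.TensorProduct.comm R Q A) (q ⊗ₜ (1 : A)))) = algebraMap RY RX (q : RY)
        rw [hπX, ← hcompat]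
        rfl }
  -- the model over `M`
  letI : Algebra (A ⊗[R] Q) BQ := ρ.toAlgebra
  haveI : Algebra.Etale (A ⊗[R] Q) BQ := RingHom.etale_algebraMap.1 hρ
  letI : Algebra (A ⊗[R] Q) M := ψQ.toAlgebra
  letI : Algebra (A ⊗[R] Q) RX := ((algebraMap M RX).comp ψQ).toAlgebra
  haveI : IsScalarTower (A ⊗[R] Q) M RX := IsScalarTower.of_algebraMap_eq' rfl
  haveI : IsScalarTower (A ⊗[R] Q) (A ⊗[R] Q) M :=
    IsScalarTower.of_algebraMap_eq' (R := A ⊗[R] Q) (S := A ⊗[R] Q) (A := M) rfl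
  let Cn := M ⊗[A ⊗[R] Q] BQ
  let χ' : BQ →ₐ[A ⊗[R] Q] RX := { πX with commutes' := hπX }
  let δn : Cn →ₐ[M] RX := Algebra.TensorProduct.lift (Algebra.ofId M RX) χ' fun _ _ => Commute.all _ _
  letI : Algebra Cn RX := δn.toRingHom.toAlgebra
  haveI : IsScalarTower M Cn RX := IsScalarTower.of_algebraMap_eq fun m => (δn.commutes m).symm
  haveI : IsScalarTower Cn Cn RX := IsScalarTower.of_algebraMap_eq' (R := Cn) (S := Cn) (A := RX) rfl
  haveI : Module.Flat Cn RX := Algebra.FormallyUnramified.flat_of_restrictScalars M Cn RX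
  letI : Algebra RY Cn := ((algebraMap M Cn).comp
    (Algebra.TensorProduct.includeRight : RY →ₐ[R] M).toRingHom).toAlgebra
  haveI : IsScalarTower RY Cn RX := IsScalarTower.of_algebraMap_eq fun a => by
    show _ = δn (algebraMap M Cn ((1 : A) ⊗ₜ[R] a))
    rw [δn.commutes, hcompat]
  let P := BQ ⊗[Q] RY
  let aA : A →ₐ[R] P :=
    { (Algebra.TensorProduct.includeLeftRingHom : BQ →+* P).comp
        (ρ.comp Algebra.TensorProduct.includeLeftRingHom) with
      commutes' := fun r => by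
        show ρ (algebraMap R A r ⊗ₜ[R] (1 : Q)) ⊗ₜ[Q] (1 : RY) = _
        rw [show algebraMap R A r ⊗ₜ[R] (1 : Q) = (1 : A) ⊗ₜ[R] algebraMap R Q r from
          Algebra.TensorProduct.tmul_one_eq_one_tmul r]
        rfl }
  let ΦM : M →ₐ[R] P := Algebra.TensorProduct.lift aA
    ((Algebra.TensorProduct.includeRight : RY →ₐ[Q] P).restrictScalars R) fun _ _ => Commute.all _ _
  have hΦ : ∀ z, ΦM (ψQ z) = algebraMap (A ⊗[R] Q) P z := fun z => by
    show ΦM (Algebra.TensorProduct.map (AlgHom.id A A) Q.val z) = ρ z ⊗ₜ[Q] (1 : RY)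
    induction z using TensorProduct.induction_on with
    | zero => simp
    | add a b ha hb => rw [map_add, map_add, ha, hb, map_add, TensorProduct.add_tmul]
    | tmul a q =>
      rw [Algebra.TensorProduct.map_tmul]
      show aA a * ((1 : BQ) ⊗ₜ[Q] algebraMap Q RY q) = _
      rw [← Algebra.TensorProduct.tmul_one_eq_one_tmul]
      show (ρ (a ⊗ₜ[R] (1 : Q)) ⊗ₜ[Q] (1 : RY)) * (ρ ((1 : A) ⊗ₜ[R] q) ⊗ₜ[Q] (1 : RY)) = _
      rw [Algebra.TensorProduct.tmul_mul_tmul, ← map_mul, Algebra.TensorProduct.tmul_mul_tmul, mul_one, one_mul,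
        mul_one]
  let ΦM' : M →ₐ[A ⊗[R] Q] P := { ΦM.toRingHom with commutes' := hΦ }
  let inB : BQ →ₐ[A ⊗[R] Q] P := { (Algebra.TensorProduct.includeLeftRingHom : BQ →+* P) with commutes' := fun _ => rfl }
  let Γ0 : Cn →ₐ[A ⊗[R] Q] P := Algebra.TensorProduct.lift ΦM' inB fun _ _ => Commute.all _ _
  have hδn : ∀ (m : M) (x : BQ), δn (m ⊗ₜ[A ⊗[R] Q] x) = algebraMap M RX m * πX x := fun m x =>
    Algebra.TensorProduct.lift_tmul _ _ _ m x
  have hΓ0t : ∀ (m : M) (x : BQ), Γ0 (m ⊗ₜ[A ⊗[R] Q] x) = ΦM m * (x ⊗ₜ[Q] (1 : RY)) := fun m x =>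
    Algebra.TensorProduct.lift_tmul _ _ _ m x
  have hΦt : ∀ (a : A) (y : RY), ΦM (a ⊗ₜ[R] y) = aA a * ((1 : BQ) ⊗ₜ[Q] y) := fun a y =>
    Algebra.TensorProduct.lift_tmul _ _ _ a y
  have h11 : ((1 : BQ) ⊗ₜ[Q] (1 : RY) : P) = 1 := rfl
  have hΓ0r : ∀ a : RY, Γ0 (((1 : A) ⊗ₜ[R] a) ⊗ₜ (1 : BQ)) = (1 : BQ) ⊗ₜ[Q] a := fun a => by
    rw [hΓ0t, hΦt, h11, map_one, one_mul, mul_one]
  have hΓ0b : ∀ x : BQ, Γ0 ((1 : M) ⊗ₜ[A ⊗[R] Q] x) = x ⊗ₜ[Q] (1 : RY) := fun x => by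
    rw [hΓ0t, map_one, one_mul]
  have hΓ0 : ∀ z, toLimit χ (Γ0 z) = δn z := by
    refine fun z => RingHom.congr_fun (f := (toLimit χ).toRingHom.comp Γ0.toRingHom) (g := δn.toRingHom) ?_ z
    refine Algebra.TensorProduct.ringHom_ext ?_ ?_
    · refine Algebra.TensorProduct.ringHom_ext ?_ ?_ <;> refine RingHom.ext fun a => ?_
      · show toLimit χ (Γ0 ((a ⊗ₜ[R] (1 : RY)) ⊗ₜ (1 : BQ))) = δn ((a ⊗ₜ[R] (1 : RY)) ⊗ₜ (1 : BQ))
        rw [hΓ0t, hΦt, h11, mul_one, mul_one, hδn, map_one, mul_one]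
        show toLimit χ (ρ (a ⊗ₜ[R] (1 : Q)) ⊗ₜ[Q] (1 : RY)) = _
        rw [toLimit_tmul, map_one, mul_one]
        exact (hπX _).trans (congrArg _ (Algebra.TensorProduct.map_tmul _ _ a (1 : Q)))
      · show toLimit χ (Γ0 (((1 : A) ⊗ₜ[R] a) ⊗ₜ (1 : BQ))) = δn (((1 : A) ⊗ₜ[R] a) ⊗ₜ (1 : BQ))
        rw [hΓ0r, hδn, map_one, mul_one, toLimit_tmul, map_one, one_mul, hcompat]
    · refine RingHom.ext fun x => ?_
      show toLimit χ (Γ0 ((1 : M) ⊗ₜ x)) = δn ((1 : M) ⊗ₜ x)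
      rw [hΓ0b, hδn, map_one, one_mul, toLimit_tmul, map_one, mul_one]
      rfl
  -- the fibres
  let T := BQ ⊗[Q] L
  let T' := Cn ⊗[RY] L
  let ΓP : P →ₐ[Q] T := Algebra.TensorProduct.map (AlgHom.id Q BQ) (IsScalarTower.toAlgHom Q RY L)
  let incR : L →+* T := (Algebra.TensorProduct.includeRight : L →ₐ[Q] T).toRingHom
  let ΓR : Cn →+* T := ΓP.toRingHom.comp Γ0.toRingHom
  have hΓR : ∀ a : RY, ΓR (algebraMap RY Cn a) = incR (algebraMap RY L a) := fun a => by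
    show ΓP (Γ0 (((1 : A) ⊗ₜ[R] a) ⊗ₜ (1 : BQ))) = (1 : BQ) ⊗ₜ[Q] algebraMap RY L a
    rw [hΓ0r]
    exact Algebra.TensorProduct.map_tmul _ _ _ _
  obtain ⟨Γ', hΓ'⟩ : ∃ Γ' : T' →+* T, ∀ (x : Cn) (l : L), Γ' (x ⊗ₜ[RY] l) = ΓR x * incR l := by
    letI algT : Algebra RY T := (incR.comp (algebraMap RY L)).toAlgebra
    exact ⟨(Algebra.TensorProduct.lift ({ ΓR with commutes' := hΓR } : Cn →ₐ[RY] T)
      ({ incR with commutes' := fun _ => rfl } : L →ₐ[RY] T) fun _ _ => Commute.all _ _).toRingHom,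
      fun x l => Algebra.TensorProduct.lift_tmul _ _ _ x l⟩
  let u : T := ∑ i : S, b i ⊗ₜ[Q] i.1.1
  let u' : T' := ∑ i : S, ((1 : M) ⊗ₜ[A ⊗[R] Q] b i) ⊗ₜ[RY] i.1.1
  have hΓu : Γ' u' = u := by
    rw [map_sum]
    refine Finset.sum_congr rfl fun i _ => ?_
    rw [hΓ']
    show ΓP (Γ0 ((1 : M) ⊗ₜ b i)) * ((1 : BQ) ⊗ₜ[Q] i.1.1) = _
    rw [hΓ0b, show ΓP (b i ⊗ₜ[Q] (1 : RY)) = b i ⊗ₜ[Q] algebraMap RY L 1 from Algebra.TensorProduct.map_tmul _ _ _ _,
      map_one, Algebra.TensorProduct.tmul_mul_tmul, mul_one, one_mul]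
  let Θ : T' →ₐ[RY] RX ⊗[RY] L :=
    Algebra.TensorProduct.map (IsScalarTower.toAlgHom RY Cn RX) (AlgHom.id RY L)
  have hbi : ∀ i : S, πX (b i) = i.1.2 := fun i => by
    show π (πC (b i)) = _
    rw [hb i]
    exact hc i
  have hΘu : Θ u' = Algebra.TensorProduct.comm RY L RX e := by
    rw [map_sum, hS, map_sum, ← Finset.sum_coe_sort S]
    refine Finset.sum_congr rfl fun i _ => ?_
    rw [Algebra.TensorProduct.map_tmul, Algebra.TensorProduct.comm_tmul]
    show δn ((1 : M) ⊗ₜ b i) ⊗ₜ[RY] i.1.1 = _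
    rw [hδn, map_one, one_mul, hbi]
  have hw : Θ (u' * u' - u') = 0 := by
    rw [map_sub, map_mul, hΘu, ← map_mul, he.eq, sub_self]
  have hkey : ∀ z : T', Algebra.TensorProduct.cancelBaseChange RY Cn Cn RX L ((1 : RX) ⊗ₜ[Cn] z) = Θ z := by
    intro z
    induction z using TensorProduct.induction_on with
    | zero => simp
    | add x y hx hy => rw [TensorProduct.tmul_add, map_add, map_add, hx, hy]
    | tmul x l =>
      rw [show Θ (x ⊗ₜ[RY] l) = algebraMap Cn RX x ⊗ₜ[RY] l from Algebra.TensorProduct.map_tmul _ _ _ _,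
        Algebra.TensorProduct.cancelBaseChange_tmul, Algebra.smul_def, mul_one]
  obtain ⟨t, ht, htw⟩ := exists_smul_eq_zero_of_flat (C := Cn) (X := RX) (T := T') (u' * u' - u')
    ((Algebra.TensorProduct.cancelBaseChange RY Cn Cn RX L).injective (by rw [hkey, hw, map_zero]))
  have hrel : ΓP (Γ0 t) * (u * u - u) = 0 := by
    have h0 := congrArg Γ' htw
    have hsm : ∀ z : T', t • z = (t ⊗ₜ[RY] (1 : L)) * z := by
      intro z
      induction z using TensorProduct.induction_on with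
      | zero => exact (smul_zero t).trans (MulZeroClass.mul_zero (M₀ := T') _).symm
      | add x y hx hy =>
        exact (smul_add t x y).trans ((congrArg₂ (· + ·) hx hy).trans (Distrib.left_distrib (R := T') _ _ _).symm)
      | tmul x l => rw [TensorProduct.smul_tmul', Algebra.TensorProduct.tmul_mul_tmul, one_mul, smul_eq_mul]
    rw [hsm, map_mul, map_sub, map_mul, hΓu, map_zero] at h0
    rw [← h0]
    congr 1
    rw [hΓ']
    simp [ΓR]
  have hU := idem_stage (L := L) (fun L' _ _ => isReduced_model hgeo L') χ u (Γ0 t) (by rw [hΓ0]; exact ht) hrel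
  have hΨu : toLimitFibre (RY := RY) χ u = e := by
    rw [map_sum, hS, ← Finset.sum_coe_sort S]
    refine Finset.sum_congr rfl fun i _ => ?_
    rw [toLimitFibre_tmul, show χ (b i) = i.1.2 from hbi i]
  rwa [hΨu] at hU

end Groth.Agent.HenselConn
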