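import Groth.Agent.HenselConn.ZeroAcyc
import Groth.Agent.HenselConn.Limit
import Groth.Agent.HenselConn.Lift

/-!
# 0-acyclicity of the maps of strict localizations
-/

set_option autoImplicit false

universe u

open TensorProduct IsLocalRing AlgebraicGeometry CategoryTheory

namespace Groth.Agent.HenselConn

/-- Lifts base change. -/
theorem HasEtLift.baseChange {P M X : Type u} [CommRing P] [CommRing M] [CommRing X] [Algebra P M] [Algebra P X]
    [Algebra M X] [IsScalarTower P M X] (h : HasEtLift P X) : HasEtLift M X := fun T => by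
  obtain ⟨C, _, _, _, π, hπ⟩ := h T
  refine ⟨M ⊗[P] C, inferInstance, inferInstance, inferInstance,
    Algebra.TensorProduct.lift (Algebra.ofId M X) π fun _ _ => Commute.all _ _, fun t ht => ?_⟩
  obtain ⟨c, hc⟩ := hπ t ht
  refine ⟨(1 : M) ⊗ₜ[P] c, ?_⟩
  show Algebra.TensorProduct.lift (Algebra.ofId M X) π _ _ = t
  rw [Algebra.TensorProduct.lift_tmul, map_one, one_mul]
  exact hc

variable {R A R' RY : Type u} [CommRing R] [CommRing A] [Algebra R A] [CommRing R'] [Algebra R R']
  [CommRing RY] [Algebra R RY] [Algebra R' RY] [IsScalarTower R R' RY]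

/-- The map of base changes. -/
noncomputable abbrev toBC : A ⊗[R] R' →ₐ[R] A ⊗[R] RY :=
  Algebra.TensorProduct.map (AlgHom.id R A) (IsScalarTower.toAlgHom R R' RY)

theorem exists_stage (h : HasEtLift R' RY) {l : ℕ} (f : Fin l → A ⊗[R] RY) :
    ∃ (C : Type u) (_ : CommRing C) (_ : Algebra R C) (_ : Algebra R' C) (_ : IsScalarTower R R' C)
      (_ : Algebra.Etale R' C) (π : C →ₐ[R'] RY),
      ∀ i, f i ∈ Set.range (Algebra.TensorProduct.map (AlgHom.id R A) (π.restrictScalars R)) := by
  classical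
  choose s hs using fun i => TensorProduct.exists_finset (R := R) (f i)
  obtain ⟨C, _, _, _, π, hπ⟩ := h (Finset.univ.biUnion fun i => (s i).image Prod.snd)
  letI : Algebra R C := ((algebraMap R' C).comp (algebraMap R R')).toAlgebra
  haveI : IsScalarTower R R' C := IsScalarTower.of_algebraMap_eq' rfl
  refine ⟨C, inferInstance, inferInstance, inferInstance, inferInstance, inferInstance, π, fun i => ?_⟩
  show f i ∈ (Algebra.TensorProduct.map (AlgHom.id R A) (π.restrictScalars R)).range
  rw [hs i]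
  refine sum_mem fun x hx => ?_
  obtain ⟨c, hc⟩ := hπ x.2 (Finset.mem_biUnion.2 ⟨i, Finset.mem_univ i, Finset.mem_image_of_mem _ hx⟩)
  exact ⟨x.1 ⊗ₜ c, (Algebra.TensorProduct.map_tmul _ _ _ _).trans (congrArg (x.1 ⊗ₜ[R] ·) hc)⟩

/-- Flatness over a base change along a union of etale algebras. -/
theorem flat_bc (RX : Type u) [CommRing RX] [Algebra (A ⊗[R] R') RX] [Algebra (A ⊗[R] RY) RX]
    [Module.Flat (A ⊗[R] R') RX] (h : HasEtLift R' RY)
    (hc : ∀ z, algebraMap (A ⊗[R] RY) RX (toBC z) = algebraMap (A ⊗[R] R') RX z) :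
    Module.Flat (A ⊗[R] RY) RX := by
  refine Module.Flat.iff_forall_isTrivialRelation.mpr fun {l f x} hfx => ?_
  obtain ⟨C, _, _, _, _, _, π, hπ⟩ := exists_stage h f
  choose f' hf' using hπ
  let P := A ⊗[R] R'
  letI : Algebra R' P := (Algebra.TensorProduct.includeRight : R' →ₐ[R] P).toRingHom.toAlgebra
  let N := P ⊗[R'] C
  let ψ : P →+* A ⊗[R] RY := toBC.toRingHom
  letI : Algebra R' (A ⊗[R] RY) := (ψ.comp (algebraMap R' P)).toAlgebra
  let ψ' : P →ₐ[R'] A ⊗[R] RY := { ψ with commutes' := fun _ => rfl }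
  let ι : C →ₐ[R'] A ⊗[R] RY :=
    { (Algebra.TensorProduct.includeRight : RY →ₐ[R] A ⊗[R] RY).toRingHom.comp π.toRingHom with
      commutes' := fun r => by
        show (1 : A) ⊗ₜ[R] π (algebraMap R' C r) = toBC ((1 : A) ⊗ₜ[R] r)
        rw [π.commutes, Algebra.TensorProduct.map_tmul]
        rfl }
  let θ : N →+* A ⊗[R] RY := (Algebra.TensorProduct.lift ψ' ι fun _ _ => Commute.all _ _).toRingHom
  let κ : A ⊗[R] C →+* N := (Algebra.TensorProduct.lift
    ({ ((Algebra.TensorProduct.includeLeftRingHom : P →+* N).comp (Algebra.TensorProduct.includeLeftRingHom : A →+* P)) with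
        commutes' := fun _ => rfl } : A →ₐ[R] N)
    ({ (Algebra.TensorProduct.includeRight : C →ₐ[R'] N).toRingHom with
        commutes' := fun r => by
          show (1 : P) ⊗ₜ[R'] algebraMap R C r = ((algebraMap R A r ⊗ₜ[R] (1 : R')) ⊗ₜ[R'] (1 : C))
          rw [IsScalarTower.algebraMap_apply R R' C, ← Algebra.TensorProduct.tmul_one_eq_one_tmul,
            Algebra.TensorProduct.tmul_one_eq_one_tmul r]
          rfl } : C →ₐ[R] N)
    fun _ _ => Commute.all _ _).toRingHom
  have hθκ : ∀ z, θ (κ z) = Algebra.TensorProduct.map (AlgHom.id R A) (π.restrictScalars R) z := fun z => by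
    induction z using TensorProduct.induction_on with
    | zero => rw [map_zero, map_zero, map_zero]
    | add a b ha hb => rw [map_add, map_add, map_add, ha, hb]
    | tmul a c =>
      show θ (((a ⊗ₜ[R] (1 : R')) ⊗ₜ[R'] (1 : C)) * ((1 : P) ⊗ₜ[R'] c)) = _
      rw [Algebra.TensorProduct.tmul_mul_tmul, mul_one, one_mul, Algebra.TensorProduct.map_tmul]
      show toBC (a ⊗ₜ[R] (1 : R')) * ι c = _
      rw [Algebra.TensorProduct.map_tmul, map_one]
      show (a ⊗ₜ[R] (1 : RY)) * ((1 : A) ⊗ₜ[R] π c) = _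
      rw [Algebra.TensorProduct.tmul_mul_tmul, mul_one, one_mul]
      rfl
  letI : Algebra N RX := ((algebraMap (A ⊗[R] RY) RX).comp θ).toAlgebra
  haveI : IsScalarTower P N RX := IsScalarTower.of_algebraMap_eq (R := P) (S := N) (A := RX) fun z => by
    show _ = algebraMap (A ⊗[R] RY) RX (θ (z ⊗ₜ[R'] (1 : C)))
    rw [show θ (z ⊗ₜ[R'] (1 : C)) = ψ' z * ι 1 from Algebra.TensorProduct.lift_tmul _ _ _ _ _, map_one, mul_one]
    exact (hc z).symm
  haveI : Algebra.Etale P N := inferInstance
  haveI : Module.Flat N RX := Algebra.FormallyUnramified.flat_of_restrictScalars P N RX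
  have hrel : ∑ i, κ (f' i) • x i = 0 := by
    refine Eq.trans (Finset.sum_congr rfl fun i _ => ?_) hfx
    rw [Algebra.smul_def, Algebra.smul_def, ← hf' i, ← hθκ]
    rfl
  obtain ⟨k, a, y, hy, ha⟩ := Module.Flat.isTrivialRelation_of_sum_smul_eq_zero (R := N) (f := fun i => κ (f' i)) (x := x) hrel
  refine ⟨k, fun i j => θ (a i j), y, fun i => ?_, fun j => ?_⟩
  · rw [hy i]
    exact Finset.sum_congr rfl fun j _ => (Algebra.smul_def _ _).trans ((Algebra.smul_def (θ (a i j)) (y j)).trans rfl).symm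
  · have := congrArg θ (ha j)
    rw [map_zero, map_sum] at this
    refine Eq.trans (Finset.sum_congr rfl fun i _ => ?_) this
    rw [map_mul, hθκ, hf' i]

/-- The map of strict localizations is faithfully flat with connected geometric fibres. -/
theorem connected_strict [IsNoetherianRing R] [Module.Flat R A]
    [HenselianLocalRing RY] [IsSepClosed (ResidueField RY)]
    (RX : Type u) [CommRing RX] [IsLocalRing RX] [Algebra RY RX] [IsLocalHom (algebraMap RY RX)]
    [Algebra (A ⊗[R] R') RX] [Module.Flat (A ⊗[R] R') RX]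
    (hgeo : ∀ (L : Type u) [Field L] [Algebra R L], IsReduced (L ⊗[R] A))
    (hY : HasEtLift R' RY) (hX : HasEtLift (A ⊗[R] R') RX)
    (hc : ∀ r : R', algebraMap (A ⊗[R] R') RX ((1 : A) ⊗ₜ[R] r) = algebraMap RY RX (algebraMap R' RY r)) :
    Module.FaithfullyFlat RY RX ∧ ∀ (L : Type u) [Field L] [Algebra RY L], ConnectedSpace (PrimeSpectrum (L ⊗[RY] RX)) := by
  letI : Algebra R RX := ((algebraMap RY RX).comp (algebraMap R RY)).toAlgebra
  let fA : A →ₐ[R] RX :=
    { (algebraMap (A ⊗[R] R') RX).comp Algebra.TensorProduct.includeLeftRingHom with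
      commutes' := fun r => by
        show algebraMap (A ⊗[R] R') RX (algebraMap R A r ⊗ₜ[R] (1 : R')) = algebraMap RY RX (algebraMap R RY r)
        rw [Algebra.TensorProduct.tmul_one_eq_one_tmul r, hc, IsScalarTower.algebraMap_apply R R' RY] }
  let gY : RY →ₐ[R] RX := { algebraMap RY RX with commutes' := fun _ => rfl }
  let σ : A ⊗[R] RY →+* RX := (Algebra.TensorProduct.lift fA gY fun _ _ => Commute.all _ _).toRingHom
  letI : Algebra (A ⊗[R] RY) RX := σ.toAlgebra
  have hσ : ∀ (a : A) (y : RY), σ (a ⊗ₜ[R] y) = fA a * algebraMap RY RX y := fun a y =>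
    Algebra.TensorProduct.lift_tmul _ _ _ _ _
  have hcz : ∀ z, algebraMap (A ⊗[R] RY) RX (toBC z) = algebraMap (A ⊗[R] R') RX z := fun z => by
    induction z using TensorProduct.induction_on with
    | zero => rw [map_zero, map_zero, map_zero]
    | add a b ha hb => rw [map_add, map_add, map_add, ha, hb]
    | tmul a r =>
      rw [Algebra.TensorProduct.map_tmul]
      show σ (a ⊗ₜ[R] algebraMap R' RY r) = _
      rw [hσ]
      show algebraMap (A ⊗[R] R') RX (a ⊗ₜ[R] (1 : R')) * _ = _
      rw [← hc, ← map_mul, Algebra.TensorProduct.tmul_mul_tmul, mul_one, one_mul]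
  have hcompat : ∀ y : RY, algebraMap (A ⊗[R] RY) RX ((1 : A) ⊗ₜ[R] y) = algebraMap RY RX y := fun y => by
    show σ _ = _
    rw [hσ, map_one, one_mul]
  haveI : Module.Flat (A ⊗[R] RY) RX := flat_bc RX hY hcz
  haveI : Module.Flat RY RX := by
    letI : Algebra RY (A ⊗[R] RY) := Algebra.TensorProduct.rightAlgebra
    haveI : IsScalarTower RY (A ⊗[R] RY) RX := IsScalarTower.of_algebraMap_eq fun y => (hcompat y).symm
    haveI : Module.Flat RY (A ⊗[R] RY) :=
      Module.Flat.of_linearEquiv (M := RY ⊗[R] A)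
        { (Algebra.TensorProduct.comm R A RY).toRingEquiv.toAddEquiv with
          map_smul' := fun y z => by
            show Algebra.TensorProduct.comm R A RY (y • z) = y • Algebra.TensorProduct.comm R A RY z
            rw [Algebra.smul_def, Algebra.smul_def, map_mul]
            rfl }
    exact Module.Flat.trans RY (A ⊗[R] RY) RX
  haveI : Module.FaithfullyFlat RY RX := Module.FaithfullyFlat.of_flat_of_isLocalHom
  letI : Algebra (A ⊗[R] R') (A ⊗[R] RY) := (toBC (R := R) (A := A) (R' := R') (RY := RY)).toRingHom.toAlgebra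
  haveI : IsScalarTower (A ⊗[R] R') (A ⊗[R] RY) RX := IsScalarTower.of_algebraMap_eq fun z => (hcz z).symm
  have hM : HasEtLift (A ⊗[R] RY) RX := hX.baseChange
  exact ⟨inferInstance, fun L _ _ => connectedSpace_fibre_limit R A RY RX hgeo hcompat hM L⟩

/-- The map of strict localizations is 0-acyclic. -/
theorem isZeroAcyclic_strict [IsNoetherianRing R] [Module.Flat R A]
    [HenselianLocalRing RY] [IsSepClosed (ResidueField RY)]
    (RX : Type u) [CommRing RX] [IsLocalRing RX] [Algebra RY RX] [IsLocalHom (algebraMap RY RX)]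
    [Algebra (A ⊗[R] R') RX] [Module.Flat (A ⊗[R] R') RX]
    (hgeo : ∀ (L : Type u) [Field L] [Algebra R L], IsReduced (L ⊗[R] A))
    (hY : HasEtLift R' RY) (hX : HasEtLift (A ⊗[R] R') RX)
    (hc : ∀ r : R', algebraMap (A ⊗[R] R') RX ((1 : A) ⊗ₜ[R] r) = algebraMap RY RX (algebraMap R' RY r)) :
    EtAcyc.IsZeroAcyclic (Spec.map (CommRingCat.ofHom (algebraMap RY RX))) := by
  haveI := (connected_strict RX hgeo hY hX hc).1
  exact isZeroAcyclic_spec RY RX (connected_strict RX hgeo hY hX hc).2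

end Groth.Agent.HenselConn
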