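import Groth.Agent.HenselConn.GenericFibre
import Groth.Agent.HenselConn.Strict
import Mathlib.AlgebraicGeometry.Morphisms.UniversallyOpen

/-!
# Universally generalizing morphisms and universally locally 0-acyclic morphisms
-/

set_option autoImplicit false

universe u

open CategoryTheory CategoryTheory.Limits AlgebraicGeometry IsLocalRing TensorProduct

namespace Groth.Agent.HenselConn

theorem flat_fromSpecStalk {X : Scheme.{u}} (x : X) : Flat (X.fromSpecStalk x) := by
  obtain ⟨U, hU, hxU, -⟩ := exists_isAffineOpen_mem_and_subset (show x ∈ (⊤ : X.Opens) from trivial)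
  rw [← hU.fromSpecStalk_eq_fromSpecStalk hxU, IsAffineOpen.fromSpecStalk]
  have : Flat (Spec.map (X.presheaf.germ U x hxU)) := by
    rw [HasRingHomProperty.Spec_iff (P := @Flat)]
    let : Algebra Γ(X, U) (X.presheaf.stalk x) := (X.presheaf.germ U x hxU).hom.toAlgebra
    have := hU.isLocalization_stalk ⟨x, hxU⟩
    exact IsLocalization.flat (X.presheaf.stalk x) (hU.primeIdealOf ⟨x, hxU⟩).asIdeal.primeCompl
  infer_instance

/-- Morphisms all of whose base changes are generalizing. -/
abbrev UGen : MorphismProperty Scheme.{u} := (topologically GeneralizingMap).universally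

theorem uGen_of_flat {X Y : Scheme.{u}} (f : X ⟶ Y) [Flat f] : UGen f :=
  MorphismProperty.universally_mk' (topologically GeneralizingMap) f fun _ _ => Flat.generalizingMap _

theorem uGen_comp {X Y Z : Scheme.{u}} (f : X ⟶ Y) (h : Y ⟶ Z) (hf : UGen f) (hh : UGen h) : UGen (f ≫ h) := by
  haveI : (topologically GeneralizingMap).IsStableUnderComposition :=
    topologically_isStableUnderComposition _ fun _ _ a b => a.comp b
  exact MorphismProperty.comp_mem _ _ _ hf hh

/-- A surjective quasi-compact generalizing morphism is a quotient map. -/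
theorem isQuotientMap_of_generalizing {X Y : Scheme.{u}} (f : X ⟶ Y) [QuasiCompact f] [Surjective f]
    (hf : GeneralizingMap f) : Topology.IsQuotientMap f := by
  rw [Topology.isQuotientMap_iff]
  refine ⟨.of_isOpen_preimage_iff_isOpen fun s ↦
    ⟨fun hs ↦ ?_, fun hs ↦ hs.preimage f.continuous⟩, f.surjective⟩
  wlog hY : ∃ R, Y = Spec R
  · let 𝒰 := Y.affineCover
    rw [𝒰.isOpenCover_opensRange.isOpen_iff_inter]
    intro i
    rw [Scheme.Hom.coe_opensRange, ← Set.image_preimage_eq_inter_range]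
    apply (𝒰.f i).isOpenEmbedding.isOpenMap
    refine this (f := pullback.fst (𝒰.f i) f) ?_ _ ?_ ⟨_, rfl⟩
    · exact IsZariskiLocalAtTarget.of_isPullback (P := topologically GeneralizingMap)
        (IsPullback.of_hasPullback (𝒰.f i) f).flip hf
    rw [← Set.preimage_comp, ← TopCat.coe_comp, ← Scheme.Hom.comp_base, pullback.condition,
      Scheme.Hom.comp_base, TopCat.coe_comp, Set.preimage_comp]
    exact hs.preimage (Scheme.Hom.continuous _)
  obtain ⟨R, rfl⟩ := hY
  haveI : CompactSpace X := QuasiCompact.compactSpace_of_compactSpace f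
  let 𝒰 := X.affineCover.finiteSubcover
  let p : ∐ (fun i : 𝒰.I₀ ↦ 𝒰.X i) ⟶ X := Sigma.desc (fun i ↦ 𝒰.f i)
  haveI : ∀ i, Flat (𝒰.f i) := fun i => inferInstance
  let p' := (∐ (fun i : 𝒰.I₀ ↦ 𝒰.X i)).isoSpec.inv ≫ p
  have hp' : Function.Surjective p' := fun x => by
    obtain ⟨i, y, rfl⟩ := 𝒰.exists_eq x
    obtain ⟨z, hz⟩ := (∐ (fun i : 𝒰.I₀ ↦ 𝒰.X i)).isoSpec.inv.surjective (Sigma.ι (fun i : 𝒰.I₀ ↦ 𝒰.X i) i y)
    refine ⟨z, ?_⟩
    rw [Scheme.Hom.comp_apply, hz, ← Scheme.Hom.comp_apply, Sigma.ι_desc]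
  obtain ⟨φ, hφ⟩ := Spec.map_surjective (p' ≫ f)
  have hsurj : Function.Surjective (Spec.map φ) := by
    rw [hφ, Scheme.Hom.comp_base, TopCat.coe_comp]
    exact f.surjective.comp hp'
  have hgen : GeneralizingMap (Spec.map φ) := by
    rw [hφ, Scheme.Hom.comp_base, TopCat.coe_comp]
    exact (Flat.generalizingMap _).comp hf
  refine ((PrimeSpectrum.isQuotientMap_of_generalizingMap hsurj hgen).isOpen_preimage).mp ?_
  show IsOpen ((Spec.map φ) ⁻¹' s)
  rw [hφ, Scheme.Hom.comp_base, TopCat.coe_comp, Set.preimage_comp]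
  exact hs.preimage p'.continuous

theorem isUnivSubmersive_of_uGen {X Y : Scheme.{u}} (f : X ⟶ Y) [QuasiCompact f] [Surjective f] (hf : UGen f) :
    EtDesc.IsUnivSubmersive f := fun T g => by
  haveI : QuasiCompact (pullback.snd f g) := inferInstance
  haveI : Surjective (pullback.snd f g) := MorphismProperty.pullback_snd _ _ inferInstance
  exact ⟨Surjective.surj, isQuotientMap_of_generalizing _ (hf _ _ _ (IsPullback.of_hasPullback f g).flip)⟩

theorem connectedSpace_of_uloc_field {X Y : Scheme.{u}} (g : X ⟶ Y) (hg : EtAcyc.IsULocZeroAcyclic g)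
    (x : X) (RY RX : Type u) [CommRing RY] [CommRing RX] [IsLocalRing RY] [IsLocalRing RX]
    [Algebra (Y.presheaf.stalk (g.base x)) RY] [IsLocalHom (algebraMap (Y.presheaf.stalk (g.base x)) RY)]
    [Hensel.IsStrictHenselization (Y.presheaf.stalk (g.base x)) RY]
    [Algebra (X.presheaf.stalk x) RX] [IsLocalHom (algebraMap (X.presheaf.stalk x) RX)]
    [Hensel.IsStrictHenselization (X.presheaf.stalk x) RX]
    [Algebra RY RX] [IsLocalHom (algebraMap RY RX)]
    (hsq : (algebraMap RY RX).comp (algebraMap (Y.presheaf.stalk (g.base x)) RY) =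
      (algebraMap (X.presheaf.stalk x) RX).comp (g.stalkMap x).hom)
    (p : PrimeSpectrum RY) : ∃ q : PrimeSpectrum RX, PrimeSpectrum.comap (algebraMap RY RX) q = p := by
  let Ω := AlgebraicClosure p.asIdeal.ResidueField
  haveI := connectedSpace_of_uloc g hg x RY RX hsq Ω
  obtain ⟨Q⟩ := (inferInstance : Nonempty (PrimeSpectrum (Ω ⊗[RY] RX)))
  let incl := (Algebra.TensorProduct.includeRight : RX →ₐ[RY] Ω ⊗[RY] RX).toRingHom
  refine ⟨PrimeSpectrum.comap incl Q, ?_⟩
  rw [← PrimeSpectrum.comap_comp_apply,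
    show incl.comp (algebraMap RY RX) = (Algebra.TensorProduct.includeLeftRingHom : Ω →+* Ω ⊗[RY] RX).comp (algebraMap RY Ω) from
      RingHom.ext fun r => (Algebra.TensorProduct.tmul_one_eq_one_tmul r).symm,
    PrimeSpectrum.comap_comp_apply]
  refine PrimeSpectrum.ext ?_
  let P : PrimeSpectrum Ω := PrimeSpectrum.comap (Algebra.TensorProduct.includeLeftRingHom : Ω →+* Ω ⊗[RY] RX) Q
  show Ideal.comap (algebraMap RY Ω) P.asIdeal = _
  rw [(Ideal.eq_bot_or_top P.asIdeal).resolve_right P.isPrime.ne_top, IsScalarTower.algebraMap_eq RY p.asIdeal.ResidueField Ω,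
    ← Ideal.comap_comap, Ideal.comap_bot_of_injective _ (algebraMap p.asIdeal.ResidueField Ω).injective]
  exact Ideal.ker_algebraMap_residueField _

/-- Universally locally 0-acyclic morphisms are universally generalizing. -/
theorem uGen_of_uloc {X Y : Scheme.{u}} (g : X ⟶ Y) (hg : EtAcyc.IsULocZeroAcyclic g) : UGen g := by
  intro X₁ Y₁ b' b g₁ H
  have hg₁ : EtAcyc.IsULocZeroAcyclic g₁ := fun X₂ Y₂ g₂ c' c H₂ => hg g₂ _ _ (H₂.paste_horiz H.flip)
  intro x₁ y' hy
  let OY := Y₁.presheaf.stalk (g₁ x₁)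
  let OX := X₁.presheaf.stalk x₁
  let RY := Hensel.StrictHenz OY
  let RX := Hensel.StrictHenz OX
  haveI : Algebra.IsSeparable (ResidueField OY) (ResidueField RY) :=
    (Hensel.IsStrictHenselization.isSepClosure (R := OY) (S := RY)).separable
  haveI : IsSepClosed (ResidueField RX) :=
    (Hensel.IsStrictHenselization.isSepClosure (R := OX) (S := RX)).sep_closed
  let f₀ : OY →+* RX := (algebraMap OX RX).comp (g₁.stalkMap x₁).hom
  haveI : IsLocalHom f₀ := RingHom.isLocalHom_comp _ _
  letI : Algebra (ResidueField OY) (ResidueField RX) := (ResidueField.map f₀).toAlgebra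
  let τa : ResidueField RY →ₐ[ResidueField OY] ResidueField RX := IsSepClosed.lift
  obtain ⟨φ, ⟨hφ, hφr⟩, -⟩ := Hensel.IsStrictHenselization.universal (R := OY) (S := RY) RX f₀ τa.toRingHom
    (RingHom.ext τa.commutes)
  letI : Algebra RY RX := φ.toAlgebra
  haveI : IsLocalHom (algebraMap RY RX) := ⟨fun r hr => by
    by_contra hn
    have h0 : residue RX (φ r) = 0 := by
      rw [hφr, (residue_eq_zero_iff r).mpr hn, map_zero]
    exact ((residue_eq_zero_iff _).1 h0) hr⟩
  haveI : Module.Flat OY RY := flat_strict OY RY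
  haveI : Module.FaithfullyFlat OY RY := Module.FaithfullyFlat.of_flat_of_isLocalHom
  obtain ⟨p₀, rfl⟩ : y' ∈ Set.range (Y₁.fromSpecStalk (g₁ x₁)) := by
    rw [Scheme.range_fromSpecStalk]; exact hy
  obtain ⟨p, hp⟩ := PrimeSpectrum.comap_surjective_of_faithfullyFlat (B := RY) p₀
  obtain ⟨q, hq⟩ := connectedSpace_of_uloc_field g₁ hg₁ x₁ RY RX hφ p
  refine ⟨Hens2.specOf X₁ x₁ RX q, ?_, ?_⟩
  · exact (Set.ext_iff.1 (Scheme.range_fromSpecStalk) _).1 ⟨_, (Scheme.Hom.comp_apply _ _ _).symm⟩
  · rw [← Scheme.Hom.comp_apply, specOf_comp g₁ x₁ RY RX hφ, Scheme.Hom.comp_apply, Hens2.specOf, Scheme.Hom.comp_apply]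
    exact congrArg (Y₁.fromSpecStalk (g₁ x₁)) ((congrArg (PrimeSpectrum.comap (algebraMap OY RY)) hq).trans hp)

/-- A strict localization map is universally generalizing when the morphism is. -/
theorem uGen_strict {X Y : Scheme.{u}} (g : X ⟶ Y) (hg : UGen g) (x : X) (RY RX : Type u) [CommRing RY] [CommRing RX]
    [IsLocalRing RY] [IsLocalRing RX]
    [Algebra (Y.presheaf.stalk (g.base x)) RY] [IsLocalHom (algebraMap (Y.presheaf.stalk (g.base x)) RY)]
    [Hensel.IsStrictHenselization (Y.presheaf.stalk (g.base x)) RY]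
    [Algebra (X.presheaf.stalk x) RX] [IsLocalHom (algebraMap (X.presheaf.stalk x) RX)]
    [Hensel.IsStrictHenselization (X.presheaf.stalk x) RX]
    [Algebra RY RX]
    (hsq : (algebraMap RY RX).comp (algebraMap (Y.presheaf.stalk (g.base x)) RY) =
      (algebraMap (X.presheaf.stalk x) RX).comp (g.stalkMap x).hom) :
    UGen (Spec.map (CommRingCat.ofHom (algebraMap RY RX))) := by
  let OY := Y.presheaf.stalk (g.base x)
  let OX := X.presheaf.stalk x
  letI : Algebra OY OX := (g.stalkMap x).hom.toAlgebra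
  have hgg : UGen (Spec.map (CommRingCat.ofHom (algebraMap OY OX))) := by
    have h1 : UGen (Spec.map (CommRingCat.ofHom (algebraMap OY OX)) ≫ Y.fromSpecStalk (g.base x)) := by
      rw [show CommRingCat.ofHom (algebraMap OY OX) = g.stalkMap x from rfl, Scheme.SpecMap_stalkMap_fromSpecStalk g]
      haveI : Flat (X.fromSpecStalk x) := flat_fromSpecStalk x
      exact uGen_comp _ g (uGen_of_flat _) hg
    exact MorphismProperty.of_isPullback (P := UGen)
      (IsPullback.of_vert_isIso_mono (fst := Spec.map (CommRingCat.ofHom (algebraMap OY OX))) (snd := 𝟙 _)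
        (f := Y.fromSpecStalk (g.base x))
        (g := Spec.map (CommRingCat.ofHom (algebraMap OY OX)) ≫ Y.fromSpecStalk (g.base x)) ⟨by simp⟩).flip h1
  letI : Algebra (OX ⊗[OY] OY) RX :=
    ((algebraMap OX RX).comp (Algebra.TensorProduct.rid OY OY OX).toAlgHom.toRingHom).toAlgebra
  haveI : Module.Flat (OX ⊗[OY] OY) RX := by
    haveI := flat_strict OX RX
    exact RingHom.flat_algebraMap_iff.1
      ((RingHom.Flat.of_bijective (Algebra.TensorProduct.rid OY OY OX).bijective).comp (RingHom.flat_algebraMap_iff.2 ‹_›))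
  letI : Algebra OY RX := ((algebraMap RY RX).comp (algebraMap OY RY)).toAlgebra
  let σ : OX ⊗[OY] RY →+* RX :=
    (Algebra.TensorProduct.lift ({ algebraMap OX RX with commutes' := fun r => (RingHom.congr_fun hsq r).symm } : OX →ₐ[OY] RX)
      ({ algebraMap RY RX with commutes' := fun _ => rfl } : RY →ₐ[OY] RX) fun _ _ => Commute.all _ _).toRingHom
  have hσ : ∀ a y, σ (a ⊗ₜ[OY] y) = algebraMap OX RX a * algebraMap RY RX y := fun a y =>
    Algebra.TensorProduct.lift_tmul _ _ _ a y
  letI : Algebra (OX ⊗[OY] RY) RX := σ.toAlgebra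
  haveI : Module.Flat (OX ⊗[OY] RY) RX := flat_bc RX (hasEtLift_strict OY RY) fun z => by
    induction z using TensorProduct.induction_on with
    | zero => rw [map_zero, map_zero, map_zero]
    | add a b ha hb => rw [map_add, map_add, map_add, ha, hb]
    | tmul a r =>
      rw [Algebra.TensorProduct.map_tmul]
      show σ (a ⊗ₜ[OY] algebraMap OY RY r) = algebraMap OX RX (Algebra.TensorProduct.rid OY OY OX (a ⊗ₜ r))
      rw [hσ, Algebra.TensorProduct.rid_tmul, Algebra.smul_def, map_mul, mul_comm, ← RingHom.comp_apply, hsq]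
      rfl
  let ι : RY →+* OX ⊗[OY] RY := (Algebra.TensorProduct.includeRight : RY →ₐ[OY] OX ⊗[OY] RY).toRingHom
  have hfac : Spec.map (CommRingCat.ofHom (algebraMap RY RX)) = Spec.map (CommRingCat.ofHom σ) ≫ Spec.map (CommRingCat.ofHom ι) := by
    rw [← Spec.map_comp, ← CommRingCat.ofHom_comp]
    congr 2
    refine RingHom.ext fun y => ?_
    show _ = σ ((1 : OX) ⊗ₜ[OY] y)
    rw [hσ, map_one, one_mul]
  rw [hfac]
  haveI : Flat (Spec.map (CommRingCat.ofHom σ)) :=
    (HasRingHomProperty.Spec_iff (P := @Flat)).2 (RingHom.flat_algebraMap_iff.2 (inferInstance : Module.Flat (OX ⊗[OY] RY) RX))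
  refine uGen_comp _ _ (uGen_of_flat _) (MorphismProperty.of_isPullback (P := UGen)
    (isPullback_SpecMap_of_isPushout _ _ _ _ (CommRingCat.isPushout_tensorProduct OY OX RY)) hgg)

/-- The maps of strict localizations are universally submersive. -/
theorem isUnivSubmersive_strict {X Y : Scheme.{u}} (g : X ⟶ Y) (hg : EtAcyc.IsULocZeroAcyclic g) (x : X) (RY RX : Type u)
    [CommRing RY] [CommRing RX] [IsLocalRing RY] [IsLocalRing RX]
    [Algebra (Y.presheaf.stalk (g.base x)) RY] [IsLocalHom (algebraMap (Y.presheaf.stalk (g.base x)) RY)]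
    [Hensel.IsStrictHenselization (Y.presheaf.stalk (g.base x)) RY]
    [Algebra (X.presheaf.stalk x) RX] [IsLocalHom (algebraMap (X.presheaf.stalk x) RX)]
    [Hensel.IsStrictHenselization (X.presheaf.stalk x) RX]
    [Algebra RY RX] [IsLocalHom (algebraMap RY RX)]
    (hsq : (algebraMap RY RX).comp (algebraMap (Y.presheaf.stalk (g.base x)) RY) =
      (algebraMap (X.presheaf.stalk x) RX).comp (g.stalkMap x).hom) :
    EtDesc.IsUnivSubmersive (Spec.map (CommRingCat.ofHom (algebraMap RY RX))) := by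
  haveI : Surjective (Spec.map (CommRingCat.ofHom (algebraMap RY RX))) :=
    ⟨fun p => connectedSpace_of_uloc_field g hg x RY RX hsq p⟩
  exact isUnivSubmersive_of_uGen _ (uGen_strict g (uGen_of_uloc g hg) x RY RX hsq)

end Groth.Agent.HenselConn
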