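import Groth.Agent.HenselConn.Sections

/-!
# A criterion for 0-acyclicity of affine morphisms
-/

set_option autoImplicit false

universe u

open CategoryTheory CategoryTheory.Limits AlgebraicGeometry Opposite TensorProduct

namespace Groth.Agent.HenselConn

theorem isUnivSubmersive_of_flat {X Y : Scheme.{u}} (f : X ⟶ Y) [Flat f] [QuasiCompact f] [Surjective f] :
    EtDesc.IsUnivSubmersive f := fun T g => by
  haveI : Flat (pullback.snd f g) := inferInstance
  haveI : QuasiCompact (pullback.snd f g) := inferInstance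
  haveI : Surjective (pullback.snd f g) := MorphismProperty.pullback_snd _ _ inferInstance
  exact ⟨Surjective.surj, Flat.isQuotientMap_of_surjective _⟩

/-- Flat surjective quasi-compact morphisms with connected geometric fibres are 0-acyclic. -/
theorem isZeroAcyclic_of_connected {X Y : Scheme.{u}} (f : X ⟶ Y) [Flat f] [QuasiCompact f] [Surjective f]
    (hc : ∀ (Ω : Type u) [Field Ω] [IsAlgClosed Ω] (s : Spec (CommRingCat.of Ω) ⟶ Y), ConnectedSpace ↥(pullback f s)) :
    EtAcyc.IsZeroAcyclic f := fun V F => by
  haveI : Flat (EtAcyc.prj f V) := inferInstanceAs (Flat (pullback.fst V.hom f))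
  haveI : QuasiCompact (EtAcyc.prj f V) := inferInstanceAs (QuasiCompact (pullback.fst V.hom f))
  haveI : Surjective (EtAcyc.prj f V) := MorphismProperty.pullback_fst _ _ inferInstance
  refine isIso_unit_of_connected _ (isUnivSubmersive_of_flat _) (fun Ω _ _ s => ?_) F
  haveI := hc Ω (s ≫ V.hom)
  let φ : pullback f (s ≫ V.hom) ≅ pullback (pullback.fst V.hom f) s :=
    pullbackSymmetry _ _ ≪≫ (pullbackRightPullbackFstIso V.hom f s).symm ≪≫ pullbackSymmetry _ _
  exact (Scheme.homeoOfIso φ).surjective.connectedSpace (Scheme.homeoOfIso φ).continuous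

/-- A flat local homomorphism with geometrically connected fibres is 0-acyclic. -/
theorem isZeroAcyclic_spec (A B : Type u) [CommRing A] [CommRing B] [Algebra A B] [Module.FaithfullyFlat A B]
    (hc : ∀ (L : Type u) [Field L] [Algebra A L], ConnectedSpace (PrimeSpectrum (L ⊗[A] B))) :
    EtAcyc.IsZeroAcyclic (Spec.map (CommRingCat.ofHom (algebraMap A B))) := by
  haveI : Flat (Spec.map (CommRingCat.ofHom (algebraMap A B))) :=
    HasRingHomProperty.Spec_iff.2 (RingHom.flat_algebraMap_iff.2 inferInstance)
  haveI : Surjective (Spec.map (CommRingCat.ofHom (algebraMap A B))) := ⟨PrimeSpectrum.comap_surjective_of_faithfullyFlat⟩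
  refine isZeroAcyclic_of_connected _ fun Ω _ _ s => ?_
  obtain ⟨φ, rfl⟩ := Spec.map_surjective s
  algebraize [φ.hom]
  haveI := hc Ω
  haveI : ConnectedSpace (PrimeSpectrum (B ⊗[A] Ω)) :=
    (PrimeSpectrum.homeomorphOfRingEquiv (Algebra.TensorProduct.comm A Ω B).toRingEquiv).surjective.connectedSpace
      (PrimeSpectrum.homeomorphOfRingEquiv (Algebra.TensorProduct.comm A Ω B).toRingEquiv).continuous
  have φ' := Scheme.homeoOfIso (pullbackSpecIso A B Ω).symm
  haveI : ConnectedSpace ↥(Spec (CommRingCat.of (B ⊗[A] Ω))) := inferInstanceAs (ConnectedSpace (PrimeSpectrum (B ⊗[A] Ω)))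
  exact φ'.surjective.connectedSpace φ'.continuous

end Groth.Agent.HenselConn
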