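import Groth.Agent.HenselConn.TwoPoint
import Groth.Prelude.Def_EtAcyc
import Groth.Agent.FormCat.GeomConnected

/-!
# 0-acyclicity and connectedness over basic opens
-/

set_option autoImplicit false

universe u

open CategoryTheory CategoryTheory.Limits AlgebraicGeometry Opposite TensorProduct

namespace Groth.Agent.HenselConn

theorem idem_trivial {T : Type u} [CommRing T] [ConnectedSpace (PrimeSpectrum T)] {e : T} (he : IsIdempotentElem e) :
    e = 0 ∨ e = 1 := by
  rcases isClopen_iff.1 (PrimeSpectrum.isClopen_iff.2 ⟨e, he, rfl⟩) with h | h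
  · exact Or.inl (PrimeSpectrum.basicOpen_injOn_isIdempotentElem he IsIdempotentElem.zero
      (SetLike.coe_injective (h.trans (by simp))))
  · exact Or.inr (PrimeSpectrum.basicOpen_injOn_isIdempotentElem he IsIdempotentElem.one
      (SetLike.coe_injective (h.trans (by simp))))

theorem secPull_bijective_of_isIso_unit {X T : Scheme.{u}} (f : T ⟶ X) (F : EtDesc.Sh X)
    (h : IsIso ((EtDesc.adjSh f).unit.app F)) : Function.Bijective (EtDesc.secPull f F) := by
  haveI := h
  haveI : IsIso ((EtDesc.adjSh f).unit.app F).hom := (sheafToPresheaf _ _).map_isIso ((EtDesc.adjSh f).unit.app F)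
  exact (ConcreteCategory.bijective_of_isIso (((EtDesc.pullSh f).obj F).obj.map (EtCore.bcTopIso f).inv.op)).comp
    (ConcreteCategory.bijective_of_isIso (((EtDesc.adjSh f).unit.app F).hom.app (op (EtCoh.top X))))

/-- Over basic opens of a domain, the source of a 0-acyclic map is connected. -/
theorem idem_away {B R' : Type u} [CommRing B] [IsDomain B] [CommRing R'] [Algebra B R']
    (h : EtAcyc.IsZeroAcyclic (Spec.map (CommRingCat.ofHom (algebraMap B R')))) {r : B} (hr : r ≠ 0) :
    ¬ IsNilpotent (algebraMap B R' r) ∧ ∀ x : R', (∃ m : ℕ, algebraMap B R' r ^ m * (x * x - algebraMap B R' r * x) = 0) →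
      ∃ n : ℕ, algebraMap B R' r ^ n * x = 0 ∨ algebraMap B R' r ^ n * (x - algebraMap B R' r) = 0 := by
  let Br := Localization.Away r
  haveI : IsDomain Br := IsLocalization.isDomain_localization (Submonoid.powers_le.2 (mem_nonZeroDivisors_of_ne_zero hr))
  let j := Spec.map (CommRingCat.ofHom (algebraMap B Br))
  haveI : IsOpenImmersion j := IsOpenImmersion.of_isLocalization r
  let V : (Spec (CommRingCat.of B)).Etale := MorphismProperty.Over.mk ⊤ j (inferInstanceAs (Etale j))
  haveI : ConnectedSpace ↥(Spec (CommRingCat.of Br)) :=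
    inferInstanceAs (ConnectedSpace (PrimeSpectrum Br))
  haveI := connectedSpace_of_secPull (X := Spec (CommRingCat.of Br)) (EtAcyc.prj _ V)
    (secPull_bijective_of_isIso_unit _ _ (h V (twoSh (Spec (CommRingCat.of Br)))))
  let φ := Scheme.homeoOfIso (pullbackSpecIso B Br R')
  haveI hc : ConnectedSpace (PrimeSpectrum (Br ⊗[B] R')) := by
    haveI : ConnectedSpace ↥(pullback j (Spec.map (CommRingCat.ofHom (algebraMap B R')))) := ‹_›
    exact φ.surjective.connectedSpace φ.continuous
  let ρ := algebraMap B R' r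
  let L := Localization.Away ρ
  let ev : Br ⊗[B] R' →ₐ[B] L := Algebra.TensorProduct.lift
    (IsLocalization.liftAlgHom (M := Submonoid.powers r) (f := Algebra.ofId B L) (fun y => by
      obtain ⟨n, hn⟩ := y.2
      rw [← hn, map_pow]
      refine IsUnit.pow n ?_
      rw [Algebra.ofId_apply, IsScalarTower.algebraMap_apply B R' L]
      exact IsLocalization.Away.algebraMap_isUnit ρ))
    (IsScalarTower.toAlgHom B R' L) fun _ _ => Commute.all _ _
  obtain ⟨v, hv⟩ := (IsLocalization.Away.algebraMap_isUnit (S := Br) r).exists_left_inv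
  have h1 : ∀ x : R', algebraMap B Br r ⊗ₜ[B] x = (1 : Br) ⊗ₜ[B] (ρ * x) := fun x => by
    rw [← mul_one (algebraMap B Br r), ← Algebra.smul_def, TensorProduct.smul_tmul, Algebra.smul_def]
  have hu : IsUnit ((1 : Br) ⊗ₜ[B] ρ) := by
    rw [← mul_one ρ, ← h1]
    exact (IsLocalization.Away.algebraMap_isUnit (S := Br) r).map (Algebra.TensorProduct.includeLeft : Br →ₐ[B] Br ⊗[B] R')
  have hz : ∀ x : R', (1 : Br) ⊗ₜ[B] x = 0 → ∃ n : ℕ, ρ ^ n * x = 0 := fun x hx => by
    have h2 : algebraMap R' L x = algebraMap R' L 0 := by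
      rw [map_zero, ← map_zero ev, ← hx, Algebra.TensorProduct.lift_tmul, map_one, one_mul]
      rfl
    obtain ⟨⟨_, n, rfl⟩, hn⟩ := (IsLocalization.eq_iff_exists (Submonoid.powers ρ) L).1 h2
    exact ⟨n, by simpa using hn⟩
  refine ⟨fun ⟨n, hn⟩ => ?_, fun x ⟨m, hm⟩ => ?_⟩
  · haveI : Nontrivial (Br ⊗[B] R') := PrimeSpectrum.nonempty_iff_nontrivial.1 inferInstance
    have := hu.pow n
    rw [Algebra.TensorProduct.tmul_pow, one_pow, show ρ ^ n = 0 from hn, TensorProduct.tmul_zero] at this
    exact not_isUnit_zero this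
  · have hxx : (1 : Br) ⊗ₜ[B] (x * x) = (1 : Br) ⊗ₜ[B] (ρ * x) := by
      refine sub_eq_zero.1 ((hu.pow m).mul_right_eq_zero.1 ?_)
      rw [← TensorProduct.tmul_sub, Algebra.TensorProduct.tmul_pow, one_pow, Algebra.TensorProduct.tmul_mul_tmul,
        one_mul, show ρ ^ m * (x * x - ρ * x) = 0 from hm, TensorProduct.tmul_zero]
    have he : IsIdempotentElem (v ⊗ₜ[B] x) := by
      show v ⊗ₜ[B] x * v ⊗ₜ[B] x = v ⊗ₜ[B] x
      rw [show (v ⊗ₜ[B] x) * (v ⊗ₜ[B] x) = ((v * v) ⊗ₜ[B] (1 : R')) * ((1 : Br) ⊗ₜ[B] (x * x)) by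
        rw [Algebra.TensorProduct.tmul_mul_tmul, Algebra.TensorProduct.tmul_mul_tmul, mul_one, one_mul], hxx, ← h1,
        Algebra.TensorProduct.tmul_mul_tmul, one_mul, mul_assoc, hv, mul_one]
    rcases idem_trivial he with h0 | h0
    · obtain ⟨n, hn⟩ := hz x (by
        have := congrArg ((algebraMap B Br r ⊗ₜ[B] (1 : R')) * ·) h0
        simpa [Algebra.TensorProduct.tmul_mul_tmul, mul_comm _ v, hv] using this)
      exact ⟨n, Or.inl hn⟩
    · obtain ⟨n, hn⟩ := hz (x - ρ) (by
        have := congrArg ((algebraMap B Br r ⊗ₜ[B] (1 : R')) * ·) h0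
        simp only [Algebra.TensorProduct.tmul_mul_tmul, one_mul, mul_one] at this
        rw [mul_comm, hv, h1, mul_one] at this
        rw [TensorProduct.tmul_sub, this, sub_self])
      exact ⟨n, Or.inr hn⟩

end Groth.Agent.HenselConn
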