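import Groth.Agent.HenselConn.Sections
import Groth.Agent.BigSiteLib.EtDescSec.SecBC

/-!
# Local criteria for isomorphisms of sheaves and local representatives of inverse images
-/

set_option autoImplicit false

universe u

open CategoryTheory CategoryTheory.Limits AlgebraicGeometry Opposite TopologicalSpace
open Groth.Agent.BigSiteLib.DescSec

namespace Groth.Agent.HenselConn

set_option backward.isDefEq.respectTransparency.types false

variable {S T : Scheme.{u}}

/-- Sections of an inverse image are near each point pulled back sections. -/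
theorem exists_up_eq_any (g : T ⟶ S) (F : EtDesc.Sh S) (W : T.Etale) (s : ((EtDesc.pullSh g).obj F).obj.obj (op W)) (w : W.left) :
    ∃ (U : S.Etale) (a : F.obj.obj (op U)) (Z : T.Etale) (c : Z ⟶ (EtCoh.bc g).obj U) (k : Z ⟶ W) (z : Z.left),
      k.left z = w ∧ ((EtDesc.pullSh g).obj F).obj.map c.op (up g F U a) = ((EtDesc.pullSh g).obj F).obj.map k.op s := by
  obtain ⟨Ω, _, _, ξ, t₀, ht₀⟩ := EtFound.exists_point_through W w
  let Φ := Scheme.pointSmallEtale ξ
  let G := (EtDesc.pullSh g).obj F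
  let c₀ := Φ.toPresheafFiber W t₀ G.obj s
  obtain ⟨U, v, a, ha⟩ := (Scheme.pointSmallEtale (ξ ≫ g)).toPresheafFiber_jointly_surjective (P := F.obj)
    ((EtFound.sheafFiberPullIso g ξ).hom.app F c₀)
  let t := (EtFound.bcFiberEquiv g ξ U).symm v
  haveI : Etale ((EtCoh.bc g).obj U).hom := ((EtCoh.bc g).obj U).prop
  haveI : Etale W.hom := W.prop
  let Z : T.Etale := MorphismProperty.Over.mk ⊤ (pullback.fst ((EtCoh.bc g).obj U).hom W.hom ≫ ((EtCoh.bc g).obj U).hom) (by
    haveI : Etale (pullback.fst ((EtCoh.bc g).obj U).hom W.hom) := MorphismProperty.pullback_fst _ _ inferInstance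
    exact inferInstanceAs (Etale (pullback.fst ((EtCoh.bc g).obj U).hom W.hom ≫ _)))
  let c : Z ⟶ (EtCoh.bc g).obj U := MorphismProperty.Over.homMk (pullback.fst ((EtCoh.bc g).obj U).hom W.hom) rfl
  let k : Z ⟶ W := MorphismProperty.Over.homMk (pullback.snd ((EtCoh.bc g).obj U).hom W.hom) pullback.condition.symm
  let p : Φ.fiber.obj Z := CategoryTheory.Over.homMk
    (pullback.lift (t.left : Spec (CommRingCat.of Ω) ⟶ ((EtCoh.bc g).obj U).left) (t₀.left : Spec (CommRingCat.of Ω) ⟶ W.left)
      ((CategoryTheory.Over.w t).trans (CategoryTheory.Over.w t₀).symm))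
    ((Category.assoc _ _ _).symm.trans ((congrArg (· ≫ ((EtCoh.bc g).obj U).hom) (pullback.lift_fst _ _ _)).trans (CategoryTheory.Over.w t)))
  have hc : Φ.fiber.map c p = t := CategoryTheory.Over.OverMorphism.ext (pullback.lift_fst _ _ _)
  have hk : Φ.fiber.map k p = t₀ := CategoryTheory.Over.OverMorphism.ext (pullback.lift_snd _ _ _)
  have hgerm : Φ.toPresheafFiber ((EtCoh.bc g).obj U) t G.obj (up g F U a) = c₀ := by
    have h := (ConcreteCategory.comp_apply _ _ a).symm.trans
      ((ConcreteCategory.congr_hom (EtFound.sheafFiberPullIso_germ g ξ F U t) a).trans (ConcreteCategory.comp_apply _ _ a))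
    rw [show EtFound.bcFiberEquiv g ξ U t = v from Equiv.apply_symm_apply _ _] at h
    refine h.symm.trans ?_
    refine (congrArg ((EtFound.sheafFiberPullIso g ξ).inv.app F) ha).trans ?_
    exact iso_hom_inv_apply ((EtFound.sheafFiberPullIso g ξ).app F) c₀
  have e : LocEq G.obj (G.obj.map c.op (up g F U a)) (G.obj.map k.op s)
      ((p.left : Spec (CommRingCat.of Ω) ⟶ Z.left).base (default : Spec (CommRingCat.of Ω))) := by
    refine locEq_of_germ ξ p ?_ _ rfl
    rw [Φ.toPresheafFiber_w_apply, Φ.toPresheafFiber_w_apply, hc, hk]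
    exact hgerm
  obtain ⟨Z', l, ⟨z', hz'⟩, e'⟩ := e
  refine ⟨U, a, Z', l ≫ c, l ≫ k, z', ?_, ?_⟩
  · refine (Scheme.Hom.comp_apply _ _ _).trans ((congrArg k.left hz').trans ?_)
    refine (Scheme.Hom.comp_apply _ _ _).symm.trans (Eq.trans ?_ (ht₀ (default : Spec (CommRingCat.of Ω))))
    exact congrArg (fun m : Spec (CommRingCat.of Ω) ⟶ W.left => m.base (default : Spec (CommRingCat.of Ω))) (pullback.lift_snd _ _ _)
  · rw [← mapF, ← mapF]
    exact e'

/-- A morphism of sheaves which is locally bijective is an isomorphism. -/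
theorem isIso_of_local {A B : EtDesc.Sh T} (β : A ⟶ B)
    (hinj : ∀ (W : T.Etale) (a b : A.obj.obj (op W)), β.hom.app (op W) a = β.hom.app (op W) b →
      ∀ w : W.left, LocEq A.obj a b w)
    (hsurj : ∀ (W : T.Etale) (t : B.obj.obj (op W)) (w : W.left), ∃ (Z : T.Etale) (k : Z ⟶ W) (a : A.obj.obj (op Z)),
      w ∈ Set.range k.left ∧ β.hom.app (op Z) a = B.obj.map k.op t) :
    IsIso β := by
  have hbij : ∀ W : T.Etale, Function.Bijective (β.hom.app (op W)) := fun W => by
    refine ⟨fun a b e => eq_of_locEq A (hinj W a b e), fun t => ?_⟩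
    choose Z k a hw he using hsurj W t
    have hcov : Sieve.generate (Presieve.ofArrows Z k) ∈ T.smallEtaleTopology W := by
      rw [EtFound.mem_topology_iff]
      intro w
      obtain ⟨z, hz⟩ := hw w
      exact ⟨Z w, k w, z, ⟨Z w, 𝟙 _, k w, ⟨w⟩, Category.id_comp _⟩, hz⟩
    have hcomp : ∀ i j (U : T.Etale) (m₁ : U ⟶ Z i) (m₂ : U ⟶ Z j), m₁ ≫ k i = m₂ ≫ k j →
        A.obj.map m₁.op (a i) = A.obj.map m₂.op (a j) := fun i j U m₁ m₂ e => by
      refine eq_of_locEq A (hinj U _ _ ?_)
      rw [NatTrans.naturality_apply, NatTrans.naturality_apply, he, he, mapF, mapF, e]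
    obtain ⟨s, hs, -⟩ := (Presieve.isSheafFor_arrows_iff _ _).1 ((Presieve.isSheafFor_iff_generate _).2
      (((isSheaf_iff_isSheaf_of_type _ _).1 A.property) _ hcov)) a hcomp
    refine ⟨s, eq_of_locEq B fun w => ?_⟩
    obtain ⟨z, hz⟩ := hw w
    rw [← hz]
    refine LocEq.of_map _ ?_
    rw [← NatTrans.naturality_apply, hs, he]
    exact LocEq.refl _ _
  haveI : ∀ W : T.Etaleᵒᵖ, IsIso (β.hom.app W) := fun W => (isIso_iff_bijective _).2 (hbij W.unop)
  haveI : IsIso β.hom := NatIso.isIso_of_isIso_app _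
  haveI : IsIso ((sheafToPresheaf _ _).map β) := this
  exact isIso_of_fully_faithful (sheafToPresheaf _ _) _

end Groth.Agent.HenselConn
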