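import Groth.Agent.HenselConn.Strict
import Groth.Agent.UnibConn.Scheme
import Groth.Agent.GeomRedFlat5.Open
import Mathlib.AlgebraicGeometry.Morphisms.Flat
import Mathlib.Algebra.Category.Ring.Constructions

/-!
# Local 0-acyclicity of flat morphisms with geometrically reduced fibres over noetherian bases
-/

set_option autoImplicit false

universe u

open TensorProduct IsLocalRing AlgebraicGeometry CategoryTheory Limits

namespace Groth.Agent.HenselConn

attribute [local instance] IsAffineOpen.isOpenImmersion_fromSpec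

variable {X Y X₁ Y₁ : Scheme.{u}}

/-- The structure map of a strict localization from an affine chart. -/
theorem hasEtLift_of_isAffineOpen {W : X.Opens} (hW : IsAffineOpen W) {x : X} (hx : x ∈ W) (S : Type u) [CommRing S]
    [IsLocalRing S] [Algebra (X.presheaf.stalk x) S] [IsLocalHom (algebraMap (X.presheaf.stalk x) S)]
    [Hensel.IsStrictHenselization (X.presheaf.stalk x) S] {P : Type u} [CommRing P] [Algebra P S]
    (e : P →+* Γ(X, W)) (he : Function.Bijective e)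
    (hcomp : ∀ z, algebraMap P S z = algebraMap (X.presheaf.stalk x) S (X.presheaf.germ W x hx (e z))) :
    HasEtLift P S ∧ Module.Flat P S := by
  letI : Algebra P (X.presheaf.stalk x) := ((X.presheaf.germ W x hx).hom.comp e).toAlgebra
  haveI : IsScalarTower P (X.presheaf.stalk x) S := IsScalarTower.of_algebraMap_eq hcomp
  letI := TopCat.Presheaf.algebra_section_stalk X.presheaf (⟨x, hx⟩ : W)
  let q := (hW.primeIdealOf ⟨x, hx⟩).asIdeal
  haveI : IsLocalization.AtPrime (X.presheaf.stalk x) q := hW.isLocalization_stalk ⟨x, hx⟩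
  let E : Γ(X, W) ≃+* P := (RingEquiv.ofBijective e he).symm
  haveI hP : IsLocalization (q.primeCompl.map E.toMonoidHom) (X.presheaf.stalk x) :=
    IsLocalization.isLocalization_of_base_ringEquiv q.primeCompl (X.presheaf.stalk x) E
  refine ⟨(hasEtLift_strict (X.presheaf.stalk x) S).of_isLocalization (q.primeCompl.map E.toMonoidHom), ?_⟩
  haveI := flat_strict (X.presheaf.stalk x) S
  haveI : Module.Flat P (X.presheaf.stalk x) := IsLocalization.flat _ (q.primeCompl.map E.toMonoidHom)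
  exact Module.Flat.trans P (X.presheaf.stalk x) S

theorem geometricallyReduced_appLE (g : X ⟶ Y) [GeometricallyReduced g] {V : Y.Opens} (hV : IsAffineOpen V)
    {U : X.Opens} (hU : IsAffineOpen U) (hUV : U ≤ g ⁻¹ᵁ V) : GeometricallyReduced (Spec.map (g.appLE V U hUV)) := by
  haveI : GeometricallyReduced (hU.fromSpec ≫ g) := UnibConn.geometricallyReduced_openImmersion_comp _ g
  haveI : GeometricallyReduced (Spec.map (g.appLE V U hUV) ≫ hV.fromSpec) := by
    rw [IsAffineOpen.SpecMap_appLE_fromSpec]; infer_instance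
  exact UnibConn.geometricallyReduced_of_comp_mono (Spec.map (g.appLE V U hUV)) hV.fromSpec

/-- The maps of strict localizations at a point with a chart which is a base change of a good algebra. -/
theorem isZeroAcyclic_at {g₁ : X₁ ⟶ Y₁} {x₁ : X₁} {R A : CommRingCat.{u}} [IsNoetherianRing R] (φ : R ⟶ A)
    (hfl : φ.hom.Flat) [GeometricallyReduced (Spec.map φ)]
    {V₁ : Y₁.Opens} (hV₁ : IsAffineOpen V₁) (hy : g₁ x₁ ∈ V₁) {W : X₁.Opens} (hW : IsAffineOpen W) (hx : x₁ ∈ W)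
    (hle : W ≤ g₁ ⁻¹ᵁ V₁) (ψ : R ⟶ Γ(Y₁, V₁)) (χ : A ⟶ Γ(X₁, W)) (hpo : IsPushout φ ψ χ (g₁.appLE V₁ W hle))
    (RY RX : Type u) [CommRing RY] [CommRing RX] [IsLocalRing RY] [IsLocalRing RX]
    [Algebra (Y₁.presheaf.stalk (g₁ x₁)) RY] [IsLocalHom (algebraMap (Y₁.presheaf.stalk (g₁ x₁)) RY)]
    [Hensel.IsStrictHenselization (Y₁.presheaf.stalk (g₁ x₁)) RY]
    [Algebra (X₁.presheaf.stalk x₁) RX] [IsLocalHom (algebraMap (X₁.presheaf.stalk x₁) RX)]
    [Hensel.IsStrictHenselization (X₁.presheaf.stalk x₁) RX]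
    [Algebra RY RX] [IsLocalHom (algebraMap RY RX)]
    (hsq : (algebraMap RY RX).comp (algebraMap (Y₁.presheaf.stalk (g₁ x₁)) RY) =
      (algebraMap (X₁.presheaf.stalk x₁) RX).comp (g₁.stalkMap x₁).hom) :
    EtAcyc.IsZeroAcyclic (Spec.map (CommRingCat.ofHom (algebraMap RY RX))) := by
  letI : Algebra R A := φ.hom.toAlgebra
  letI : Algebra R Γ(Y₁, V₁) := ψ.hom.toAlgebra
  letI : Algebra A Γ(X₁, W) := χ.hom.toAlgebra
  letI : Algebra Γ(Y₁, V₁) Γ(X₁, W) := (g₁.appLE V₁ W hle).hom.toAlgebra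
  letI : Algebra R Γ(X₁, W) := (φ ≫ χ).hom.toAlgebra
  haveI : IsScalarTower R A Γ(X₁, W) := IsScalarTower.of_algebraMap_eq' rfl
  haveI : IsScalarTower R Γ(Y₁, V₁) Γ(X₁, W) := IsScalarTower.of_algebraMap_eq' (congrArg CommRingCat.Hom.hom hpo.w)
  haveI : Algebra.IsPushout R A Γ(Y₁, V₁) Γ(X₁, W) := CommRingCat.isPushout_iff_isPushout.1 hpo
  let e := Algebra.IsPushout.equiv R A Γ(Y₁, V₁) Γ(X₁, W)
  haveI : Module.Flat R A := hfl
  haveI : GeometricallyReduced (Spec.map (CommRingCat.ofHom (algebraMap R A))) := ‹_›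
  haveI : HenselianLocalRing RY := Hensel.IsStrictHenselization.henselian (Y₁.presheaf.stalk (g₁ x₁))
  haveI : IsSepClosed (ResidueField RY) :=
    (Hensel.IsStrictHenselization.isSepClosure (R := Y₁.presheaf.stalk (g₁ x₁)) (S := RY)).sep_closed
  letI : Algebra Γ(Y₁, V₁) RY :=
    ((algebraMap (Y₁.presheaf.stalk (g₁ x₁)) RY).comp (Y₁.presheaf.germ V₁ (g₁ x₁) hy).hom).toAlgebra
  letI : Algebra R RY := ((algebraMap Γ(Y₁, V₁) RY).comp (algebraMap R Γ(Y₁, V₁))).toAlgebra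
  haveI : IsScalarTower R Γ(Y₁, V₁) RY := IsScalarTower.of_algebraMap_eq' rfl
  letI : Algebra (A ⊗[R] Γ(Y₁, V₁)) RX :=
    (((algebraMap (X₁.presheaf.stalk x₁) RX).comp (X₁.presheaf.germ W x₁ hx).hom).comp e.toAlgHom.toRingHom).toAlgebra
  obtain ⟨hX, hXf⟩ := hasEtLift_of_isAffineOpen hW hx RX (P := A ⊗[R] Γ(Y₁, V₁))
    e.toAlgHom.toRingHom e.bijective fun _ => rfl
  obtain ⟨hY, -⟩ := hasEtLift_of_isAffineOpen hV₁ hy RY (P := Γ(Y₁, V₁)) (RingHom.id _) Function.bijective_id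
    fun _ => rfl
  haveI := hXf
  refine isZeroAcyclic_strict (R := R) (A := A) (R' := Γ(Y₁, V₁)) RX
    (fun L _ _ => UnibConn.isReduced_tensor_field L) hY hX fun r => ?_
  show algebraMap (X₁.presheaf.stalk x₁) RX (X₁.presheaf.germ W x₁ hx (e ((1 : A) ⊗ₜ r))) =
    algebraMap RY RX (algebraMap (Y₁.presheaf.stalk (g₁ x₁)) RY (Y₁.presheaf.germ V₁ (g₁ x₁) hy r))
  rw [Algebra.IsPushout.equiv_tmul, map_one, one_mul]
  refine Eq.trans ?_ (RingHom.congr_fun hsq _).symm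
  refine congrArg (algebraMap (X₁.presheaf.stalk x₁) RX) ?_
  show X₁.presheaf.germ W x₁ hx ((g₁.appLE V₁ W hle).hom r) = g₁.stalkMap x₁ (Y₁.presheaf.germ V₁ (g₁ x₁) hy r)
  rw [Scheme.Hom.germ_stalkMap_apply]
  exact X₁.presheaf.germ_res_apply (homOfLE hle) x₁ hx (g₁.app V₁ r)

theorem geometricallyReduced_of_E (f : X ⟶ Y) (h : ∀ x, GeomRedFlat5.E f x) : GeometricallyReduced f :=
  ⟨geometrically_iff_of_isClosedUnderIsomorphisms.mpr fun _ _ y =>
    haveI : ∀ z : ↥(pullback f y), _root_.IsReduced ((pullback f y).presheaf.stalk z) := fun z =>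
      GeomRedFlat5.isReduced_pullback_field (h _) y z rfl
    isReduced_of_isReduced_stalk _⟩

theorem E_of_geometricallyReduced (f : X ⟶ Y) [GeometricallyReduced f] (x : X) : GeomRedFlat5.E f x := by
  let Ω := AlgebraicClosure (IsLocalRing.ResidueField (Y.presheaf.stalk (f.base x)))
  let φ : Y.residueField (f.base x) ⟶ CommRingCat.of Ω :=
    CommRingCat.ofHom (algebraMap (IsLocalRing.ResidueField (Y.presheaf.stalk (f.base x))) Ω)
  obtain ⟨v, hv⟩ := GeomRedFlat5.exists_point f x Ω φ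
  haveI : AlgebraicGeometry.IsReduced (pullback f (Spec.map φ ≫ Y.fromSpecResidueField (f.base x))) :=
    pullback_of_geometrically (GeometricallyReduced.geometrically_isReduced (f := f)) Ω _
  exact GeomRedFlat5.E_of_isReduced Ω φ v hv inferInstance

/-- Flat finitely presented algebras with geometrically reduced fibres have good noetherian models. -/
theorem exists_good_model {R A : Type u} [CommRing R] [CommRing A] [Algebra R A] [Algebra.FinitePresentation R A]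
    [Module.Flat R A] [GeometricallyReduced (Spec.map (CommRingCat.ofHom (algebraMap R A)))]
    (q : PrimeSpectrum A) :
    ∃ (R₀ A₀ : CommRingCat.{u}) (_ : IsNoetherianRing R₀) (φ₀ : R₀ ⟶ A₀) (_ : φ₀.hom.Flat)
      (_ : GeometricallyReduced (Spec.map φ₀)) (f : A) (_ : f ∉ q.asIdeal)
      (ψ : R₀ ⟶ CommRingCat.of R) (χ : A₀ ⟶ CommRingCat.of (Localization.Away f)),
      IsPushout φ₀ ψ χ (CommRingCat.ofHom (algebraMap R (Localization.Away f))) := by
  obtain ⟨R₁, A₁, _, _, hR₁, hfl, hfp, ⟨e⟩⟩ := SrcDescent.exists_flat_model R A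
  haveI : Algebra.FiniteType ℤ R₁ := (Subalgebra.fg_iff_finiteType R₁).1 hR₁
  haveI hN : IsNoetherianRing (CommRingCat.of R₁) := Algebra.FiniteType.isNoetherianRing ℤ R₁
  let φ₁ := CommRingCat.ofHom (algebraMap R₁ A₁)
  let ι : A₁ →+* A := e.symm.toRingEquiv.toRingHom.comp (Algebra.TensorProduct.includeRight : A₁ →ₐ[R₁] R ⊗[R₁] A₁).toRingHom
  have sq := GeomRedFlat5.isPullback_model e
  haveI : Flat (Spec.map φ₁) := (HasRingHomProperty.Spec_iff (P := @Flat)).2 (RingHom.flat_algebraMap_iff.2 hfl)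
  have hopen := GeomRedFlat5.isOpen_FE_Spec_noetherian φ₁ (RingHom.finiteType_algebraMap.2 inferInstance)
  have hqG : GeomRedFlat5.FE (Spec.map φ₁) ((Spec.map (CommRingCat.ofHom ι)).base q) :=
    ⟨Flat.stalkMap _ _, (GeomRedFlat5.E_iff_of_isPullback sq q).1 (E_of_geometricallyReduced _ _)⟩
  obtain ⟨_, ⟨f₀, rfl⟩, hf₀, hf₀G⟩ :=
    PrimeSpectrum.isTopologicalBasis_basic_opens.exists_subset_of_mem_open hqG hopen
  let A₂ := Localization.Away f₀
  let j := Spec.map (CommRingCat.ofHom (algebraMap A₁ A₂))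
  haveI : IsOpenImmersion j := IsOpenImmersion.of_isLocalization f₀
  let φ₀ : CommRingCat.of R₁ ⟶ CommRingCat.of A₂ := φ₁ ≫ CommRingCat.ofHom (algebraMap A₁ A₂)
  haveI : GeometricallyReduced (Spec.map φ₀) := by
    refine geometricallyReduced_of_E _ fun y => ?_
    rw [Spec.map_comp, GeomRedFlat5.E_comp_openImmersion]
    refine (hf₀G ?_).2
    exact (PrimeSpectrum.localization_away_comap_range A₂ f₀).le ⟨y, rfl⟩
  let f := ι f₀
  let κ : A₂ →+* Localization.Away f := IsLocalization.Away.map A₂ (Localization.Away f) ι f₀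
  refine ⟨_, _, hN, φ₀, (RingHom.flat_algebraMap_iff.2 hfl).comp (IsLocalization.flat A₂ (Submonoid.powers f₀) |> RingHom.flat_algebraMap_iff.2),
    ‹_›, f, hf₀, CommRingCat.ofHom (algebraMap R₁ R), CommRingCat.ofHom κ, ?_⟩
  have hpo : IsPushout φ₁ (CommRingCat.ofHom (algebraMap R₁ R)) (CommRingCat.ofHom ι) (CommRingCat.ofHom (algebraMap R A)) := by
    refine ((CommRingCat.isPushout_tensorProduct R₁ R A₁).flip.of_iso (Iso.refl _) (Iso.refl _) (Iso.refl _)
      e.symm.toRingEquiv.toCommRingCatIso ?_ ?_ ?_ ?_)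
    · simp [φ₁]
    · simp
    · rfl
    · ext r
      exact e.symm.commutes r
  have hloc : IsPushout (CommRingCat.ofHom (algebraMap A₁ A₂)) (CommRingCat.ofHom ι) (CommRingCat.ofHom κ)
      (CommRingCat.ofHom (algebraMap A (Localization.Away f))) := by
    haveI : @IsLocalization A _ (Submonoid.map ι (Submonoid.powers f₀)) (Localization.Away f) _ _ := by
      have h' : IsLocalization (Submonoid.powers f) (Localization.Away f) := inferInstance
      rw [Submonoid.map_powers]; exact h'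
    exact (CommRingCat.isPushout_of_isLocalization ι κ
      (by ext a; simp [κ, IsLocalization.Away.map]) (Submonoid.powers f₀)).flip
  have h := hpo.paste_horiz hloc
  refine h.of_iso (Iso.refl _) (Iso.refl _) (Iso.refl _) (Iso.refl _) ?_ ?_ ?_ ?_ <;> simp [φ₀]
  rfl

/-- Base changes of flat morphisms with geometrically reduced fibres, locally noetherian base. -/
theorem isLocZeroAcyclic_of_isPullback_noetherian (g : X ⟶ Y) [Flat g] [GeometricallyReduced g] [IsLocallyNoetherian Y]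
    (g₁ : X₁ ⟶ Y₁) (b' : X₁ ⟶ X) (b : Y₁ ⟶ Y) (H : IsPullback b' g₁ g b) : EtAcyc.IsLocZeroAcyclic g₁ := by
  intro x₁ RY RX _ _ _ _ _ _ _ _ _ _ _ _ hsq
  obtain ⟨_, ⟨V, hV, rfl⟩, hyV, -⟩ :=
    Y.isBasis_affineOpens.exists_subset_of_mem_open (Set.mem_univ (g (b' x₁))) isOpen_univ
  replace hV : IsAffineOpen V := hV
  obtain ⟨_, ⟨U, hU, rfl⟩, hxU, hUV⟩ :=
    X.isBasis_affineOpens.exists_subset_of_mem_open (show b' x₁ ∈ g ⁻¹ᵁ V from hyV) (g ⁻¹ᵁ V).2
  replace hUV : U ≤ g ⁻¹ᵁ V := hUV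
  replace hU : IsAffineOpen U := hU
  have hbV : g₁ x₁ ∈ b ⁻¹ᵁ V := by
    show b (g₁ x₁) ∈ V
    rw [← Scheme.Hom.comp_apply, ← H.w, Scheme.Hom.comp_apply]
    exact hyV
  obtain ⟨_, ⟨V₁, hV₁, rfl⟩, hy₁V, hV₁V⟩ :=
    Y₁.isBasis_affineOpens.exists_subset_of_mem_open hbV (b ⁻¹ᵁ V).2
  replace hV₁V : V₁ ≤ b ⁻¹ᵁ V := hV₁V
  replace hV₁ : IsAffineOpen V₁ := hV₁
  haveI : IsAffine _ := hV
  haveI : IsAffine _ := hU
  haveI : IsAffine _ := hV₁
  let W : X₁.Opens := b' ⁻¹ᵁ U ⊓ g₁ ⁻¹ᵁ V₁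
  have hW : IsAffineOpen W := .of_isIso (Scheme.Hom.isPullback_resLE H hV₁V hUV rfl).isoPullback.hom
  haveI : IsNoetherianRing Γ(Y, V) := IsLocallyNoetherian.component_noetherian ⟨V, hV⟩
  haveI : GeometricallyReduced (Spec.map (g.appLE V U hUV)) := geometricallyReduced_appLE g hV hU hUV
  haveI := isIso_pushoutSection_of_isAffineOpen H hV₁V hUV (UY := W) rfl hV hV₁ hU
  exact isZeroAcyclic_at (g.appLE V U hUV) (Flat.flat_appLE g hV hU hUV) hV₁ hy₁V hW ⟨hxU, hy₁V⟩ inf_le_right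
    (b.appLE V V₁ hV₁V) (b'.appLE U W inf_le_left) ((isIso_pushoutSection_iff H hV₁V hUV rfl).1 inferInstance) RY RX hsq

/-- Base changes of flat finitely presented morphisms with geometrically reduced fibres. -/
theorem isLocZeroAcyclic_of_isPullback_lfp (g : X ⟶ Y) [Flat g] [GeometricallyReduced g] [LocallyOfFinitePresentation g]
    (g₁ : X₁ ⟶ Y₁) (b' : X₁ ⟶ X) (b : Y₁ ⟶ Y) (H : IsPullback b' g₁ g b) : EtAcyc.IsLocZeroAcyclic g₁ := by
  intro x₁ RY RX _ _ _ _ _ _ _ _ _ _ _ _ hsq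
  obtain ⟨_, ⟨V, hV, rfl⟩, hyV, -⟩ :=
    Y.isBasis_affineOpens.exists_subset_of_mem_open (Set.mem_univ (g (b' x₁))) isOpen_univ
  replace hV : IsAffineOpen V := hV
  obtain ⟨_, ⟨U₀, hU₀, rfl⟩, hxU₀, hU₀V⟩ :=
    X.isBasis_affineOpens.exists_subset_of_mem_open (show b' x₁ ∈ g ⁻¹ᵁ V from hyV) (g ⁻¹ᵁ V).2
  replace hU₀V : U₀ ≤ g ⁻¹ᵁ V := hU₀V
  replace hU₀ : IsAffineOpen U₀ := hU₀
  letI : Algebra Γ(Y, V) Γ(X, U₀) := (g.appLE V U₀ hU₀V).hom.toAlgebra
  haveI : Algebra.FinitePresentation Γ(Y, V) Γ(X, U₀) := g.finitePresentation_appLE hV hU₀ hU₀V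
  haveI : Module.Flat Γ(Y, V) Γ(X, U₀) := Flat.flat_appLE g hV hU₀ hU₀V
  haveI : GeometricallyReduced (Spec.map (CommRingCat.ofHom (algebraMap Γ(Y, V) Γ(X, U₀)))) :=
    geometricallyReduced_appLE g hV hU₀ hU₀V
  let q := hU₀.primeIdealOf ⟨b' x₁, hxU₀⟩
  obtain ⟨R₀, A₀, _, φ₀, hfl, _, f, hf, ψ, χ, hpo⟩ := exists_good_model (R := Γ(Y, V)) (A := Γ(X, U₀)) q
  let U := X.basicOpen f
  have hU : IsAffineOpen U := hU₀.basicOpen f
  have hxU : b' x₁ ∈ U := by
    by_contra h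
    exact hf (by
      have := (hU₀.fromSpec_preimage_basicOpen f)
      have h2 : q ∉ PrimeSpectrum.basicOpen f := fun hq => h
        ((show hU₀.fromSpec q = b' x₁ from hU₀.fromSpec_primeIdealOf ⟨b' x₁, hxU₀⟩) ▸
          (show q ∈ hU₀.fromSpec ⁻¹ᵁ X.basicOpen f from this.ge hq))
      simpa using h2)
  have hUV : U ≤ g ⁻¹ᵁ V := (X.basicOpen_le f).trans hU₀V
  have hbV : g₁ x₁ ∈ b ⁻¹ᵁ V := by
    show b (g₁ x₁) ∈ V
    rw [← Scheme.Hom.comp_apply, ← H.w, Scheme.Hom.comp_apply]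
    exact hyV
  obtain ⟨_, ⟨V₁, hV₁, rfl⟩, hy₁V, hV₁V⟩ :=
    Y₁.isBasis_affineOpens.exists_subset_of_mem_open hbV (b ⁻¹ᵁ V).2
  replace hV₁V : V₁ ≤ b ⁻¹ᵁ V := hV₁V
  replace hV₁ : IsAffineOpen V₁ := hV₁
  haveI : IsAffine _ := hV
  haveI : IsAffine _ := hU
  haveI : IsAffine _ := hV₁
  let W : X₁.Opens := b' ⁻¹ᵁ U ⊓ g₁ ⁻¹ᵁ V₁
  have hW : IsAffineOpen W := .of_isIso (Scheme.Hom.isPullback_resLE H hV₁V hUV rfl).isoPullback.hom
  haveI := isIso_pushoutSection_of_isAffineOpen H hV₁V hUV (UY := W) rfl hV hV₁ hU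
  letI := (X.presheaf.map (homOfLE (X.basicOpen_le f)).op).hom.toAlgebra
  haveI : IsLocalization.Away f Γ(X, U) := hU₀.isLocalization_basicOpen f
  let ε : Localization.Away f ≃ₐ[Γ(X, U₀)] Γ(X, U) := IsLocalization.algEquiv (Submonoid.powers f) _ _
  have h1 : IsPushout φ₀ ψ (χ ≫ CommRingCat.ofHom ε.toAlgHom.toRingHom) (g.appLE V U hUV) := by
    refine hpo.of_iso (Iso.refl _) (Iso.refl _) (Iso.refl _) ε.toRingEquiv.toCommRingCatIso ?_ ?_ ?_ ?_
    · simp
    · simp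
    · simp
    · simp only [Iso.refl_hom, Category.id_comp]
      ext r
      show ε (algebraMap Γ(X, U₀) (Localization.Away f) ((g.appLE V U₀ hU₀V).hom r)) = _
      rw [ε.commutes]
      show ((g.appLE V U₀ hU₀V) ≫ X.presheaf.map (homOfLE (X.basicOpen_le f)).op).hom r = _
      rw [Scheme.Hom.appLE_map]
  exact isZeroAcyclic_at φ₀ hfl hV₁ hy₁V hW ⟨hxU, hy₁V⟩ inf_le_right
    (ψ ≫ b.appLE V V₁ hV₁V) _ (h1.paste_vert ((isIso_pushoutSection_iff H hV₁V hUV rfl).1 inferInstance)) RY RX hsq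

end Groth.Agent.HenselConn
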