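import Groth.Agent.HenselConn.Cont2
import Groth.Agent.HenselConn.Gen
import Groth.Agent.HenselConn.Geom
import Groth.Agent.Hensel.StrictSchemes
import Groth.Agent.EtFound.SectionUnr

/-!
# Strict localizations of schemes as limits of etale neighbourhoods
-/

set_option autoImplicit false

universe u

open CategoryTheory CategoryTheory.Limits AlgebraicGeometry IsLocalRing TopologicalSpace TensorProduct

namespace Groth.Agent.HenselConn

set_option backward.isDefEq.respectTransparency.types false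

attribute [local instance] IsAffineOpen.isOpenImmersion_fromSpec

/-- An open set of a local scheme containing the closed point is everything. -/
theorem mem_of_closedPoint {T : Type u} [CommRing T] [IsLocalRing T] (O : (Spec (CommRingCat.of T)).Opens)
    (h : closedPoint T ∈ O) (s : Spec (CommRingCat.of T)) : s ∈ O :=
  (specializes_closedPoint s).mem_open O.2 h

/-- A map into an open subscheme through which the closed point factors. -/
theorem exists_factor {T : Type u} [CommRing T] [IsLocalRing T] {U P : Scheme.{u}} (j : U ⟶ P) [IsOpenImmersion j]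
    (l : Spec (CommRingCat.of T) ⟶ P) (h : l (closedPoint T) ∈ Set.range j) : ∃ k, k ≫ j = l := by
  refine ⟨IsOpenImmersion.lift j l ?_, IsOpenImmersion.lift_fac _ _ _⟩
  rintro _ ⟨s, rfl⟩
  exact mem_of_closedPoint (l ⁻¹ᵁ j.opensRange) h s

theorem flat_lift {S Y : Scheme.{u}} (π : S ⟶ Y) [Flat π] {V : Y.Etale} (ρ : Lift π V) : Flat ρ.1 := by
  haveI : Etale V.hom := V.prop
  let Γ₁ : S ⟶ pullback π V.hom := pullback.lift (𝟙 S) ρ.1 ((Category.id_comp _).trans ρ.2.symm)
  haveI : Etale (pullback.fst π V.hom) := MorphismProperty.pullback_fst _ _ inferInstance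
  haveI : Etale Γ₁ := by
    refine MorphismProperty.of_postcomp (W := @Etale) (W' := @Etale) Γ₁ (pullback.fst π V.hom) inferInstance ?_
    rw [pullback.lift_fst]
    infer_instance
  haveI : Flat Γ₁ := inferInstance
  haveI : Flat (pullback.snd π V.hom) := MorphismProperty.pullback_snd _ _ inferInstance
  rw [show ρ.1 = Γ₁ ≫ pullback.snd π V.hom from (pullback.lift_snd _ _ _).symm]
  exact MorphismProperty.comp_mem (W := @Flat) Γ₁ (pullback.snd π V.hom) inferInstance inferInstance

variable {Y : Scheme.{u}} (y : Y) (RY : Type u) [CommRing RY] [IsLocalRing RY]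
  [Algebra (Y.presheaf.stalk y) RY] [IsLocalHom (algebraMap (Y.presheaf.stalk y) RY)]
  [Hensel.IsStrictHenselization (Y.presheaf.stalk y) RY]

theorem flat_specOf : Flat (Hens2.specOf Y y RY) := by
  haveI : Flat (Spec.map (CommRingCat.ofHom (algebraMap (Y.presheaf.stalk y) RY))) :=
    HasRingHomProperty.Spec_iff.2 (RingHom.flat_algebraMap_iff.2 (flat_strict _ _))
  haveI : Flat (Y.fromSpecStalk y) := flat_fromSpecStalk y
  exact MorphismProperty.comp_mem (W := @Flat) _ _ inferInstance inferInstance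

/-- Lifts through the points of etale neighbourhoods. -/
theorem exists_lift_point (V : Y.Etale) (v : V.left) (hv : V.hom v = y) :
    ∃ ρ : Lift (Hens2.specOf Y y RY) V, ρ.1 (closedPoint RY) = v := by
  haveI : Etale V.hom := V.prop
  haveI : HenselianLocalRing RY := Hensel.IsStrictHenselization.henselian (Y.presheaf.stalk y)
  haveI : IsSepClosed (ResidueField RY) :=
    (Hensel.IsStrictHenselization.isSepClosure (R := Y.presheaf.stalk y) (S := RY)).sep_closed
  obtain ⟨t, ht₁, ht₂⟩ := Scheme.exists_preimage_of_isPullback (IsPullback.of_hasPullback V.hom (Hens2.specOf Y y RY)) v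
    (closedPoint RY) (hv.trans (specOf_closedPoint Y y RY).symm)
  obtain ⟨u, hu, hut⟩ := (Hensel.strictlyHenselian_iff_exists_section RY).1 ⟨‹_›, ‹_›⟩ _
    (pullback.snd V.hom (Hens2.specOf Y y RY)) (MorphismProperty.pullback_snd _ _ inferInstance) t ht₂
  refine ⟨⟨u ≫ pullback.fst V.hom _, ?_⟩, ?_⟩
  · rw [Category.assoc, pullback.condition, ← Category.assoc, hu, Category.id_comp]
  · exact (Scheme.Hom.comp_apply _ _ _).trans ((congrArg (pullback.fst V.hom _) hut).trans ht₁)

/-- Lifts defined on a larger strictly henselian scheme descend. -/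
theorem exists_lift_comp {RY' : Type u} [CommRing RY'] [IsLocalRing RY'] (φ : RY →+* RY') [IsLocalHom φ]
    (V : Y.Etale) (ρ₀ : Spec (CommRingCat.of RY') ⟶ V.left)
    (hρ₀ : ρ₀ ≫ V.hom = Spec.map (CommRingCat.ofHom φ) ≫ Hens2.specOf Y y RY) :
    ∃ ρ : Lift (Hens2.specOf Y y RY) V, Spec.map (CommRingCat.ofHom φ) ≫ ρ.1 = ρ₀ := by
  haveI : Etale V.hom := V.prop
  haveI : HenselianLocalRing RY := Hensel.IsStrictHenselization.henselian (Y.presheaf.stalk y)
  haveI : IsSepClosed (ResidueField RY) :=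
    (Hensel.IsStrictHenselization.isSepClosure (R := Y.presheaf.stalk y) (S := RY)).sep_closed
  haveI : Etale (pullback.snd V.hom (Hens2.specOf Y y RY)) := MorphismProperty.pullback_snd _ _ inferInstance
  let l : Spec (CommRingCat.of RY') ⟶ pullback V.hom (Hens2.specOf Y y RY) :=
    pullback.lift ρ₀ (Spec.map (CommRingCat.ofHom φ)) hρ₀
  have hl : pullback.snd V.hom (Hens2.specOf Y y RY) (l (closedPoint RY')) = closedPoint RY := by
    rw [← Scheme.Hom.comp_apply, pullback.lift_snd]
    exact comap_closedPoint φ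
  obtain ⟨u, hu, hut⟩ := (Hensel.strictlyHenselian_iff_exists_section RY).1 ⟨‹_›, ‹_›⟩ _
    (pullback.snd V.hom (Hens2.specOf Y y RY)) inferInstance _ hl
  haveI : IsOpenImmersion u := EtFound.isOpenImmersion_section _ u hu
  obtain ⟨k, hk⟩ := exists_factor u l ⟨_, hut⟩
  have hkφ : k = Spec.map (CommRingCat.ofHom φ) := by
    rw [← pullback.lift_snd ρ₀ (Spec.map (CommRingCat.ofHom φ)) hρ₀]
    exact ((congrArg (· ≫ pullback.snd V.hom (Hens2.specOf Y y RY)) hk).symm.trans
      ((Category.assoc _ _ _).trans ((congrArg (k ≫ ·) hu).trans (Category.comp_id _)))).symm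
  refine ⟨⟨u ≫ pullback.fst V.hom _, ?_⟩, ?_⟩
  · rw [Category.assoc, pullback.condition, ← Category.assoc, hu, Category.id_comp]
  · show Spec.map (CommRingCat.ofHom φ) ≫ u ≫ pullback.fst V.hom _ = ρ₀
    rw [← hkφ, ← Category.assoc, hk, pullback.lift_fst]

/-- An affine chart of a strict localization. -/
theorem exists_chart : ∃ (R : CommRingCat.{u}) (jY : Spec R ⟶ Y) (_ : IsOpenImmersion jY) (_ : Algebra R RY),
    y ∈ Set.range jY ∧ HasEtLift R RY ∧ Spec.map (CommRingCat.ofHom (algebraMap R RY)) ≫ jY = Hens2.specOf Y y RY := by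
  obtain ⟨_, ⟨Y₀, hY₀, rfl⟩, hy, -⟩ :=
    Y.isBasis_affineOpens.exists_subset_of_mem_open (Set.mem_univ y) isOpen_univ
  replace hY₀ : IsAffineOpen Y₀ := hY₀
  letI : Algebra Γ(Y, Y₀) RY := ((algebraMap (Y.presheaf.stalk y) RY).comp (Y.presheaf.germ Y₀ y hy).hom).toAlgebra
  obtain ⟨hY, -⟩ := hasEtLift_of_isAffineOpen hY₀ hy RY (P := Γ(Y, Y₀)) (RingHom.id _) Function.bijective_id fun _ => rfl
  refine ⟨Γ(Y, Y₀), hY₀.fromSpec, inferInstance, inferInstance, ?_, hY, ?_⟩
  · rw [hY₀.range_fromSpec]; exact hy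
  · rw [Hens2.specOf, ← hY₀.fromSpecStalk_eq_fromSpecStalk hy, IsAffineOpen.fromSpecStalk, ← Category.assoc, ← Spec.map_comp]
    rfl

theorem hasBasis_chart {R : CommRingCat.{u}} (jY : Spec R ⟶ Y) [IsOpenImmersion jY] {B : Type u} [CommRing B] [Algebra R B]
    (hlift : HasEtLift R B) : HasBasis (Spec.map (CommRingCat.ofHom (algebraMap R B)) ≫ jY) := by
  intro W q z G hG hzG
  let π := Spec.map (CommRingCat.ofHom (algebraMap R B)) ≫ jY
  have hzY : pullback.fst q π z ∈ q ⁻¹ᵁ jY.opensRange := by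
    show q (pullback.fst q π z) ∈ Set.range jY
    rw [← Scheme.Hom.comp_apply, pullback.condition]
    exact ⟨_, (Scheme.Hom.comp_apply _ _ _).symm.trans (congrArg (fun m : pullback q π ⟶ Y => m z) (Category.assoc _ _ _))⟩
  obtain ⟨_, ⟨W₀, hW₀, rfl⟩, hzW, hW₀Y⟩ :=
    W.isBasis_affineOpens.exists_subset_of_mem_open hzY (q ⁻¹ᵁ jY.opensRange).2
  replace hW₀ : IsAffineOpen W₀ := hW₀
  obtain ⟨q₀, hq₀⟩ : ∃ q₀ : Spec Γ(W, W₀) ⟶ Spec R, q₀ ≫ jY = hW₀.fromSpec ≫ q := by
    refine ⟨IsOpenImmersion.lift jY (hW₀.fromSpec ≫ q) ?_, IsOpenImmersion.lift_fac _ _ _⟩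
    rintro _ ⟨s, rfl⟩
    exact hW₀Y (hW₀.range_fromSpec.le ⟨s, rfl⟩)
  obtain ⟨α, rfl⟩ := Spec.map_surjective q₀
  let A : Type u := Γ(W, W₀)
  letI : Algebra R A := α.hom.toAlgebra
  let emb : ∀ (C : Type u) [CommRing C] [Algebra R C],
      Spec (CommRingCat.of (A ⊗[R] C)) ⟶ pullback q (Spec.map (CommRingCat.ofHom (algebraMap R C)) ≫ jY) := fun C _ _ =>
    (pullbackSpecIso R A C).inv ≫ pullback.map (Spec.map (CommRingCat.ofHom (algebraMap R A)))
      (Spec.map (CommRingCat.ofHom (algebraMap R C))) q _ hW₀.fromSpec (𝟙 _) jY hq₀ (Category.id_comp _).symm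
  have embfst : ∀ (C : Type u) [CommRing C] [Algebra R C], emb C ≫ pullback.fst q _ =
      Spec.map (CommRingCat.ofHom (Algebra.TensorProduct.includeLeftRingHom : A →+* A ⊗[R] C)) ≫ hW₀.fromSpec := fun C _ _ => by
    simp only [emb, Category.assoc, pullback.lift_fst]
    rw [← Category.assoc, pullbackSpecIso_inv_fst]
  have embsnd : ∀ (C : Type u) [CommRing C] [Algebra R C], emb C ≫ pullback.snd q _ =
      Spec.map (CommRingCat.ofHom ((Algebra.TensorProduct.includeRight : C →ₐ[R] A ⊗[R] C).toRingHom)) := fun C _ _ => by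
    simp only [emb, Category.assoc, pullback.lift_snd, Category.comp_id]
    exact pullbackSpecIso_inv_snd R A C
  haveI hemb : ∀ (C : Type u) [CommRing C] [Algebra R C], IsOpenImmersion (emb C) := fun C _ _ => by
    dsimp only [emb]
    infer_instance
  let e : Spec (CommRingCat.of (A ⊗[R] B)) ⟶ pullback q π := emb B
  have efst := embfst B
  have esnd := embsnd B
  have hrange : ∀ w : ↥(pullback q π), pullback.fst q π w ∈ W₀ → w ∈ Set.range e := fun w hw => by
    show w ∈ Set.range (emb B)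
    rw [Scheme.Hom.comp_base, TopCat.coe_comp, Set.range_comp, Function.Surjective.range_eq (f := (pullbackSpecIso R A B).inv) (Scheme.homeoOfIso (pullbackSpecIso R A B).symm).surjective,
      Set.image_univ, Scheme.Pullback.range_map]
    refine ⟨?_, ⟨_, rfl⟩⟩
    show pullback.fst q _ w ∈ Set.range hW₀.fromSpec
    rw [hW₀.range_fromSpec]
    exact hw
  obtain ⟨p₀, hp₀⟩ := hrange z hzW
  obtain ⟨_, ⟨r, rfl⟩, hp₀r, hrG⟩ := PrimeSpectrum.isTopologicalBasis_basic_opens.exists_subset_of_mem_open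
    (show p₀ ∈ e ⁻¹' G by show e p₀ ∈ G; rw [hp₀]; exact hzG) (hG.preimage e.continuous)
  obtain ⟨s, hs⟩ := TensorProduct.exists_finset (R := R) r
  classical
  obtain ⟨C, _, _, _, πC, hπC⟩ := hlift (s.image Prod.snd)
  obtain ⟨r', hr'⟩ : ∃ r' : A ⊗[R] C, Algebra.TensorProduct.map (AlgHom.id R A) πC r' = r := by
    show r ∈ (Algebra.TensorProduct.map (AlgHom.id R A) πC).range
    rw [hs]
    refine sum_mem fun x hx => ?_
    obtain ⟨c, hc⟩ := hπC x.2 (Finset.mem_image_of_mem _ hx)
    exact ⟨x.1 ⊗ₜ c, (Algebra.TensorProduct.map_tmul _ _ _ _).trans (congrArg (x.1 ⊗ₜ[R] ·) hc)⟩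
  haveI : Etale (Spec.map (CommRingCat.ofHom (algebraMap R C))) :=
    HasRingHomProperty.Spec_iff.2 (RingHom.etale_algebraMap.2 inferInstance)
  let V : Y.Etale := MorphismProperty.Over.mk ⊤ (Spec.map (CommRingCat.ofHom (algebraMap R C)) ≫ jY)
    (MorphismProperty.comp_mem (W := @Etale) _ _ inferInstance inferInstance)
  let ρ : Lift π V := ⟨Spec.map (CommRingCat.ofHom πC.toRingHom), by
    show Spec.map _ ≫ Spec.map _ ≫ jY = _
    rw [← Category.assoc, ← Spec.map_comp, ← CommRingCat.ofHom_comp]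
    exact congrArg (fun φ => Spec.map (CommRingCat.ofHom φ) ≫ jY) πC.comp_algebraMap⟩
  let T : ↥(Spec (CommRingCat.of (A ⊗[R] B))) → ↥(Spec (CommRingCat.of (A ⊗[R] C))) := fun p =>
    Spec.map (CommRingCat.ofHom (Algebra.TensorProduct.map (AlgHom.id R A) πC).toRingHom) p
  let L : pullback q π ⟶ pullback q V.hom := pullback.lift (pullback.fst q π) (pullback.snd q π ≫ ρ.1)
    (pullback.condition.trans ((congrArg (pullback.snd q π ≫ ·) ρ.2.symm).trans (Category.assoc _ _ _).symm))
  have hL : e ≫ L = Spec.map (CommRingCat.ofHom (Algebra.TensorProduct.map (AlgHom.id R A) πC).toRingHom) ≫ emb C := by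
    refine pullback.hom_ext ?_ ?_
    · refine (Category.assoc _ _ _).trans ((congrArg (e ≫ ·) (pullback.lift_fst _ _ _)).trans (efst.trans ?_))
      refine Eq.trans ?_ ((Category.assoc _ _ _).trans (congrArg (Spec.map _ ≫ ·) (embfst C))).symm
      rw [← Category.assoc, ← Spec.map_comp, ← CommRingCat.ofHom_comp]
      congr 3
      exact RingHom.ext fun a => by simp
    · refine (Category.assoc _ _ _).trans ((congrArg (e ≫ ·) (pullback.lift_snd _ _ _)).trans
        ((Category.assoc _ _ _).symm.trans ((congrArg (· ≫ ρ.1) esnd).trans ?_)))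
      refine Eq.trans ?_ ((Category.assoc _ _ _).trans (congrArg (Spec.map _ ≫ ·) (embsnd C))).symm
      show Spec.map _ ≫ Spec.map _ = _
      rw [← Spec.map_comp, ← Spec.map_comp, ← CommRingCat.ofHom_comp, ← CommRingCat.ofHom_comp]
      congr 2
  have hLa : ∀ p, L (e p) = emb C (T p) := fun p => congrArg (fun m : _ ⟶ pullback q V.hom => m p) hL
  haveI : IsAffine V.left := inferInstanceAs (IsAffine (Spec (CommRingCat.of C)))
  refine ⟨V, inferInstance, ρ, ⟨emb C '' (PrimeSpectrum.basicOpen r' : Set (PrimeSpectrum (A ⊗[R] C))),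
    (hemb C).base_open.isOpenMap _ (PrimeSpectrum.basicOpen r').2⟩, ?_, ?_⟩
  · show L z ∈ _
    rw [← hp₀, hLa]
    refine ⟨T p₀, ?_, rfl⟩
    show r' ∉ Ideal.comap _ p₀.asIdeal
    intro hm
    exact hp₀r (hr' ▸ hm)
  · rintro w ⟨b, hb, hbw⟩
    have hw : pullback.fst q π w ∈ W₀ := by
      have e2 : pullback.fst q π w = pullback.fst q V.hom (emb C b) := ((congrArg (pullback.fst q V.hom) hbw).trans
        ((Scheme.Hom.comp_apply _ _ _).symm.trans (congrArg (fun m : pullback q π ⟶ W => m w) (pullback.lift_fst _ _ _)))).symm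
      have e3 : pullback.fst q V.hom (emb C b) = hW₀.fromSpec (Spec.map (CommRingCat.ofHom
          (Algebra.TensorProduct.includeLeftRingHom : A →+* A ⊗[R] C)) b) :=
        congrArg (fun m : Spec (CommRingCat.of (A ⊗[R] C)) ⟶ W => m b) (embfst C)
      rw [e2, e3]
      exact hW₀.range_fromSpec.le ⟨_, rfl⟩
    obtain ⟨p, rfl⟩ := hrange w hw
    refine hrG ?_
    show r ∉ p.asIdeal
    have hTp : T p = b := (hemb C).base_open.injective ((hLa p).symm.trans hbw.symm)
    intro hm
    refine hb ?_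
    rw [← hTp]
    show Algebra.TensorProduct.map (AlgHom.id R A) πC r' ∈ p.asIdeal
    exact hr'.symm ▸ hm

theorem hasBasis_specOf : HasBasis (Hens2.specOf Y y RY) := by
  obtain ⟨R, jY, hjY, algR, -, hlift, hπ⟩ := exists_chart y RY
  rw [← hπ]
  exact hasBasis_chart jY hlift

end Groth.Agent.HenselConn
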