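import Groth.Agent.HenselConn.ZeroAcyc

/-!
# Universally submersive morphisms and a criterion for 0-acyclicity
-/

set_option autoImplicit false

universe u

open CategoryTheory CategoryTheory.Limits AlgebraicGeometry

namespace Groth.Agent.HenselConn

variable {X Y Z : Scheme.{u}}

theorem isUnivSubmersive_comp (a : X ⟶ Y) (b : Y ⟶ Z) (ha : EtDesc.IsUnivSubmersive a)
    (hb : EtDesc.IsUnivSubmersive b) : EtDesc.IsUnivSubmersive (a ≫ b) := fun T g => by
  let e := pullbackRightPullbackFstIso b g a
  have h : pullback.snd (a ≫ b) g = e.inv ≫ pullback.snd a (pullback.fst b g) ≫ pullback.snd b g := by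
    rw [Iso.eq_inv_comp, pullbackRightPullbackFstIso_hom_snd]
  have hq : Topology.IsQuotientMap (e.inv ≫ pullback.snd a (pullback.fst b g) ≫ pullback.snd b g).base := by
    rw [Scheme.Hom.comp_base, Scheme.Hom.comp_base, TopCat.coe_comp, TopCat.coe_comp]
    exact ((hb T g).2.comp (ha _ _).2).comp (Scheme.homeoOfIso e.symm).isQuotientMap
  rw [h]
  exact ⟨hq.surjective, hq⟩

theorem isUnivSubmersive_of_comp (a : X ⟶ Y) (b : Y ⟶ Z) (h : EtDesc.IsUnivSubmersive (a ≫ b)) :
    EtDesc.IsUnivSubmersive b := fun T g => by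
  let m : pullback (a ≫ b) g ⟶ pullback b g := pullback.lift (pullback.fst _ _ ≫ a) (pullback.snd _ _)
    (by rw [Category.assoc, pullback.condition])
  have hm : pullback.snd (a ≫ b) g = m ≫ pullback.snd b g := (pullback.lift_snd _ _ _).symm
  have hq := (h T g).2
  rw [hm, Scheme.Hom.comp_base, TopCat.coe_comp] at hq
  have hq' := Topology.IsQuotientMap.of_comp m.continuous (pullback.snd b g).continuous hq
  exact ⟨hq'.surjective, hq'⟩

theorem isUnivSubmersive_of_integral (f : X ⟶ Y) [IsIntegralHom f] [Surjective f] :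
    EtDesc.IsUnivSubmersive f := fun T g => by
  haveI : IsIntegralHom (pullback.snd f g) := MorphismProperty.pullback_snd _ _ inferInstance
  haveI : Surjective (pullback.snd f g) := MorphismProperty.pullback_snd _ _ inferInstance
  exact ⟨Surjective.surj, ((pullback.snd f g).isClosedMap).isQuotientMap (pullback.snd f g).continuous Surjective.surj⟩

theorem isUnivSubmersive_fst (f : X ⟶ Y) (hf : EtDesc.IsUnivSubmersive f) (v : Z ⟶ Y) :
    EtDesc.IsUnivSubmersive (pullback.fst v f) := fun T s => by
  let φ : pullback f (s ≫ v) ≅ pullback (pullback.fst v f) s :=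
    pullbackSymmetry _ _ ≪≫ (pullbackRightPullbackFstIso v f s).symm ≪≫ pullbackSymmetry _ _
  have h : φ.hom ≫ pullback.snd (pullback.fst v f) s = pullback.snd f (s ≫ v) := by
    simp [φ]
  have hq := (hf T (s ≫ v)).2
  rw [← h, Scheme.Hom.comp_base, TopCat.coe_comp] at hq
  have hq' := Topology.IsQuotientMap.of_comp φ.hom.continuous (pullback.snd (pullback.fst v f) s).continuous hq
  exact ⟨hq'.surjective, hq'⟩

/-- Universally submersive morphisms with connected geometric fibres are 0-acyclic. -/
theorem isZeroAcyclic_of_submersive (f : X ⟶ Y) (hf : EtDesc.IsUnivSubmersive f)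
    (hc : ∀ (Ω : Type u) [Field Ω] [IsAlgClosed Ω] (s : Spec (CommRingCat.of Ω) ⟶ Y), ConnectedSpace ↥(pullback f s)) :
    EtAcyc.IsZeroAcyclic f := fun V F => by
  refine isIso_unit_of_connected _ (isUnivSubmersive_fst f hf V.hom) (fun Ω _ _ s => ?_) F
  haveI := hc Ω (s ≫ V.hom)
  let φ : pullback f (s ≫ V.hom) ≅ pullback (pullback.fst V.hom f) s :=
    pullbackSymmetry _ _ ≪≫ (pullbackRightPullbackFstIso V.hom f s).symm ≪≫ pullbackSymmetry _ _
  exact (Scheme.homeoOfIso φ).surjective.connectedSpace (Scheme.homeoOfIso φ).continuous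

end Groth.Agent.HenselConn
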