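import Groth.Agent.HenselConn.Compat
import Groth.Agent.HenselConn.LocalIso
import Groth.Agent.HenselConn.StrictPoint
import Groth.Agent.HenselConn.Submersive

/-!
# Base change of direct images along universally locally 0-acyclic morphisms
-/

set_option autoImplicit false

universe u

open CategoryTheory CategoryTheory.Limits AlgebraicGeometry Opposite TopologicalSpace IsLocalRing TensorProduct
open Groth.Agent.BigSiteLib.DescSec

namespace Groth.Agent.HenselConn

set_option backward.isDefEq.respectTransparency.types false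

/-- The map of strict localizations along a universally locally 0-acyclic morphism. -/
theorem exists_strict_map {Y Y' : Scheme.{u}} (g : Y' ⟶ Y) (hg : EtAcyc.IsULocZeroAcyclic g) (y' : Y') :
    ∃ φ : Hensel.StrictHenz (Y.presheaf.stalk (g y')) →+* Hensel.StrictHenz (Y'.presheaf.stalk y'),
      IsLocalHom φ ∧
      Hens2.specOf Y' y' (Hensel.StrictHenz (Y'.presheaf.stalk y')) ≫ g =
        Spec.map (CommRingCat.ofHom φ) ≫ Hens2.specOf Y (g y') (Hensel.StrictHenz (Y.presheaf.stalk (g y'))) ∧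
      EtDesc.IsUnivSubmersive (Spec.map (CommRingCat.ofHom φ)) ∧
      ∀ (Ω : Type u) [Field Ω] [IsAlgClosed Ω] (s : Spec (CommRingCat.of Ω) ⟶ Spec (CommRingCat.of (Hensel.StrictHenz (Y.presheaf.stalk (g y'))))),
        ConnectedSpace ↥(pullback (Spec.map (CommRingCat.ofHom φ)) s) := by
  let OY := Y.presheaf.stalk (g y')
  let OX := Y'.presheaf.stalk y'
  let RY := Hensel.StrictHenz OY
  let RX := Hensel.StrictHenz OX
  haveI : Algebra.IsSeparable (ResidueField OY) (ResidueField RY) :=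
    (Hensel.IsStrictHenselization.isSepClosure (R := OY) (S := RY)).separable
  haveI : IsSepClosed (ResidueField RX) :=
    (Hensel.IsStrictHenselization.isSepClosure (R := OX) (S := RX)).sep_closed
  let f₀ : OY →+* RX := (algebraMap OX RX).comp (g.stalkMap y').hom
  haveI : IsLocalHom f₀ := RingHom.isLocalHom_comp _ _
  letI : Algebra (ResidueField OY) (ResidueField RX) := (ResidueField.map f₀).toAlgebra
  let τa : ResidueField RY →ₐ[ResidueField OY] ResidueField RX := IsSepClosed.lift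
  obtain ⟨φ, ⟨hφ, hφr⟩, -⟩ := Hensel.IsStrictHenselization.universal (R := OY) (S := RY) RX f₀ τa.toRingHom
    (RingHom.ext τa.commutes)
  letI : Algebra RY RX := φ.toAlgebra
  haveI hl : IsLocalHom (algebraMap RY RX) := ⟨fun r hr => by
    by_contra hn
    have h0 : residue RX (φ r) = 0 := by
      rw [hφr, (residue_eq_zero_iff r).mpr hn, map_zero]
    exact ((residue_eq_zero_iff _).1 h0) hr⟩
  refine ⟨φ, hl, specOf_comp g y' RY RX hφ, isUnivSubmersive_strict g hg y' RY RX hφ, fun Ω _ _ s => ?_⟩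
  obtain ⟨ψ, rfl⟩ := Spec.map_surjective s
  letI : Algebra RY Ω := ψ.hom.toAlgebra
  haveI := connectedSpace_of_uloc g hg y' RY RX hφ Ω
  haveI : ConnectedSpace (PrimeSpectrum (RX ⊗[RY] Ω)) :=
    (PrimeSpectrum.homeomorphOfRingEquiv (Algebra.TensorProduct.comm RY Ω RX).toRingEquiv).surjective.connectedSpace
      (PrimeSpectrum.homeomorphOfRingEquiv (Algebra.TensorProduct.comm RY Ω RX).toRingEquiv).continuous
  have φ' := Scheme.homeoOfIso (pullbackSpecIso RY RX Ω).symm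
  haveI : ConnectedSpace ↥(Spec (CommRingCat.of (RX ⊗[RY] Ω))) := inferInstanceAs (ConnectedSpace (PrimeSpectrum (RX ⊗[RY] Ω)))
  exact φ'.surjective.connectedSpace φ'.continuous

variable {X Y X' Y' : Scheme.{u}} (f : X ⟶ Y) (g : Y' ⟶ Y) (f' : X' ⟶ Y') (g' : X' ⟶ X) (H : IsPullback g' f' f g)

/-- The map of limits is universally submersive with connected geometric fibres. -/
theorem secPull_limMap_bijective {S S' : Scheme.{u}} (π : S ⟶ Y) (π' : S' ⟶ Y') (h : S' ⟶ S) (hπ : π' ≫ g = h ≫ π)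
    (hh : EtDesc.IsUnivSubmersive h)
    (hc : ∀ (Ω : Type u) [Field Ω] [IsAlgClosed Ω] (s : Spec (CommRingCat.of Ω) ⟶ S), ConnectedSpace ↥(pullback h s))
    (G : EtDesc.Sh (pullback f π)) :
    Function.Bijective (EtDesc.secPull (limMap f g f' g' H.w π π' h hπ) G) := by
  let hT := limMap f g f' g' H.w π π' h hπ
  have hP : IsPullback hT (pullback.snd f' π') (pullback.snd f π) h := by
    refine IsPullback.of_right ?_ (limMap_snd f g f' g' H.w π π' h hπ) (IsPullback.of_hasPullback f π)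
    rw [limMap_fst, ← hπ]
    exact (IsPullback.of_hasPullback f' π').paste_horiz H
  have hUS : EtDesc.IsUnivSubmersive hT := by
    rw [show hT = hP.isoPullback.hom ≫ pullback.fst (pullback.snd f π) h from hP.isoPullback_hom_fst.symm]
    exact isUnivSubmersive_comp _ _ (isUnivSubmersive_of_integral _) (isUnivSubmersive_fst h hh _)
  refine secPull_bijective_of_connected hT hUS (fun Ω _ _ s => ?_) G
  haveI := hc Ω (s ≫ pullback.snd f π)
  let e := ((IsPullback.of_hasPullback hT s).flip.paste_vert hP).flip.isoPullback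
  exact (Scheme.homeoOfIso e.symm).surjective.connectedSpace (Scheme.homeoOfIso e.symm).continuous

omit H in
/-- A pair of neighbourhood maps gives a map to the product. -/
theorem exists_pair_hom {V V₁ V₂ : Y.Etale} {Z : Y'.Etale} (m₁ : V ⟶ V₁) (m₂ : V ⟶ V₂)
    (c₁ : Z ⟶ (EtCoh.bc g).obj V₁) (c₂ : Z ⟶ (EtCoh.bc g).obj V₂) (hV : IsPullback m₁.left m₂.left V₁.hom V₂.hom) :
    ∃ c : Z ⟶ (EtCoh.bc g).obj V, c ≫ (EtCoh.bc g).map m₁ = c₁ ∧ c ≫ (EtCoh.bc g).map m₂ = c₂ := by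
  have hw : ∀ {U : Y.Etale} (d : Z ⟶ (EtCoh.bc g).obj U), (d.left ≫ pullback.fst U.hom g) ≫ U.hom = Z.hom ≫ g := fun {U} d =>
    (Category.assoc _ _ _).trans ((congrArg (d.left ≫ ·) (pullback.condition (f := U.hom) (g := g))).trans
      ((Category.assoc _ _ _).symm.trans (congrArg (· ≫ g) (MorphismProperty.Over.w d))))
  let p := hV.lift (c₁.left ≫ pullback.fst V₁.hom g) (c₂.left ≫ pullback.fst V₂.hom g) ((hw c₁).trans (hw c₂).symm)
  have hp : p ≫ V.hom = Z.hom ≫ g := by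
    rw [← MorphismProperty.Over.w m₁]
    exact (Category.assoc _ _ _).symm.trans ((congrArg (· ≫ V₁.hom) (hV.lift_fst _ _ _)).trans (hw c₁))
  let c : Z ⟶ (EtCoh.bc g).obj V := MorphismProperty.Over.homMk (pullback.lift p Z.hom hp) (pullback.lift_snd _ _ _)
  have hext : ∀ {U : Y.Etale} (d : Z ⟶ (EtCoh.bc g).obj U) (m : V ⟶ U), p ≫ m.left = d.left ≫ pullback.fst U.hom g →
      c ≫ (EtCoh.bc g).map m = d := fun {U} d m e => by
    refine MorphismProperty.Over.Hom.ext (pullback.hom_ext ?_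
      ((MorphismProperty.Over.w (c ≫ (EtCoh.bc g).map m)).trans (MorphismProperty.Over.w d).symm))
    refine (Category.assoc _ _ _).trans ?_
    refine (congrArg (c.left ≫ ·) (EtCoh.isPullback_bc_map g m).w).trans ?_
    exact (Category.assoc _ _ _).symm.trans ((congrArg (· ≫ m.left) (pullback.lift_fst _ _ _)).trans e)
  exact ⟨c, hext c₁ m₁ (hV.lift_fst _ _ _), hext c₂ m₂ (hV.lift_snd _ _ _)⟩

variable [QuasiCompact f] [QuasiSeparated f] (hg : EtAcyc.IsULocZeroAcyclic g) (F : EtDesc.Sh X)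

include hg H

omit hg in
theorem injective_at {S S' : Scheme.{u}} (π : S ⟶ Y) (π' : S' ⟶ Y') (h : S' ⟶ S) (hπ : π' ≫ g = h ≫ π) [Flat π]
    (hbij : ∀ G : EtDesc.Sh (pullback f π), Function.Injective (EtDesc.secPull (limMap f g f' g' H.w π π' h hπ) G))
    {V : Y.Etale} {Z : Y'.Etale} (c : Z ⟶ (EtCoh.bc g).obj V) (ρ : Lift π V) (ρ' : Lift π' Z)
    (hc : ρ'.1 ≫ c.left ≫ pullback.fst V.hom g = h ≫ ρ.1)
    (a b : F.obj.obj (op ((EtCoh.bc f).obj V))) (e : trA f g f' g' H.w F c a = trA f g f' g' H.w F c b) (s' : S') :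
    LocEq ((EtDesc.pullSh g).obj ((EtDesc.pushSh f).obj F)).obj
      (((EtDesc.pullSh g).obj ((EtDesc.pushSh f).obj F)).obj.map c.op (up g ((EtDesc.pushSh f).obj F) V a))
      (((EtDesc.pullSh g).obj ((EtDesc.pushSh f).obj F)).obj.map c.op (up g ((EtDesc.pushSh f).obj F) V b)) (ρ'.1 s') := by
  haveI := flat_lift π ρ
  have h1 := res_compat f g f' g' H.w F π π' h hπ ρ ρ' c hc a
  have h2 := res_compat f g f' g' H.w F π π' h hπ ρ ρ' c hc b
  rw [e, ← h2] at h1
  have h3 := congrArg ((limIso f g f' g' H.w F π π' h hπ).inv.hom.app (op (EtCoh.top (pullback f' π')))) h1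
  rw [app_inv_apply, app_inv_apply] at h3
  obtain ⟨O, hO, hab⟩ := exists_open_of_res_eq f π ρ a b (hbij _ h3)
  haveI : Etale V.hom := V.prop
  let V' : Y.Etale := MorphismProperty.Over.mk ⊤ (O.ι ≫ V.hom) (inferInstanceAs (Etale (O.ι ≫ V.hom)))
  let m : V' ⟶ V := MorphismProperty.Over.homMk O.ι rfl
  have hres : F.obj.map ((EtCoh.bc f).map m).op a = F.obj.map ((EtCoh.bc f).map m).op b := eq_of_locEq F fun p => by
    refine (hab _ ?_).map _
    have ep := congrArg (fun k : ((EtCoh.bc f).obj V').left ⟶ V.left => k p) (EtCoh.isPullback_bc_map f m).w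
    exact (((Scheme.Hom.comp_apply _ _ _).symm.trans ep).trans (Scheme.Hom.comp_apply _ _ _)) ▸
      (pullback.fst V'.hom f p).2
  refine LocEq.map c ?_
  have hpt : pr g V (c.left (ρ'.1 s')) = ρ.1 (h s') :=
    ((Scheme.Hom.comp_apply _ _ _).trans (congrArg _ (Scheme.Hom.comp_apply _ _ _))).symm.trans
      ((congrArg (fun k : S' ⟶ V.left => k s') hc).trans (Scheme.Hom.comp_apply _ _ _))
  obtain ⟨o, ho, -⟩ := Scheme.exists_preimage_of_isPullback (EtCoh.isPullback_bc_map g m) (c.left (ρ'.1 s'))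
    (⟨pr g V (c.left (ρ'.1 s')), hpt ▸ hO _⟩ : V'.left) rfl
  rw [← ho]
  refine LocEq.of_map ((EtCoh.bc g).map m) ?_
  rw [← up_map, ← up_map]
  exact (show ((EtDesc.pushSh f).obj F).obj.map m.op a = ((EtDesc.pushSh f).obj F).obj.map m.op b from hres) ▸ LocEq.refl _ _

omit hg in
theorem surjective_at {S S' : Scheme.{u}} (π : S ⟶ Y) (π' : S' ⟶ Y') (h : S' ⟶ S) (hπ : π' ≫ g = h ≫ π) [Flat π] [Flat π']
    [CompactSpace S] (hB : HasBasis π)
    (hbij : ∀ G : EtDesc.Sh (pullback f π), Function.Surjective (EtDesc.secPull (limMap f g f' g' H.w π π' h hπ) G))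
    (Z : Y'.Etale) (t : ((EtDesc.pullSh g').obj F).obj.obj (op ((EtCoh.bc f').obj Z))) (ρ' : Lift π' Z) (s' : S') :
    ∃ (Z' : Y'.Etale) (k : Z' ⟶ Z) (a : ((EtDesc.pullSh g).obj ((EtDesc.pushSh f).obj F)).obj.obj (op Z')),
      ρ'.1 s' ∈ Set.range k.left ∧ (EtBC.baseChange0Sh f g f' g' H.w F).hom.app (op Z') a =
        ((EtDesc.pullSh g').obj F).obj.map ((EtCoh.bc f').map k).op t := by
  haveI : QuasiCompact f' := MorphismProperty.of_isPullback H ‹QuasiCompact f›
  let Φ := limIso f g f' g' H.w F π π' h hπ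
  obtain ⟨σ, hσ⟩ := hbij _ (Φ.inv.hom.app (op (EtCoh.top (pullback f' π'))) (res f' π' ρ' t))
  have hσ' : Φ.hom.hom.app (op (EtCoh.top (pullback f' π'))) (EtDesc.secPull (limMap f g f' g' H.w π π' h hπ) _ σ) =
      res f' π' ρ' t := by
    rw [hσ]
    exact app_inv_apply Φ.symm _ _
  obtain ⟨V, ρ, a, ha⟩ := exists_res_eq f π σ hB fun {V} ρ => flat_lift π ρ
  haveI : Etale Z.hom := Z.prop
  haveI : Etale ((EtCoh.bc g).obj V).hom := ((EtCoh.bc g).obj V).prop
  let Z₁ : Y'.Etale := MorphismProperty.Over.mk ⊤ (pullback.fst Z.hom ((EtCoh.bc g).obj V).hom ≫ Z.hom) (by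
    haveI : Etale (pullback.fst Z.hom ((EtCoh.bc g).obj V).hom) := MorphismProperty.pullback_fst _ _ inferInstance
    exact inferInstanceAs (Etale (pullback.fst Z.hom ((EtCoh.bc g).obj V).hom ≫ Z.hom)))
  let k₁ : Z₁ ⟶ Z := MorphismProperty.Over.homMk (pullback.fst Z.hom ((EtCoh.bc g).obj V).hom) rfl
  let c : Z₁ ⟶ (EtCoh.bc g).obj V := MorphismProperty.Over.homMk (pullback.snd Z.hom ((EtCoh.bc g).obj V).hom) pullback.condition.symm
  let l : S' ⟶ ((EtCoh.bc g).obj V).left :=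
    pullback.lift (h ≫ ρ.1) π' ((Category.assoc _ _ _).trans ((congrArg (h ≫ ·) ρ.2).trans hπ.symm))
  let ρ₁ : Lift π' Z₁ := ⟨pullback.lift ρ'.1 l (ρ'.2.trans (pullback.lift_snd _ _ _).symm),
    ((Category.assoc _ _ _).symm.trans (congrArg (· ≫ Z.hom) (pullback.lift_fst _ _ _))).trans ρ'.2⟩
  have hc₁ : ρ₁.1 ≫ c.left ≫ pullback.fst V.hom g = h ≫ ρ.1 :=
    ((Category.assoc _ _ _).symm.trans (congrArg (· ≫ pullback.fst V.hom g) (pullback.lift_snd _ _ _))).trans
      (pullback.lift_fst _ _ _)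
  have e : res f' π' ρ₁ (trA f g f' g' H.w F c a) = res f' π' ρ₁ (((EtDesc.pullSh g').obj F).obj.map ((EtCoh.bc f').map k₁).op t) := by
    rw [← res_compat f g f' g' H.w F π π' h hπ ρ ρ₁ c hc₁ a, ha, hσ',
      res_map f' π' k₁ ρ' ρ₁ (pullback.lift_fst _ _ _) t]
  haveI := flat_lift π' ρ₁
  obtain ⟨O, hO, hOe⟩ := exists_open_of_res_eq f' π' ρ₁ _ _ e
  haveI : Etale Z₁.hom := Z₁.prop
  let Z₂ : Y'.Etale := MorphismProperty.Over.mk ⊤ (O.ι ≫ Z₁.hom) (inferInstanceAs (Etale (O.ι ≫ Z₁.hom)))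
  let m : Z₂ ⟶ Z₁ := MorphismProperty.Over.homMk O.ι rfl
  refine ⟨Z₂, m ≫ k₁, ((EtDesc.pullSh g).obj ((EtDesc.pushSh f).obj F)).obj.map (m ≫ c).op
    (up g ((EtDesc.pushSh f).obj F) V a), ⟨⟨_, hO s'⟩, ?_⟩, ?_⟩
  · refine (Scheme.Hom.comp_apply _ _ _).trans ?_
    exact (Scheme.Hom.comp_apply _ _ _).symm.trans (congrArg (fun q : S' ⟶ Z.left => q s') (pullback.lift_fst _ _ _))
  · rw [baseChange_up, ← trA_map f g f' g' H.w F c m a, CategoryTheory.Functor.map_comp, ← mapF]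
    refine eq_of_locEq _ fun p => ?_
    refine (hOe _ ?_).map _
    have ep := congrArg (fun q : ((EtCoh.bc f').obj Z₂).left ⟶ Z₁.left => q p) (EtCoh.isPullback_bc_map f' m).w
    exact (((Scheme.Hom.comp_apply _ _ _).symm.trans ep).trans (Scheme.Hom.comp_apply _ _ _)) ▸
      (pullback.fst Z₂.hom f' p).2

theorem injective_local {V : Y.Etale} {Z : Y'.Etale} (c : Z ⟶ (EtCoh.bc g).obj V)
    (a b : F.obj.obj (op ((EtCoh.bc f).obj V)))
    (e : trA f g f' g' H.w F c a = trA f g f' g' H.w F c b) (z : Z.left) :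
    LocEq ((EtDesc.pullSh g).obj ((EtDesc.pushSh f).obj F)).obj
      (((EtDesc.pullSh g).obj ((EtDesc.pushSh f).obj F)).obj.map c.op (up g ((EtDesc.pushSh f).obj F) V a))
      (((EtDesc.pullSh g).obj ((EtDesc.pushSh f).obj F)).obj.map c.op (up g ((EtDesc.pushSh f).obj F) V b)) z := by
  obtain ⟨y', hy'⟩ : ∃ y' : Y', Z.hom z = y' := ⟨_, rfl⟩
  obtain ⟨φ, hφl, hπ, hUS, hc⟩ := exists_strict_map g hg y'
  haveI := flat_specOf (g y') (Hensel.StrictHenz (Y.presheaf.stalk (g y')))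
  obtain ⟨ρ', hρ'⟩ := exists_lift_point y' (Hensel.StrictHenz (Y'.presheaf.stalk y')) Z z hy'
  haveI := hφl
  obtain ⟨ρ, hρ⟩ := exists_lift_comp (g y') (Hensel.StrictHenz (Y.presheaf.stalk (g y'))) φ V
    (ρ'.1 ≫ c.left ≫ pullback.fst V.hom g) (by
      refine Eq.trans ?_ hπ
      refine Eq.trans ?_ (congrArg (· ≫ g) ρ'.2)
      refine (Category.assoc _ _ _).trans ?_
      refine Eq.trans (congrArg (ρ'.1 ≫ ·) ?_) (Category.assoc _ _ _).symm
      refine (Category.assoc _ _ _).trans ((congrArg (c.left ≫ ·) (pullback.condition (f := V.hom) (g := g))).trans ?_)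
      exact (Category.assoc _ _ _).symm.trans (congrArg (· ≫ g) (MorphismProperty.Over.w c)))
  rw [← hρ']
  exact injective_at f g f' g' H F _ _ _ hπ
    (fun G => (secPull_limMap_bijective f g f' g' H _ _ _ hπ hUS hc G).1) c ρ ρ' hρ.symm a b e _

theorem surjective_local (Z : Y'.Etale) (t : ((EtDesc.pullSh g').obj F).obj.obj (op ((EtCoh.bc f').obj Z))) (z : Z.left) :
    ∃ (Z' : Y'.Etale) (k : Z' ⟶ Z) (a : ((EtDesc.pullSh g).obj ((EtDesc.pushSh f).obj F)).obj.obj (op Z')),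
      z ∈ Set.range k.left ∧ (EtBC.baseChange0Sh f g f' g' H.w F).hom.app (op Z') a =
        ((EtDesc.pullSh g').obj F).obj.map ((EtCoh.bc f').map k).op t := by
  obtain ⟨y', hy'⟩ : ∃ y' : Y', Z.hom z = y' := ⟨_, rfl⟩
  obtain ⟨φ, hφl, hπ, hUS, hc⟩ := exists_strict_map g hg y'
  haveI := flat_specOf (g y') (Hensel.StrictHenz (Y.presheaf.stalk (g y')))
  haveI := flat_specOf y' (Hensel.StrictHenz (Y'.presheaf.stalk y'))
  obtain ⟨ρ', hρ'⟩ := exists_lift_point y' (Hensel.StrictHenz (Y'.presheaf.stalk y')) Z z hy'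
  rw [← hρ']
  exact surjective_at f g f' g' H F _ _ _ hπ (hasBasis_specOf _ _)
    (fun G => (secPull_limMap_bijective f g f' g' H _ _ _ hπ hUS hc G).2) Z t ρ' _

/-- Base change of direct images of sheaves of sets along universally locally 0-acyclic morphisms. -/
theorem isIso_baseChange0Sh_of_uloc : IsIso (EtBC.baseChange0Sh f g f' g' H.w F) := by
  let G := (EtDesc.pushSh f).obj F
  refine isIso_of_local _ (fun W s₁ s₂ e w => ?_) (fun W t w => ?_)
  · obtain ⟨V₁, a₁, Z₁, c₁, k₁, z₁, hz₁, he₁⟩ := exists_up_eq_any g G W s₁ w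
    obtain ⟨V₂, a₂, Z₂, c₂, k₂, z₂, hz₂, he₂⟩ :=
      exists_up_eq_any g G Z₁ (((EtDesc.pullSh g).obj G).obj.map k₁.op s₂) z₁
    haveI : Etale V₁.hom := V₁.prop
    haveI : Etale V₂.hom := V₂.prop
    let V : Y.Etale := MorphismProperty.Over.mk ⊤ (pullback.fst V₁.hom V₂.hom ≫ V₁.hom) (by
      haveI : Etale (pullback.fst V₁.hom V₂.hom) := MorphismProperty.pullback_fst _ _ inferInstance
      exact inferInstanceAs (Etale (pullback.fst V₁.hom V₂.hom ≫ V₁.hom)))
    let m₁ : V ⟶ V₁ := MorphismProperty.Over.homMk (pullback.fst V₁.hom V₂.hom) rfl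
    let m₂ : V ⟶ V₂ := MorphismProperty.Over.homMk (pullback.snd V₁.hom V₂.hom) pullback.condition.symm
    obtain ⟨c, hc₁, hc₂⟩ := exists_pair_hom g m₁ m₂ (k₂ ≫ c₁) c₂ (IsPullback.of_hasPullback V₁.hom V₂.hom)
    have f₁ : ((EtDesc.pullSh g).obj G).obj.map c.op (up g G V (G.obj.map m₁.op a₁)) =
        ((EtDesc.pullSh g).obj G).obj.map (k₂ ≫ k₁).op s₁ := by
      rw [up_map, mapF, hc₁, ← mapF, he₁, mapF]
    have f₂ : ((EtDesc.pullSh g).obj G).obj.map c.op (up g G V (G.obj.map m₂.op a₂)) =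
        ((EtDesc.pullSh g).obj G).obj.map (k₂ ≫ k₁).op s₂ := by
      rw [up_map, mapF, hc₂, he₂, mapF]
    have hloc := injective_local f g f' g' H hg F c (G.obj.map m₁.op a₁) (G.obj.map m₂.op a₂) (by
      rw [← baseChange_up f g f' g' H.w F c, ← baseChange_up f g f' g' H.w F c, f₁, f₂, NatTrans.naturality_apply,
        NatTrans.naturality_apply, e]) z₂
    rw [f₁, f₂] at hloc
    have := LocEq.of_map (k₂ ≫ k₁) hloc
    rwa [show (k₂ ≫ k₁).left z₂ = w from (Scheme.Hom.comp_apply _ _ _).trans ((congrArg k₁.left hz₂).trans hz₁)] at this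
  · exact surjective_local f g f' g' H hg F W t w

end Groth.Agent.HenselConn
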