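import Groth.Agent.UnibConn.Main
import Groth.Agent.Hensel.TensorStrict
import Groth.Agent.Hensel.IntegralStrict
import Groth.Agent.FormCat.GeomConnected
import Groth.Agent.RegFS6.NormalLift
import Groth.Agent.FlatLoc6.BaseChangeHom

/-!
# Connected geometric fibres of flat local maps with geometrically reduced fibres over henselian rings
-/

set_option autoImplicit false

universe u

open TensorProduct IsLocalRing

namespace Groth.Agent.HenselConn

/-- Generic idempotents are trivial when the finite integral extensions stay local. -/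
theorem idem_generic {C B : Type u} [CommRing C] [IsDomain C] [IsNoetherianRing C] [IsLocalRing C] [CommRing B]
    [Algebra C B] [Module.Flat C B] (hgeo : ∀ (L : Type u) [Field L] [Algebra C L], IsReduced (L ⊗[C] B))
    (K : Type u) [Field K] [Algebra C K] [IsFractionRing C K]
    (H : ∀ (A₁ : Subalgebra C K), Module.Finite C A₁ → IsLocalRing (A₁ ⊗[C] B))
    {e : K ⊗[C] B} (he : IsIdempotentElem e) : e = 0 ∨ e = 1 := by
  classical
  obtain ⟨a, b, ha, rfl⟩ := UnibConn.exists_inv_tmul K e
  have haK : algebraMap C K a ≠ 0 := fun h => ha (IsFractionRing.injective C K (h.trans (map_zero _).symm))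
  have hinj : Function.Injective (fun c : B => (1 : K) ⊗ₜ[C] c) := by
    intro c c' hcc'
    have h := Module.Flat.rTensor_preserves_injective_linearMap (M := B) (Algebra.linearMap C K)
      (IsFractionRing.injective C K)
    refine (TensorProduct.lid C B).symm.injective (h ?_)
    simpa using hcc'
  have hb : b * b = algebraMap C B a * b := by
    refine hinj ?_
    have h1 : ((algebraMap C K a)⁻¹ ⊗ₜ[C] b) * ((algebraMap C K a)⁻¹ ⊗ₜ[C] b) = (algebraMap C K a)⁻¹ ⊗ₜ[C] b := he
    rw [Algebra.TensorProduct.tmul_mul_tmul] at h1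
    have h2 := congrArg (fun t => ((algebraMap C K a * algebraMap C K a) ⊗ₜ[C] (1 : B)) * t) h1
    simp only [Algebra.TensorProduct.tmul_mul_tmul, one_mul] at h2
    have e1 : algebraMap C K a * algebraMap C K a * ((algebraMap C K a)⁻¹ * (algebraMap C K a)⁻¹) = 1 := by
      field_simp
    have e2 : algebraMap C K a * algebraMap C K a * (algebraMap C K a)⁻¹ = algebraMap C K a := by
      field_simp
    rw [e1, e2] at h2
    show (1 : K) ⊗ₜ[C] (b * b) = (1 : K) ⊗ₜ[C] (algebraMap C B a * b)
    rw [← Algebra.smul_def a b, ← TensorProduct.smul_tmul, Algebra.smul_def, mul_one]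
    exact h2
  obtain ⟨ι, _, r, c, hbc, hint⟩ := UnibConn.exists_integral_repr hgeo K ha hb
  let x : ι → K := fun i => algebraMap C K (r i) / algebraMap C K a
  let A₁ : Subalgebra C K := Algebra.adjoin C (Set.range x)
  haveI : Module.Finite C A₁ := Module.Finite.of_fg
    (fg_adjoin_of_finite (Set.finite_range x) fun y ⟨i, hi⟩ => hi ▸ hint i)
  haveI := H A₁ inferInstance
  let ν : A₁ ⊗[C] B →ₐ[C] K ⊗[C] B := Algebra.TensorProduct.map A₁.val (AlgHom.id C B)
  have hν : Function.Injective ν :=
    Module.Flat.rTensor_preserves_injective_linearMap (M := B) A₁.val.toLinearMap Subtype.val_injective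
  let ε : A₁ ⊗[C] B := ∑ i, (⟨x i, Algebra.subset_adjoin ⟨i, rfl⟩⟩ : A₁) ⊗ₜ[C] c i
  have hε : ν ε = (algebraMap C K a)⁻¹ ⊗ₜ[C] b := by
    rw [map_sum, hbc, TensorProduct.tmul_sum]
    refine Finset.sum_congr rfl fun i _ => ?_
    rw [← TensorProduct.smul_tmul, Algebra.smul_def]
    show (x i) ⊗ₜ[C] c i = _
    rw [show x i = algebraMap C K (r i) / algebraMap C K a from rfl, div_eq_mul_inv]
  have hεi : IsIdempotentElem ε := hν (by rw [map_mul, hε]; exact he)
  rcases FormCat.idem_of_isLocalRing _ ε hεi with h | h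
  · left; rw [← hε, h, map_zero]
  · right; rw [← hε, h, map_one]

variable (A B : Type u) [CommRing A] [CommRing B] [IsLocalRing A] [IsLocalRing B] [Algebra A B]
  [IsLocalHom (algebraMap A B)]

/-- A finite local algebra stays local over a local algebra without residue extension. -/
theorem isLocalRing_tensor_of_residue (hres : Function.Bijective (ResidueField.map (algebraMap A B)))
    (S : Type u) [CommRing S] [IsLocalRing S] [Algebra A S] [Module.Finite A S] [IsLocalHom (algebraMap A S)] :
    IsLocalRing (S ⊗[A] B) := by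
  have hle := Hensel.tensorMax_le A S B
  haveI : Nontrivial (S ⊗[A] B) := ⟨0, 1, fun h => Hensel.tensorMax_ne_top A S B
    ((Ideal.eq_top_iff_one _).mpr (h ▸ zero_mem _))⟩
  obtain ⟨M₀, hM₀⟩ := Ideal.exists_maximal (S ⊗[A] B)
  refine IsLocalRing.of_unique_max_ideal ⟨M₀, hM₀, fun M hM => ?_⟩
  have key : ∀ z : S ⊗[A] B, ∃ s : S, z - s ⊗ₜ[A] (1 : B) ∈ Hensel.tensorMax A S B := by
    intro z
    induction z with
    | zero => exact ⟨0, by simp⟩
    | tmul s b =>
      obtain ⟨c, hc⟩ := hres.2 (residue B b)
      obtain ⟨a, rfl⟩ := residue_surjective c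
      have hm : b - algebraMap A B a ∈ maximalIdeal B := by
        rw [← residue_eq_zero_iff, map_sub, ← hc, ResidueField.map_residue, sub_self]
      refine ⟨a • s, ?_⟩
      rw [show (a • s) ⊗ₜ[A] (1 : B) = s ⊗ₜ[A] algebraMap A B a by
        rw [TensorProduct.smul_tmul, Algebra.algebraMap_eq_smul_one], ← TensorProduct.tmul_sub,
        show s ⊗ₜ[A] (b - algebraMap A B a) = (s ⊗ₜ[A] (1 : B)) * ((1 : S) ⊗ₜ[A] (b - algebraMap A B a)) by simp]
      exact Ideal.mul_mem_left _ _ (Ideal.mem_sup_right (Ideal.mem_map_of_mem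
        (Algebra.TensorProduct.includeRight : B →ₐ[A] S ⊗[A] B).toRingHom hm))
    | add x y hx hy =>
      obtain ⟨s, hs⟩ := hx
      obtain ⟨t, ht⟩ := hy
      exact ⟨s + t, by rw [TensorProduct.add_tmul]; simpa [add_sub_add_comm] using add_mem hs ht⟩
  refine hM.eq_of_le hM₀.ne_top fun z hz => ?_
  obtain ⟨s, hs⟩ := key z
  have hsM : s ⊗ₜ[A] (1 : B) ∈ M := by simpa using M.sub_mem hz (hle M hs)
  by_cases hu : IsUnit s
  · exact absurd (Ideal.eq_top_of_isUnit_mem _ hsM
      (hu.map (Algebra.TensorProduct.includeLeftRingHom : S →+* S ⊗[A] B))) hM.ne_top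
  · have := M₀.add_mem (hle M₀ hs) (hle M₀ (Ideal.mem_sup_left (Ideal.mem_map_of_mem
      (Algebra.TensorProduct.includeLeft : S →ₐ[A] S ⊗[A] B).toRingHom (show s ∈ maximalIdeal S from hu))))
    simpa using this

variable [IsNoetherianRing A] [Module.Flat A B]

/-- Connected fibres, given that finite domains stay local. -/
theorem connectedSpace_fibre
    (hgeo : ∀ (L : Type u) [Field L] [Algebra A L], IsReduced (L ⊗[A] B))
    (hloc : ∀ (S : Type u) [CommRing S] [IsDomain S] [Algebra A S] [Module.Finite A S], IsLocalRing (S ⊗[A] B))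
    (hlocal : ∀ (S : Type u) [CommRing S] [IsDomain S] [Algebra A S] [Module.Finite A S], IsLocalRing S)
    (K : Type u) [Field K] [Algebra A K] : ConnectedSpace (PrimeSpectrum (K ⊗[A] B)) := by
  haveI : (RingHom.ker (algebraMap A K)).IsPrime := RingHom.ker_isPrime _
  let p := RingHom.ker (algebraMap A K)
  obtain ⟨_, _⟩ := FlatLoc6.exists_residueAlgebra (L := K) p rfl
  haveI : Module.FaithfullyFlat A B := Module.FaithfullyFlat.of_flat_of_isLocalHom
  haveI : Nontrivial (p.Fiber B) := inferInstance
  haveI := FormCat.geometricallyConnected_of_finite p.ResidueField (p.Fiber B)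
    (fun L _ _ hL e he => by
      haveI := hL
      letI : Algebra A L := ((algebraMap p.ResidueField L).comp (algebraMap A p.ResidueField)).toAlgebra
      haveI : IsScalarTower A p.ResidueField L := IsScalarTower.of_algebraMap_eq' rfl
      obtain ⟨C, hCfin, hCfr⟩ := RegFS6.exists_order_residue p L
      haveI := hCfin
      haveI := hCfr
      haveI := hlocal C
      haveI : IsNoetherianRing C := Algebra.FiniteType.isNoetherianRing A C
      have hgeo' : ∀ (L' : Type u) [Field L'] [Algebra C L'], IsReduced (L' ⊗[C] (C ⊗[A] B)) := by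
        intro L' _ _
        letI : Algebra A L' := ((algebraMap C L').comp (algebraMap A C)).toAlgebra
        haveI : IsScalarTower A C L' := IsScalarTower.of_algebraMap_eq' rfl
        haveI := hgeo L'
        exact isReduced_of_injective
          (Algebra.TensorProduct.cancelBaseChange A C C L' B).toRingEquiv.toRingHom
          (Algebra.TensorProduct.cancelBaseChange A C C L' B).injective
      have H : ∀ A₁ : Subalgebra C L, Module.Finite C A₁ → IsLocalRing (A₁ ⊗[C] (C ⊗[A] B)) := by
        intro A₁ hA₁
        haveI : Module.Finite A A₁ := Module.Finite.trans C A₁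
        haveI := hloc A₁
        exact (Algebra.TensorProduct.cancelBaseChange A C C A₁ B).toRingEquiv.symm.isLocalRing
      let φ : L ⊗[p.ResidueField] (p.Fiber B) ≃+* L ⊗[C] (C ⊗[A] B) :=
        (Algebra.TensorProduct.cancelBaseChange A p.ResidueField L L B).toRingEquiv.trans
          (Algebra.TensorProduct.cancelBaseChange A C C L B).toRingEquiv.symm
      exact FormCat.idem_of_equiv φ (fun e he => idem_generic hgeo' L H he) e he) K
  exact GeomSep.connectedSpace_of_equiv
    (Algebra.TensorProduct.cancelBaseChange A p.ResidueField K K B).symm.toRingEquiv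

end Groth.Agent.HenselConn
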