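import Groth.Agent.HenselConn.Cont
import Groth.Agent.BigSiteLib.EtDescSec.Main
import Groth.Agent.BigSiteLib.EtDescSec.SecBC
import Groth.Agent.EtFound.FiniteBaseChange

/-!
# Compatibility of base change with restriction to limits
-/

set_option autoImplicit false

universe u

open CategoryTheory CategoryTheory.Limits AlgebraicGeometry Opposite TopologicalSpace
open Groth.Agent.BigSiteLib.DescSec

namespace Groth.Agent.HenselConn

set_option backward.isDefEq.respectTransparency.types false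

/-- The composite unit transported to the inverse image along a composite. -/
theorem via_up {X Y Z : Scheme.{u}} (g : Z ⟶ Y) (f : Y ⟶ X) (b : Z ⟶ X) (w : g ≫ f = b) (F : EtDesc.Sh X) {U : X.Etale}
    {W : Z.Etale} (e : W ⟶ (EtCoh.bc g).obj ((EtCoh.bc f).obj U)) :
    ∃ e' : W ⟶ (EtCoh.bc b).obj U,
      e'.left ≫ pullback.fst U.hom b = (e.left ≫ pullback.fst ((EtCoh.bc f).obj U).hom g) ≫ pullback.fst U.hom f ∧
      ∀ a : F.obj.obj (op U), (EtDesc.pullVia g f b w F).hom.hom.app (op W)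
        (((EtDesc.pullSh g).obj ((EtDesc.pullSh f).obj F)).obj.map e.op (up g ((EtDesc.pullSh f).obj F) _ (up f F U a))) =
        ((EtDesc.pullSh b).obj F).obj.map e'.op (up b F U a) := by
  obtain ⟨c, hc₁, hc₂, hc⟩ := unit_pullVia g f b w F U
  have hsnd : (e.left ≫ pullback.fst ((EtCoh.bc f).obj U).hom g) ≫ pullback.snd U.hom f = W.hom ≫ g := by
    refine (Category.assoc _ _ _).trans ?_
    refine (congrArg (e.left ≫ ·) (pullback.condition (f := ((EtCoh.bc f).obj U).hom) (g := g))).trans ?_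
    exact (Category.assoc _ _ _).symm.trans (congrArg (· ≫ g) (MorphismProperty.Over.w e))
  let e' : W ⟶ (EtCoh.bc b).obj U := MorphismProperty.Over.homMk
    (pullback.lift ((e.left ≫ pullback.fst ((EtCoh.bc f).obj U).hom g) ≫ pullback.fst U.hom f) W.hom (by
      rw [← w]
      refine (Category.assoc _ _ _).trans ?_
      refine (congrArg (_ ≫ ·) (pullback.condition (f := U.hom) (g := f))).trans ?_
      refine (Category.assoc _ _ _).symm.trans ?_
      refine (congrArg (· ≫ f) hsnd).trans ?_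
      exact Category.assoc _ _ _))
    (pullback.lift_snd _ _ _)
  refine ⟨e', pullback.lift_fst _ _ _, fun a => ?_⟩
  have hec : e = e' ≫ c := by
    refine MorphismProperty.Over.Hom.ext (pullback.hom_ext (pullback.hom_ext ?_ ?_) ?_)
    · refine Eq.trans ?_ (Category.assoc _ _ _).symm
      refine Eq.trans ?_ (congrArg (· ≫ pullback.fst U.hom f) (Category.assoc _ _ _).symm)
      refine Eq.trans ?_ (Category.assoc _ _ _).symm
      refine Eq.trans ?_ (congrArg (e'.left ≫ ·) hc₁).symm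
      exact (pullback.lift_fst _ _ _).symm
    · refine hsnd.trans ?_
      refine Eq.trans ?_ (congrArg (· ≫ pullback.snd U.hom f) (Category.assoc _ _ _).symm)
      refine Eq.trans ?_ (Category.assoc _ _ _).symm
      refine Eq.trans ?_ (congrArg (e'.left ≫ ·) hc₂).symm
      refine Eq.trans ?_ (Category.assoc _ _ _)
      exact (congrArg (· ≫ g) (MorphismProperty.Over.w e')).symm
    · exact (MorphismProperty.Over.w e).trans (MorphismProperty.Over.w (e' ≫ c)).symm
  rw [hec, ← mapF, NatTrans.naturality_apply, hc]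

variable {X Y X' Y' : Scheme.{u}} (f : X ⟶ Y) (g : Y' ⟶ Y) (f' : X' ⟶ Y') (g' : X' ⟶ X) (w : g' ≫ f = f' ≫ g)
  (F : EtDesc.Sh X)

/-- The transport of a section of the direct image to a neighbourhood downstairs. -/
noncomputable def trA {V : Y.Etale} {Z : Y'.Etale} (c : Z ⟶ (EtCoh.bc g).obj V)
    (a : F.obj.obj (op ((EtCoh.bc f).obj V))) :
    ((EtDesc.pullSh g').obj F).obj.obj (op ((EtCoh.bc f').obj Z)) :=
  ((EtDesc.pullSh g').obj F).obj.map ((EtCoh.bc f').map c ≫ EtFound.bcSquare w V).op (up g' F _ a)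

theorem trA_map {V : Y.Etale} {Z Z' : Y'.Etale} (c : Z ⟶ (EtCoh.bc g).obj V) (k : Z' ⟶ Z)
    (a : F.obj.obj (op ((EtCoh.bc f).obj V))) :
    ((EtDesc.pullSh g').obj F).obj.map ((EtCoh.bc f').map k).op (trA f g f' g' w F c a) = trA f g f' g' w F (k ≫ c) a := by
  rw [trA, trA, mapF, CategoryTheory.Functor.map_comp, Category.assoc]

/-- The base change map on a local representative. -/
theorem baseChange_up {V : Y.Etale} {Z : Y'.Etale} (c : Z ⟶ (EtCoh.bc g).obj V)
    (a : F.obj.obj (op ((EtCoh.bc f).obj V))) :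
    (EtBC.baseChange0Sh f g f' g' w F).hom.app (op Z)
        (((EtDesc.pullSh g).obj ((EtDesc.pushSh f).obj F)).obj.map c.op (up g ((EtDesc.pushSh f).obj F) V a)) =
      trA f g f' g' w F c a := by
  let m := (EtDesc.pushSh f).map ((EtDesc.adjSh g').unit.app F) ≫ (EtDesc.pushCompSh f g').hom.app _ ≫
      (EtBC.pushCongrSh w).hom.app _ ≫ (EtDesc.pushCompSh g f').inv.app _
  have hu : (EtBC.baseChange0Sh f g f' g' w F).hom.app (op ((EtCoh.bc g).obj V))
      (up g _ V a) = m.hom.app (op V) a := by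
    have e : (EtDesc.adjSh g).homEquiv _ _ (EtBC.baseChange0Sh f g f' g' w F) = m := Equiv.apply_symm_apply _ _
    rw [Adjunction.homEquiv_unit] at e
    exact ConcreteCategory.congr_hom
      (congrArg (fun α : (EtDesc.pushSh f).obj F ⟶ (EtDesc.pushSh g).obj ((EtDesc.pushSh f').obj ((EtDesc.pullSh g').obj F)) =>
        α.hom.app (op V)) e) a
  have hm : m.hom.app (op V) a = ((EtDesc.pullSh g').obj F).obj.map (EtFound.bcSquare w V).op (up g' F _ a) := by
    refine Eq.trans ?_ ((congrArg (((EtDesc.pullSh g').obj F).obj.map _) (mapF ((EtDesc.pullSh g').obj F).obj _ _ _)).trans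
      (mapF ((EtDesc.pullSh g').obj F).obj _ _ _))
    rfl
  refine (NatTrans.naturality_apply (EtBC.baseChange0Sh f g f' g' w F).hom _ _).trans ?_
  rw [hu, hm]
  exact mapF ((EtDesc.pullSh g').obj F).obj ((EtCoh.bc f').map c) _ _

variable {S S' : Scheme.{u}} (π : S ⟶ Y) (π' : S' ⟶ Y') (h : S' ⟶ S) (hπ : π' ≫ g = h ≫ π)

/-- The map of limits. -/
noncomputable def limMap : pullback f' π' ⟶ pullback f π :=
  pullback.lift (pullback.fst f' π' ≫ g') (pullback.snd f' π' ≫ h) (by
    rw [Category.assoc, w, ← Category.assoc, pullback.condition, Category.assoc, hπ, Category.assoc])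

theorem limMap_fst : limMap f g f' g' w π π' h hπ ≫ pullback.fst f π = pullback.fst f' π' ≫ g' :=
  pullback.lift_fst _ _ _

theorem limMap_snd : limMap f g f' g' w π π' h hπ ≫ pullback.snd f π = pullback.snd f' π' ≫ h :=
  pullback.lift_snd _ _ _

/-- The comparison of sheaves on the limits. -/
noncomputable def limIso :
    (EtDesc.pullSh (limMap f g f' g' w π π' h hπ)).obj ((EtDesc.pullSh (pT f π)).obj F) ≅
      (EtDesc.pullSh (pT f' π')).obj ((EtDesc.pullSh g').obj F) :=
  EtDesc.pullVia (limMap f g f' g' w π π' h hπ) (pT f π) (pT f' π' ≫ g') (limMap_fst f g f' g' w π π' h hπ) F ≪≫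
    (EtDesc.pullVia (pT f' π') g' (pT f' π' ≫ g') rfl F).symm

theorem key_eq {V : Y.Etale} {Z : Y'.Etale} (ρ : Lift π V) (ρ' : Lift π' Z) (c : Z ⟶ (EtCoh.bc g).obj V)
    (hc : ρ'.1 ≫ c.left ≫ pullback.fst V.hom g = h ≫ ρ.1) :
    limMap f g f' g' w π π' h hπ ≫ toXV f π ρ =
      (toXV f' π' ρ' ≫ ((EtCoh.bc f').map c ≫ EtFound.bcSquare w V).left) ≫ pullback.fst ((EtCoh.bc f).obj V).hom g' := by
  refine pullback.hom_ext ?_ ?_
  · refine (Category.assoc _ _ _).trans ((congrArg (_ ≫ ·) (toXV_fst f π ρ)).trans ?_)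
    refine (Category.assoc _ _ _).symm.trans ((congrArg (· ≫ ρ.1) (limMap_snd f g f' g' w π π' h hπ)).trans ?_)
    refine (Category.assoc _ _ _).trans ((congrArg (pullback.snd f' π' ≫ ·) hc.symm).trans ?_)
    refine Eq.trans ?_ (congrArg (· ≫ pullback.fst V.hom f) (Category.assoc _ _ _)).symm
    refine Eq.trans ?_ (Category.assoc _ _ _).symm
    refine Eq.trans ?_ (congrArg (toXV f' π' ρ' ≫ ·) (Category.assoc _ _ _).symm)
    refine Eq.trans ?_ (congrArg (toXV f' π' ρ' ≫ ·) ((congrArg (((EtCoh.bc f').map c).left ≫ ·)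
      ((Category.assoc _ _ _).symm.trans ((Category.assoc _ _ _).trans (EtFound.bcSquare_fst w V)))).trans
        ((Category.assoc _ _ _).symm.trans ((congrArg (· ≫ pullback.fst V.hom g) (EtCoh.isPullback_bc_map f' c).w).trans
          (Category.assoc _ _ _))))).symm
    refine Eq.trans ?_ (Category.assoc _ _ _)
    refine Eq.trans ?_ (congrArg (· ≫ c.left ≫ pullback.fst V.hom g) (toXV_fst f' π' ρ')).symm
    exact (Category.assoc _ _ _).symm
  · refine (Category.assoc _ _ _).trans ((congrArg (_ ≫ ·) (toXV_snd f π ρ)).trans ?_)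
    refine (limMap_fst f g f' g' w π π' h hπ).trans ?_
    refine Eq.trans ?_ (congrArg (· ≫ pullback.snd V.hom f) (Category.assoc _ _ _)).symm
    refine Eq.trans ?_ (Category.assoc _ _ _).symm
    have e : (((EtCoh.bc f').map c ≫ EtFound.bcSquare w V).left ≫
        pullback.fst ((EtCoh.bc f).obj V).hom g') ≫ pullback.snd V.hom f = pullback.snd Z.hom f' ≫ g' := by
      refine (Category.assoc _ _ _).trans ?_
      refine (congrArg (_ ≫ ·) (pullback.condition (f := ((EtCoh.bc f).obj V).hom) (g := g'))).trans ?_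
      exact (Category.assoc _ _ _).symm.trans (congrArg (· ≫ g') (MorphismProperty.Over.w ((EtCoh.bc f').map c ≫ EtFound.bcSquare w V)))
    refine Eq.trans ?_ (congrArg (toXV f' π' ρ' ≫ ·) e).symm
    exact (congrArg (· ≫ g') (toXV_snd f' π' ρ')).symm.trans (Category.assoc _ _ _)

theorem via_compat {T T' X X' : Scheme.{u}} (hT : T' ⟶ T) (p : T ⟶ X) (p' : T' ⟶ X') (q : X' ⟶ X) (b : T' ⟶ X)
    (w₁ : hT ≫ p = b) (w₂ : p' ≫ q = b) (F : EtDesc.Sh X) {U : X.Etale} {W : X'.Etale}
    (s : EtCoh.top T ⟶ (EtCoh.bc p).obj U) (k : W ⟶ (EtCoh.bc q).obj U) (s' : EtCoh.top T' ⟶ (EtCoh.bc p').obj W)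
    (key : hT ≫ (s.left ≫ pullback.fst U.hom p) =
      (((show T' ⟶ ((EtCoh.bc p').obj W).left from s'.left) ≫ pullback.fst W.hom p') ≫ k.left) ≫ pullback.fst U.hom q)
    (a : F.obj.obj (op U)) :
    (EtDesc.pullVia hT p b w₁ F ≪≫ (EtDesc.pullVia p' q b w₂ F).symm).hom.hom.app (op (EtCoh.top T'))
        (EtDesc.secPull hT _ (((EtDesc.pullSh p).obj F).obj.map s.op (up p F U a))) =
      ((EtDesc.pullSh p').obj ((EtDesc.pullSh q).obj F)).obj.map s'.op
        (up p' _ W (((EtDesc.pullSh q).obj F).obj.map k.op (up q F U a))) := by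
  refine (trans_symm_apply_eq_iff _ _ _ _ _).2 ?_
  let eL : EtCoh.top T' ⟶ (EtCoh.bc hT).obj ((EtCoh.bc p).obj U) :=
    (EtCore.bcTopIso hT).inv ≫ (EtCoh.bc hT).map s
  let eR : EtCoh.top T' ⟶ (EtCoh.bc p').obj ((EtCoh.bc q).obj U) := s' ≫ (EtCoh.bc p').map k
  obtain ⟨l, hl, hla⟩ := via_up hT p b w₁ F eL
  obtain ⟨r, hr, hra⟩ := via_up p' q b w₂ F eR
  have e₁ : EtDesc.secPull hT _ (((EtDesc.pullSh p).obj F).obj.map s.op (up p F U a)) =
      ((EtDesc.pullSh hT).obj ((EtDesc.pullSh p).obj F)).obj.map eL.op (up hT _ _ (up p F U a)) := by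
    show ((EtDesc.pullSh hT).obj _).obj.map (EtCore.bcTopIso hT).inv.op (up hT _ _ _) = _
    rw [up_map, mapF]
  have e₂ : ((EtDesc.pullSh p').obj ((EtDesc.pullSh q).obj F)).obj.map s'.op
        (up p' _ W (((EtDesc.pullSh q).obj F).obj.map k.op (up q F U a))) =
      ((EtDesc.pullSh p').obj ((EtDesc.pullSh q).obj F)).obj.map eR.op (up p' _ _ (up q F U a)) := by
    rw [up_map, mapF]
  rw [e₁, e₂, hla, hra]
  refine congrArg (fun m : _ ⟶ (EtCoh.bc b).obj U => ((EtDesc.pullSh b).obj F).obj.map m.op (up b F U a)) ?_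
  refine MorphismProperty.Over.Hom.ext (pullback.hom_ext ?_
    ((MorphismProperty.Over.w l).trans (MorphismProperty.Over.w r).symm))
  refine hl.trans (Eq.trans ?_ hr.symm)
  have el : eL.left ≫ pullback.fst ((EtCoh.bc p).obj U).hom hT = hT ≫ s.left := by
    refine (Category.assoc _ _ _).trans ?_
    refine (congrArg ((EtCore.bcTopIso hT).inv.left ≫ ·) (EtCoh.isPullback_bc_map hT s).w).trans ?_
    refine (Category.assoc _ _ _).symm.trans (congrArg (· ≫ s.left) ?_)
    refine (Category.comp_id _).symm.trans ?_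
    refine (Category.assoc _ _ _).trans ?_
    refine (congrArg ((EtCore.bcTopIso hT).inv.left ≫ ·) (pullback.condition (f := (EtCoh.top T).hom) (g := hT))).trans ?_
    refine (Category.assoc _ _ _).symm.trans ?_
    refine (congrArg (· ≫ hT) (MorphismProperty.Over.w (EtCore.bcTopIso hT).inv)).trans ?_
    exact Category.id_comp _
  have er : eR.left ≫ pullback.fst ((EtCoh.bc q).obj U).hom p' =
      ((show T' ⟶ ((EtCoh.bc p').obj W).left from s'.left) ≫ pullback.fst W.hom p') ≫ k.left := by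
    refine (Category.assoc _ _ _).trans ?_
    refine (congrArg (s'.left ≫ ·) (EtCoh.isPullback_bc_map p' k).w).trans ?_
    exact (Category.assoc _ _ _).symm
  refine Eq.trans ?_ (congrArg (· ≫ pullback.fst U.hom q) er).symm
  refine (congrArg (· ≫ pullback.fst U.hom p) el).trans ?_
  exact (Category.assoc _ _ _).trans key

theorem res_compat {V : Y.Etale} {Z : Y'.Etale} (ρ : Lift π V) (ρ' : Lift π' Z) (c : Z ⟶ (EtCoh.bc g).obj V)
    (hc : ρ'.1 ≫ c.left ≫ pullback.fst V.hom g = h ≫ ρ.1) (a : F.obj.obj (op ((EtCoh.bc f).obj V))) :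
    (limIso f g f' g' w F π π' h hπ).hom.hom.app (op (EtCoh.top (pullback f' π')))
        (EtDesc.secPull (limMap f g f' g' w π π' h hπ) _ (res f π ρ a)) =
      res f' π' ρ' (trA f g f' g' w F c a) := by
  refine via_compat (limMap f g f' g' w π π' h hπ) (pT f π) (pT f' π') g' (pT f' π' ≫ g') _ rfl F
    (sigma f π ρ) ((EtCoh.bc f').map c ≫ EtFound.bcSquare w V) (sigma f' π' ρ') ?_ a
  refine Eq.trans (congrArg (limMap f g f' g' w π π' h hπ ≫ ·) (pullback.lift_fst _ _ _)) ?_
  refine Eq.trans ?_ (congrArg (fun m : pullback f' π' ⟶ ((EtCoh.bc f').obj Z).left =>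
    (m ≫ ((EtCoh.bc f').map c ≫ EtFound.bcSquare w V).left) ≫ pullback.fst ((EtCoh.bc f).obj V).hom g') (pullback.lift_fst _ _ _)).symm
  exact key_eq f g f' g' w π π' h hπ ρ ρ' c hc

end Groth.Agent.HenselConn
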