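import Groth.Agent.BigSiteLib.EtDescSec.Main
import Groth.Agent.AlgSpLib.EtLocalInst
import Mathlib.AlgebraicGeometry.Morphisms.QuasiFinite

/-!
# Sections along universally submersive morphisms with connected geometric fibres, sheaves of sets
-/

set_option autoImplicit false

universe u

open CategoryTheory CategoryTheory.Limits AlgebraicGeometry Opposite TopologicalSpace
open Groth.Agent.BigSiteLib.DescSec

namespace Groth.Agent.HenselConn

set_option backward.isDefEq.respectTransparency.types false

variable {X' X : Scheme.{u}} (f : X' ⟶ X) (hf : EtDesc.IsUnivSubmersive f) {F : EtDesc.Sh X}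
  (s' : ((EtDesc.pullSh f).obj F).obj.obj (op (EtCoh.top X')))
  (hM : ∀ {V : X.Etale} {a : F.obj.obj (op V)} {z₁ z₂ : ((EtCoh.bc f).obj V).left},
    pr f V z₁ = pr f V z₂ → Match f s' V a z₁ → Match f s' V a z₂)
include hf

include hM in
theorem isOpen_good' (V : X.Etale) (a : F.obj.obj (op V)) : IsOpen (good f s' V a) := by
  have hq := (fst_surjective_isQuotientMap f hf V.hom).2
  refine hq.isOpen_preimage.1 ?_
  have e : pullback.fst V.hom f ⁻¹' good f s' V a = {z : ((EtCoh.bc f).obj V).left | Match f s' V a z} :=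
    Set.ext fun z => ⟨fun hz => hz z rfl, fun hz z' hz' => hM hz'.symm hz⟩
  rw [e]
  exact isOpen_locEq _ _

include hM in
omit hf in
theorem exists_mem_good' (x' : X') :
    ∃ (V : X.Etale) (a : F.obj.obj (op V)) (v : V.left), v ∈ good f s' V a ∧ V.hom v = f x' := by
  obtain ⟨V, a, z, m, hz, h⟩ := exists_locEq_up f F s' x'
  rw [(EtCore.topIsTerminal X').hom_ext m (toTop _)] at h
  refine ⟨V, a, pr f V z, fun z' hz' => hM hz'.symm h, ?_⟩
  rw [← hz]
  exact ((Scheme.Hom.comp_apply _ _ _).symm.trans
    (congrArg (fun m : pullback V.hom f ⟶ X => m z) pullback.condition)).trans (Scheme.Hom.comp_apply _ _ _)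

include hM in
theorem exists_secPull_of_match : ∃ s, EtDesc.secPull f F s = s' := by
  have hsurj : ∀ x : X, ∃ x', f x' = x := fun x => by
    obtain ⟨z, hz⟩ := (fst_surjective_isQuotientMap f hf (𝟙 X)).1 x
    refine ⟨pullback.snd (𝟙 X) f z, ?_⟩
    rw [← Scheme.Hom.comp_apply, ← pullback.condition, Category.comp_id]
    exact hz
  choose V a v hv hvx using fun x : X' => exists_mem_good' f s' hM x
  let O : ∀ x : X', (V x).left.Opens := fun x => ⟨good f s' (V x) (a x), isOpen_good' f hf s' hM _ _⟩
  let U : X' → X.Etale := fun x => MorphismProperty.Over.mk ⊤ ((O x).ι ≫ (V x).hom) (by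
    haveI : Etale (V x).hom := (V x).prop
    exact inferInstanceAs (Etale ((O x).ι ≫ (V x).hom)))
  let ι : ∀ x, U x ⟶ V x := fun x => MorphismProperty.Over.homMk (O x).ι rfl
  let b : ∀ x, F.obj.obj (op (U x)) := fun x => F.obj.map (ι x).op (a x)
  have hcomp : ∀ i j (Y : X.Etale) (p : Y ⟶ U i) (q : Y ⟶ U j),
      F.obj.map p.op (b i) = F.obj.map q.op (b j) := fun i j Y p q => by
    refine eq_of_locEq F fun y => ?_
    rw [mapF, mapF]
    exact locEq_of_good f hf s' (p ≫ ι i) (q ≫ ι j) (p.left y).2 (q.left y).2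
  have hcov : Sieve.generate (Presieve.ofArrows U (fun x => toTop (U x))) ∈ X.smallEtaleTopology (EtCoh.top X) := by
    rw [EtFound.mem_topology_iff]
    intro x
    obtain ⟨x', rfl⟩ := hsurj x
    refine ⟨U x', toTop (U x'), ⟨v x', hv x'⟩, ⟨U x', 𝟙 _, toTop (U x'), ⟨x'⟩, Category.id_comp _⟩, ?_⟩
    have hm : (U x').hom = (toTop (U x')).left := (MorphismProperty.Over.w (toTop (U x'))).symm.trans (Category.comp_id _)
    rw [← hm]
    exact hvx x'
  obtain ⟨s, hs, -⟩ := (Presieve.isSheafFor_arrows_iff _ _).1 ((Presieve.isSheafFor_iff_generate _).2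
    (((isSheaf_iff_isSheaf_of_type _ _).1 F.property) _ hcov)) b (fun i j Y p q _ => hcomp i j Y p q)
  refine ⟨s, ?_⟩
  let G := (EtDesc.pullSh f).obj F
  have key : up f F (EtCoh.top X) s = G.obj.map (toTop ((EtCoh.bc f).obj (EtCoh.top X))).op s' := by
    refine eq_of_locEq G fun z => ?_
    let z₀ := pullback.snd (EtCoh.top X).hom f z
    have hm : (U z₀).hom = (toTop (U z₀)).left := (MorphismProperty.Over.w (toTop (U z₀))).symm.trans (Category.comp_id _)
    have hz : pullback.fst (EtCoh.top X).hom f z = (toTop (U z₀)).left ⟨v z₀, hv z₀⟩ := by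
      rw [← hm]
      refine Eq.trans ?_ (hvx z₀).symm
      show ((pullback.fst (EtCoh.top X).hom f) ≫ 𝟙 X) z = _
      exact (congrArg (fun m : pullback (EtCoh.top X).hom f ⟶ X => m z) pullback.condition).trans
        (Scheme.Hom.comp_apply _ _ _)
    obtain ⟨t, ht, ht'⟩ := Scheme.exists_preimage_of_isPullback (EtCoh.isPullback_bc_map f (toTop (U z₀))) z
      (⟨v z₀, hv z₀⟩ : (U z₀).left) hz
    rw [← ht]
    refine LocEq.of_map ((EtCoh.bc f).map (toTop (U z₀))) ?_
    rw [← up_map, hs, map_toTop]
    have h := (show Match f s' (V z₀) (a z₀) (((EtCoh.bc f).map (ι z₀)).left t) from ?_)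
    · have h' := h.map ((EtCoh.bc f).map (ι z₀))
      rw [← up_map, map_toTop] at h'
      exact h'
    · refine (hv z₀) _ ?_
      refine ((Scheme.Hom.comp_apply _ _ _).symm.trans
        (congrArg (fun m : ((EtCoh.bc f).obj (U z₀)).left ⟶ (V z₀).left => m t) (EtCoh.isPullback_bc_map f (ι z₀)).w)).trans ?_
      exact (Scheme.Hom.comp_apply _ _ _).trans (congrArg (ι z₀).left ht')
  show G.obj.map (EtCore.bcTopIso f).inv.op (up f F (EtCoh.top X) s) = s'
  rw [key, mapF, map_top_self]


omit hf

/-- The fibres of a base change to an etale scheme are preconnected when the geometric fibres are. -/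
theorem isPreconnected_fibre
    (hc : ∀ (Ω : Type u) [Field Ω] [IsAlgClosed Ω] (s : Spec (CommRingCat.of Ω) ⟶ X), ConnectedSpace ↥(pullback f s))
    (V : X.Etale) (v : V.left) : _root_.IsPreconnected {z : ((EtCoh.bc f).obj V).left | pr f V z = v} := by
  let Ω := AlgebraicClosure (V.left.residueField v)
  let η : Spec (CommRingCat.of Ω) ⟶ V.left :=
    Spec.map (CommRingCat.ofHom (algebraMap (V.left.residueField v) Ω)) ≫ V.left.fromSpecResidueField v
  have hη : ∀ p, η p = v := fun p => by
    rw [Scheme.Hom.comp_apply]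
    exact Scheme.fromSpecResidueField_apply _ _
  haveI := hc Ω (η ≫ V.hom)
  let q : pullback f (η ≫ V.hom) ⟶ pullback V.hom f :=
    pullback.lift (pullback.snd _ _ ≫ η) (pullback.fst _ _) ((Category.assoc _ _ _).trans pullback.condition.symm)
  have e : {z : ((EtCoh.bc f).obj V).left | pr f V z = v} = Set.range q := by
    ext z
    refine ⟨fun hz => ?_, ?_⟩
    · obtain ⟨p⟩ : Nonempty (Spec (CommRingCat.of Ω)) := inferInstance
      let g : pullback (pullback.fst V.hom f) η ⟶ pullback f (η ≫ V.hom) :=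
        pullback.lift (pullback.fst _ _ ≫ pullback.snd V.hom f) (pullback.snd _ _) (by
          rw [Category.assoc, ← pullback.condition, ← Category.assoc, pullback.condition, Category.assoc])
      obtain ⟨t, ht₁, -⟩ := Scheme.Pullback.exists_preimage_pullback (f := pullback.fst V.hom f) (g := η) z p
        (hz.trans (hη p).symm)
      refine ⟨g t, ?_⟩
      have hgq : g ≫ q = pullback.fst (pullback.fst V.hom f) η := pullback.hom_ext
        (by rw [Category.assoc, pullback.lift_fst, ← Category.assoc, pullback.lift_snd, pullback.condition])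
        (by rw [Category.assoc, pullback.lift_snd, pullback.lift_fst])
      exact ((Scheme.Hom.comp_apply _ _ _).symm.trans (congrArg (fun m : _ ⟶ pullback V.hom f => m t) hgq)).trans ht₁
    · rintro ⟨t, rfl⟩
      refine ((Scheme.Hom.comp_apply _ _ _).symm.trans
        (congrArg (fun m : _ ⟶ V.left => m t) (pullback.lift_fst _ _ _))).trans ?_
      rw [Scheme.Hom.comp_apply]
      exact hη _
  rw [e]
  exact isPreconnected_range q.continuous

/-- The projection of a base change of a map of etale schemes. -/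
theorem pr_map {V W : X.Etale} (m : W ⟶ V) (w : ((EtCoh.bc f).obj W).left) :
    pr f V (((EtCoh.bc f).map m).left w) = m.left (pr f W w) :=
  ((Scheme.Hom.comp_apply _ _ _).symm.trans
    (congrArg (fun k : ((EtCoh.bc f).obj W).left ⟶ V.left => k w) (EtCoh.isPullback_bc_map f m).w)).trans
      (Scheme.Hom.comp_apply _ _ _)

/-- Local agreement with a given section spreads over connected geometric fibres. -/
theorem match_of_connected
    (hc : ∀ (Ω : Type u) [Field Ω] [IsAlgClosed Ω] (s : Spec (CommRingCat.of Ω) ⟶ X), ConnectedSpace ↥(pullback f s))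
    (V : X.Etale) (a : F.obj.obj (op V)) (z₁ z₂ : ((EtCoh.bc f).obj V).left)
    (hz : pr f V z₁ = pr f V z₂) (h : Match f s' V a z₁) : Match f s' V a z₂ := by
  by_contra h₂
  let v := pr f V z₁
  let S : Set ((EtCoh.bc f).obj V).left := {z | pr f V z = v}
  let M : Set ((EtCoh.bc f).obj V).left := {z | Match f s' V a z}
  let N : Set ((EtCoh.bc f).obj V).left :=
    {z | ∃ N : Set ((EtCoh.bc f).obj V).left, IsOpen N ∧ z ∈ N ∧ N ∩ S ∩ M = ∅}
  have hNopen : IsOpen N := isOpen_iff_forall_mem_open.2 fun z ⟨N', h1, h2, h3⟩ =>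
    ⟨N', fun y hy => ⟨N', h1, hy, h3⟩, h1, h2⟩
  have hcover : S ⊆ M ∪ N := by
    intro z hzS
    by_cases hzM : Match f s' V a z
    · exact Or.inl hzM
    refine Or.inr ?_
    obtain ⟨V', a', z', m', hz', h'⟩ := exists_locEq_up f F s' (pullback.snd V.hom f z)
    rw [(EtCore.topIsTerminal X').hom_ext m' (toTop _)] at h'
    let W : X.Etale := MorphismProperty.Over.mk ⊤ (pullback.fst V.hom V'.hom ≫ V.hom) (by
      haveI : Etale V.hom := V.prop
      haveI : Etale V'.hom := V'.prop
      haveI : Etale (pullback.fst V.hom V'.hom) := MorphismProperty.pullback_fst _ _ inferInstance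
      exact inferInstanceAs (Etale (pullback.fst V.hom V'.hom ≫ V.hom)))
    let p : W ⟶ V := MorphismProperty.Over.homMk (pullback.fst V.hom V'.hom) rfl
    let p' : W ⟶ V' := MorphismProperty.Over.homMk (pullback.snd V.hom V'.hom) pullback.condition.symm
    haveI : Etale p.left := EtFound.etale_left p
    obtain ⟨w₀, hw₀, hw₀'⟩ : ∃ w₀ : ((EtCoh.bc f).obj W).left,
        ((EtCoh.bc f).map p).left w₀ = z ∧ ((EtCoh.bc f).map p').left w₀ = z' := by
      obtain ⟨t, ht, ht'⟩ := Scheme.Pullback.exists_preimage_pullback (f := pullback.snd V.hom f)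
        (g := pullback.snd V'.hom f) z z' hz'.symm
      let l : pullback (pullback.snd V.hom f) (pullback.snd V'.hom f) ⟶ pullback (pullback.fst V.hom V'.hom ≫ V.hom) f :=
        pullback.lift (pullback.lift (pullback.fst _ _ ≫ pullback.fst V.hom f)
          (pullback.snd _ _ ≫ pullback.fst V'.hom f) (by
            rw [Category.assoc, Category.assoc, pullback.condition, pullback.condition, pullback.condition_assoc]))
          (pullback.fst _ _ ≫ pullback.snd V.hom f) (by
            rw [pullback.lift_fst_assoc, Category.assoc, Category.assoc, pullback.condition])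
      refine ⟨l t, ?_, ?_⟩
      · refine (Scheme.Hom.comp_apply _ _ _).symm.trans (Eq.trans ?_ ht)
        refine congrArg (fun k : _ ⟶ pullback V.hom f => k t) (pullback.hom_ext ?_ ?_)
        · refine (Category.assoc _ _ _).trans ?_
          exact (congrArg (l ≫ ·) (EtCoh.isPullback_bc_map f p).w).trans
            ((pullback.lift_fst_assoc _ _ _ _).trans (pullback.lift_fst _ _ _))
        · refine (Category.assoc _ _ _).trans ?_
          exact (congrArg (l ≫ ·) (MorphismProperty.Over.w ((EtCoh.bc f).map p))).trans (pullback.lift_snd _ _ _)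
      · refine (Scheme.Hom.comp_apply _ _ _).symm.trans (Eq.trans ?_ ht')
        refine congrArg (fun k : _ ⟶ pullback V'.hom f => k t) (pullback.hom_ext ?_ ?_)
        · refine (Category.assoc _ _ _).trans ?_
          exact (congrArg (l ≫ ·) (EtCoh.isPullback_bc_map f p').w).trans
            ((pullback.lift_fst_assoc _ _ _ _).trans (pullback.lift_snd _ _ _))
        · refine (Category.assoc _ _ _).trans ?_
          exact ((congrArg (l ≫ ·) (MorphismProperty.Over.w ((EtCoh.bc f).map p'))).trans (pullback.lift_snd _ _ _)).trans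
            pullback.condition
    let y := pr f W w₀
    have hyv : p.left y = v := by rw [← pr_map f p, hw₀]; exact hzS
    haveI : LocallyQuasiFinite p.left := Groth.Agent.AlgSpLib.locallyQuasiFinite_of_formallyUnramified _
    haveI : DiscreteTopology ↥(p.left ⁻¹' {v}) := (p.left.isDiscrete_preimage_singleton v).1
    obtain ⟨O, hO, hOy⟩ := isOpen_induced_iff.1 (isOpen_discrete ({⟨y, hyv⟩} : Set ↥(p.left ⁻¹' {v})))
    have huniq : ∀ y' ∈ O, p.left y' = v → y' = y := fun y' hy' e =>
      congrArg Subtype.val (show (⟨y', e⟩ : ↥(p.left ⁻¹' {v})) ∈ ({⟨y, hyv⟩} : Set ↥(p.left ⁻¹' {v})) from hOy ▸ hy')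
    have hyO : y ∈ O := by
      have : (⟨y, hyv⟩ : ↥(p.left ⁻¹' {v})) ∈ Subtype.val ⁻¹' O := by rw [hOy]; rfl
      exact this
    let O' : Set ((EtCoh.bc f).obj W).left := {w | Match f s' W (F.obj.map p'.op a') w} ∩ pr f W ⁻¹' O
    haveI : Etale ((EtCoh.bc f).map p).left := EtFound.etale_left _
    refine ⟨((EtCoh.bc f).map p).left '' O', (Scheme.Hom.isOpenMap _) _
      ((isOpen_locEq _ _).inter (hO.preimage (pullback.fst W.hom f).continuous)), ⟨w₀, ⟨?_, hyO⟩, hw₀⟩, ?_⟩
    · have := (show Match f s' V' a' (((EtCoh.bc f).map p').left w₀) from hw₀'.symm ▸ h').map ((EtCoh.bc f).map p')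
      rwa [← up_map, map_toTop] at this
    refine Set.eq_empty_iff_forall_notMem.2 ?_
    rintro z₃ ⟨⟨hzimg, hwS⟩, hwM⟩
    obtain ⟨w, ⟨hwM', hwO⟩, rfl⟩ := hzimg
    have hwy : pr f W w = y := huniq _ hwO ((pr_map f p w).symm.trans hwS)
    have hwa : Match f s' W (F.obj.map p.op a) w := by
      have := (show Match f s' V a (((EtCoh.bc f).map p).left w) from hwM).map ((EtCoh.bc f).map p)
      rwa [← up_map, map_toTop] at this
    have hF : LocEq F.obj (F.obj.map p.op a) (F.obj.map p'.op a') y :=
      hwy ▸ locEq_of_up f F (hwa.trans hwM'.symm)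
    have h₀ : LocEq ((EtDesc.pullSh f).obj F).obj (up f F W (F.obj.map p.op a)) (up f F W (F.obj.map p'.op a')) w₀ :=
      locEq_up f F hF
    have h₀' : Match f s' W (F.obj.map p'.op a') w₀ := by
      have := (show Match f s' V' a' (((EtCoh.bc f).map p').left w₀) from hw₀'.symm ▸ h').map ((EtCoh.bc f).map p')
      rwa [← up_map, map_toTop] at this
    have h₀a : Match f s' W (F.obj.map p.op a) w₀ := h₀.trans h₀'
    refine hzM ?_
    rw [← hw₀]
    refine LocEq.of_map ((EtCoh.bc f).map p) ?_
    rw [← up_map, map_toTop]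
    exact h₀a
  have hMopen : IsOpen M := isOpen_locEq _ _
  have hz₂N : z₂ ∈ N := (hcover hz.symm).resolve_left h₂
  obtain ⟨z, hzS, hzM, N', hN', hzN', he⟩ := isPreconnected_fibre f hc V v M N hMopen hNopen hcover
    ⟨z₁, rfl, h⟩ ⟨z₂, hz.symm, hz₂N⟩
  exact (Set.eq_empty_iff_forall_notMem.1 he z) ⟨⟨hzN', hzS⟩, hzM⟩

include hf in
/-- Sections are pulled back bijectively along universally submersive maps with connected geometric fibres. -/
theorem secPull_bijective_of_connected
    (hc : ∀ (Ω : Type u) [Field Ω] [IsAlgClosed Ω] (s : Spec (CommRingCat.of Ω) ⟶ X), ConnectedSpace ↥(pullback f s))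
    (F : EtDesc.Sh X) : Function.Bijective (EtDesc.secPull f F) :=
  ⟨secPull_injective f hf F, fun s' => exists_secPull_of_match f hf s' fun hz h => match_of_connected f s' hc _ _ _ _ hz h⟩

end Groth.Agent.HenselConn
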