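import Groth.Agent.HenselConn.Sections
import Groth.Agent.ProConsLib.Image
import Groth.Agent.EtFound.PushOutside
import Mathlib.AlgebraicGeometry.Morphisms.QuasiSeparated
import Mathlib.AlgebraicGeometry.Morphisms.UniversallyOpen

/-!
# Sections over limits of etale neighbourhoods
-/

set_option autoImplicit false

universe u

open CategoryTheory CategoryTheory.Limits AlgebraicGeometry Opposite TopologicalSpace
open Groth.Agent.BigSiteLib.DescSec

namespace Groth.Agent.HenselConn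

set_option backward.isDefEq.respectTransparency.types false

/-- Closed sets missing the preimage of a flat scheme over the target miss the preimage of an open around it. -/
theorem exists_shrink {W V S : Scheme.{u}} (p : W ⟶ V) [QuasiCompact p] (ρ : S ⟶ V) [Flat ρ] {C : Set W}
    (hC : IsClosed C) (h : ∀ w ∈ C, ∀ s, p w ≠ ρ s) : ∃ O : V.Opens, (∀ s, ρ s ∈ O) ∧ ∀ w ∈ C, p w ∉ O := by
  refine ⟨⟨(closure (p '' C))ᶜ, isClosed_closure.isOpen_compl⟩, fun s hs => ?_, fun w hw hO => hO (subset_closure ⟨w, hw, rfl⟩)⟩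
  obtain ⟨w, hw, hsp⟩ := ProConsLib.exists_specializes_of_mem_closure_image_scheme
    (ProConsLib.isProConstructible_of_isLocallyClosed hC.isLocallyClosed (fun V hV => hV.isCompact.inter_left hC)) p hs
  obtain ⟨s', -, hs'⟩ := Flat.generalizingMap (f := ρ) hsp
  exact h w hw s' hs'.symm

variable {X Y S : Scheme.{u}} (f : X ⟶ Y) (π : S ⟶ Y)

/-- Lifts to an etale scheme. -/
abbrev Lift (V : Y.Etale) : Type u := {ρ : S ⟶ V.left // ρ ≫ V.hom = π}

/-- The projection from the limit. -/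
noncomputable abbrev pT : pullback f π ⟶ X := pullback.fst f π

/-- The map from the limit to a finite level. -/
noncomputable def toXV {V : Y.Etale} (ρ : Lift π V) : pullback f π ⟶ ((EtCoh.bc f).obj V).left :=
  pullback.lift (pullback.snd f π ≫ ρ.1) (pT f π)
    ((Category.assoc _ _ _).trans ((congrArg (pullback.snd f π ≫ ·) ρ.2).trans pullback.condition.symm))

theorem toXV_fst {V : Y.Etale} (ρ : Lift π V) : toXV f π ρ ≫ pullback.fst V.hom f = pullback.snd f π ≫ ρ.1 :=
  pullback.lift_fst _ _ _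

theorem toXV_snd {V : Y.Etale} (ρ : Lift π V) : toXV f π ρ ≫ pullback.snd V.hom f = pT f π :=
  pullback.lift_snd _ _ _

/-- The section of the limit given by a lift. -/
noncomputable def sigma {V : Y.Etale} (ρ : Lift π V) :
    EtCoh.top (pullback f π) ⟶ (EtCoh.bc (pT f π)).obj ((EtCoh.bc f).obj V) :=
  MorphismProperty.Over.homMk (pullback.lift (toXV f π ρ) (𝟙 _) ((toXV_snd f π ρ).trans (Category.id_comp _).symm))
    (pullback.lift_snd _ _ _)

theorem sigma_pr {V : Y.Etale} (ρ : Lift π V) (t : (EtCoh.top (pullback f π)).left) :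
    pr (pT f π) ((EtCoh.bc f).obj V) ((sigma f π ρ).left t) = toXV f π ρ t :=
  (Scheme.Hom.comp_apply _ _ _).symm.trans
    (congrArg (fun m : pullback f π ⟶ ((EtCoh.bc f).obj V).left => m t) (pullback.lift_fst _ _ _))

theorem exists_point_over {V : Y.Etale} (ρ : Lift π V) (c : ((EtCoh.bc f).obj V).left) (s : S)
    (h : pullback.fst V.hom f c = ρ.1 s) : ∃ t, toXV f π ρ t = c := by
  have hP : IsPullback (toXV f π ρ) (pullback.snd f π) (pullback.fst V.hom f) ρ.1 := by
    refine IsPullback.of_right ?_ (toXV_fst f π ρ) (IsPullback.of_hasPullback V.hom f).flip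
    rw [toXV_snd, ρ.2]
    exact IsPullback.of_hasPullback f π
  obtain ⟨t, ht, -⟩ := Scheme.exists_preimage_of_isPullback hP c s h
  exact ⟨t, ht⟩

variable {F : EtDesc.Sh X}

/-- Restriction of finite level sections to the limit. -/
noncomputable def res {V : Y.Etale} (ρ : Lift π V) (a : F.obj.obj (op ((EtCoh.bc f).obj V))) :
    ((EtDesc.pullSh (pT f π)).obj F).obj.obj (op (EtCoh.top (pullback f π))) :=
  ((EtDesc.pullSh (pT f π)).obj F).obj.map (sigma f π ρ).op (up (pT f π) F _ a)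

theorem bc_lift_comp {V V' : Y.Etale} (m : V' ⟶ V) (ρ : Lift π V) (ρ' : Lift π V') (hm : ρ'.1 ≫ m.left = ρ.1) :
    sigma f π ρ' ≫ (EtCoh.bc (pT f π)).map ((EtCoh.bc f).map m) = sigma f π ρ := by
  refine MorphismProperty.Over.Hom.ext ?_
  refine pullback.hom_ext ?_ ?_
  · refine (Category.assoc _ _ _).trans ?_
    refine (congrArg ((sigma f π ρ').left ≫ ·) (EtCoh.isPullback_bc_map (pT f π) ((EtCoh.bc f).map m)).w).trans ?_
    refine (Category.assoc _ _ _).symm.trans ?_
    refine (congrArg (· ≫ ((EtCoh.bc f).map m).left) (pullback.lift_fst _ _ _)).trans ?_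
    refine Eq.trans ?_ (pullback.lift_fst _ _ _).symm
    refine pullback.hom_ext ?_ ?_
    · refine (Category.assoc _ _ _).trans ?_
      refine (congrArg (toXV f π ρ' ≫ ·) (EtCoh.isPullback_bc_map f m).w).trans ?_
      refine (Category.assoc _ _ _).symm.trans ?_
      refine (congrArg (· ≫ m.left) (toXV_fst f π ρ')).trans ?_
      refine Eq.trans ?_ (toXV_fst f π ρ).symm
      exact (Category.assoc _ _ _).trans (congrArg (pullback.snd f π ≫ ·) hm)
    · refine (Category.assoc _ _ _).trans ?_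
      refine (congrArg (toXV f π ρ' ≫ ·) (MorphismProperty.Over.w ((EtCoh.bc f).map m))).trans ?_
      exact (toXV_snd f π ρ').trans (toXV_snd f π ρ).symm
  · refine (Category.assoc _ _ _).trans ?_
    refine (congrArg ((sigma f π ρ').left ≫ ·) (MorphismProperty.Over.w ((EtCoh.bc (pT f π)).map ((EtCoh.bc f).map m)))).trans ?_
    exact (pullback.lift_snd _ _ _).trans (pullback.lift_snd _ _ _).symm

theorem res_map {V V' : Y.Etale} (m : V' ⟶ V) (ρ : Lift π V) (ρ' : Lift π V') (hm : ρ'.1 ≫ m.left = ρ.1)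
    (a : F.obj.obj (op ((EtCoh.bc f).obj V))) :
    res f π ρ' (F.obj.map ((EtCoh.bc f).map m).op a) = res f π ρ a := by
  rw [res, res, up_map, mapF, ← bc_lift_comp f π m ρ ρ' hm]

/-- Equal restrictions to the limit agree near it. -/
theorem exists_open_of_res_eq [QuasiCompact f] [Flat π] {V : Y.Etale} (ρ : Lift π V) [Flat ρ.1]
    (a b : F.obj.obj (op ((EtCoh.bc f).obj V))) (h : res f π ρ a = res f π ρ b) :
    ∃ O : V.left.Opens, (∀ s, ρ.1 s ∈ O) ∧ ∀ z, pullback.fst V.hom f z ∈ O → LocEq F.obj a b z := by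
  obtain ⟨O, hO, hC⟩ := exists_shrink (pullback.fst V.hom f) ρ.1 (C := {z | ¬ LocEq F.obj a b z})
    (isOpen_locEq (P := F.obj) a b).isClosed_compl (fun c hc s hcs => by
      obtain ⟨t, rfl⟩ := exists_point_over f π ρ c s hcs
      refine hc ?_
      rw [← sigma_pr f π ρ t]
      refine locEq_of_up (pT f π) F (LocEq.of_map (sigma f π ρ) ?_)
      exact (show ((EtDesc.pullSh (pT f π)).obj F).obj.map (sigma f π ρ).op (up (pT f π) F _ a) =
        ((EtDesc.pullSh (pT f π)).obj F).obj.map (sigma f π ρ).op (up (pT f π) F _ b) from h) ▸ LocEq.refl _ _)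
  exact ⟨O, hO, fun z hz => by_contra fun hn => hC z hn hz⟩

/-- Opens of base changes to the limit come from finite levels. -/
def HasBasis : Prop :=
  ∀ ⦃W : Scheme.{u}⦄ (q : W ⟶ Y) (z : ↥(pullback q π)) (G : Set ↥(pullback q π)), IsOpen G → z ∈ G →
    ∃ (V : Y.Etale) (_ : IsAffine V.left) (ρ : Lift π V) (O : (pullback q V.hom).Opens),
      pullback.lift (pullback.fst q π) (pullback.snd q π ≫ ρ.1)
          (pullback.condition.trans ((congrArg (pullback.snd q π ≫ ·) ρ.2.symm).trans (Category.assoc _ _ _).symm)) z ∈ O ∧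
      pullback.lift (pullback.fst q π) (pullback.snd q π ≫ ρ.1)
          (pullback.condition.trans ((congrArg (pullback.snd q π ≫ ·) ρ.2.symm).trans (Category.assoc _ _ _).symm)) ⁻¹' O ⊆ G

/-- The fibre product of a representative with the limit. -/
noncomputable abbrev Cov {V : Y.Etale} (ρ : Lift π V) {W : X.Etale} (r : W ⟶ (EtCoh.bc f).obj V) :
    (pullback f π).Etale :=
  pullback (sigma f π ρ) ((EtCoh.bc (pT f π)).map r)

variable (σ : ((EtDesc.pullSh (pT f π)).obj F).obj.obj (op (EtCoh.top (pullback f π))))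

/-- A finite level representative of a section over the limit. -/
structure Rep {V : Y.Etale} (ρ : Lift π V) where
  W : X.Etale
  r : W ⟶ (EtCoh.bc f).obj V
  b : F.obj.obj (op W)
  qc : QuasiCompact (r.left ≫ pullback.fst V.hom f)
  agree : ∀ z : (Cov f π ρ r).left, LocEq ((EtDesc.pullSh (pT f π)).obj F).obj
    (((EtDesc.pullSh (pT f π)).obj F).obj.map (pullback.snd (sigma f π ρ) ((EtCoh.bc (pT f π)).map r)).op (up (pT f π) F W b))
    (((EtDesc.pullSh (pT f π)).obj F).obj.map (pullback.fst (sigma f π ρ) ((EtCoh.bc (pT f π)).map r)).op σ) z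

/-- The points covered by a representative. -/
def Rep.covered {V : Y.Etale} {ρ : Lift π V} (R : Rep f π σ ρ) : Set (EtCoh.top (pullback f π)).left :=
  Set.range (pullback.fst (sigma f π ρ) ((EtCoh.bc (pT f π)).map R.r)).left

theorem mem_covered_iff {V : Y.Etale} {ρ : Lift π V} (R : Rep f π σ ρ) (t : (EtCoh.top (pullback f π)).left) :
    t ∈ R.covered f π σ ↔ toXV f π ρ t ∈ Set.range R.r.left := by
  have hP := (IsPullback.of_hasPullback (sigma f π ρ) ((EtCoh.bc (pT f π)).map R.r)).map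
    (Scheme.Etale.forget (pullback f π) ⋙ Over.forget (pullback f π))
  constructor
  · rintro ⟨z, rfl⟩
    refine ⟨pr (pT f π) R.W ((pullback.snd (sigma f π ρ) ((EtCoh.bc (pT f π)).map R.r)).left z), ?_⟩
    rw [← pr_map, ← sigma_pr f π ρ]
    refine congrArg (pr (pT f π) ((EtCoh.bc f).obj V)) ?_
    rw [← Scheme.Hom.comp_apply, ← Scheme.Hom.comp_apply]
    exact congrArg (fun m : (Cov f π ρ R.r).left ⟶ _ => m z) hP.w.symm
  · rintro ⟨w, hw⟩
    obtain ⟨o, ho, -⟩ := Scheme.exists_preimage_of_isPullback (EtCoh.isPullback_bc_map (pT f π) R.r)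
      ((sigma f π ρ).left t) w ((sigma_pr f π ρ t).trans hw.symm)
    obtain ⟨z, hz, -⟩ := Scheme.exists_preimage_of_isPullback hP t o ho.symm
    exact ⟨z, hz⟩

/-- Representatives pull back along maps of neighbourhoods. -/
theorem exists_rep_map {V V' : Y.Etale} (m : V' ⟶ V) (ρ : Lift π V) (ρ' : Lift π V') (hm : ρ'.1 ≫ m.left = ρ.1)
    (R : Rep f π σ ρ) : ∃ (R' : Rep f π σ ρ') (j : R'.W ⟶ R.W),
      R'.b = F.obj.map j.op R.b ∧ IsPullback R'.r j ((EtCoh.bc f).map m) R.r ∧
      R'.covered f π σ = R.covered f π σ := by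
  let W' := pullback ((EtCoh.bc f).map m) R.r
  let r' : W' ⟶ (EtCoh.bc f).obj V' := pullback.fst _ _
  let j : W' ⟶ R.W := pullback.snd _ _
  have hsq := (IsPullback.of_hasPullback ((EtCoh.bc f).map m) R.r).map (Scheme.Etale.forget X ⋙ Over.forget X)
  have hqc : QuasiCompact (r'.left ≫ pullback.fst V'.hom f) := by
    haveI := R.qc
    exact MorphismProperty.of_isPullback (P := @QuasiCompact)
      (IsPullback.paste_vert (show IsPullback j.left r'.left R.r.left ((EtCoh.bc f).map m).left from hsq.flip)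
        (EtCoh.isPullback_bc_map f m)) ‹_›
  let c : Cov f π ρ' r' ⟶ Cov f π ρ R.r := pullback.lift (pullback.fst _ _)
    (pullback.snd _ _ ≫ (EtCoh.bc (pT f π)).map j) (by
      rw [Category.assoc, ← Functor.map_comp, ← pullback.condition, Functor.map_comp, ← Category.assoc, ← pullback.condition,
        Category.assoc, bc_lift_comp f π m ρ ρ' hm])
  let R' : Rep f π σ ρ' := ⟨W', r', F.obj.map j.op R.b, hqc, fun z => by
    have h := (R.agree (c.left z)).map c
    rw [mapF, mapF] at h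
    rw [up_map, mapF]
    simpa only [c, pullback.lift_fst, pullback.lift_snd] using h⟩
  refine ⟨R', j, rfl, IsPullback.of_hasPullback _ _, Set.ext fun t => ?_⟩
  rw [mem_covered_iff, mem_covered_iff]
  have hm' : ((EtCoh.bc f).map m).left (toXV f π ρ' t) = toXV f π ρ t := by
    rw [← sigma_pr f π ρ', ← sigma_pr f π ρ, ← pr_map]
    refine congrArg (pr (pT f π) _) ?_
    exact (Scheme.Hom.comp_apply _ _ _).symm.trans (congrArg (fun k : (EtCoh.top (pullback f π)).left ⟶ _ => k t)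
      (congrArg (fun k : EtCoh.top (pullback f π) ⟶ _ => k.left) (bc_lift_comp f π m ρ ρ' hm)))
  constructor
  · rintro ⟨w, hw⟩
    refine ⟨j.left w, ?_⟩
    rw [← hm', ← hw, ← Scheme.Hom.comp_apply, ← Scheme.Hom.comp_apply]
    exact congrArg (fun k : W'.left ⟶ _ => k w) hsq.w.symm
  · rintro ⟨w, hw⟩
    obtain ⟨w', hw', -⟩ := Scheme.exists_preimage_of_isPullback hsq (toXV f π ρ' t) w (hm'.trans hw.symm)
    exact ⟨w', hw'⟩

theorem chain_aux {P WT UT E T S' VL WX XV XVT : Scheme.{u}} (p₂ : P ⟶ WT) (jT : WT ⟶ UT) (eh : UT ⟶ E)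
    (sn : E ⟶ S') (ρ : S' ⟶ VL) (sU : UT ⟶ T) (sf : T ⟶ S') (sW : WT ⟶ T) (p₁ : P ⟶ T) (σl : T ⟶ XVT)
    (prV : XVT ⟶ XV) (tx : T ⟶ XV) (fv : XV ⟶ VL) (rT : WT ⟶ XVT) (prW : WT ⟶ WX) (rl : WX ⟶ XV) (u : WX ⟶ VL)
    (h1 : eh ≫ sn = sU ≫ sf) (h2 : jT ≫ sU = sW) (h3 : p₂ ≫ sW = p₁) (h4 : σl ≫ prV = tx)
    (h5 : tx ≫ fv = sf ≫ ρ) (h6 : p₁ ≫ σl = p₂ ≫ rT) (h7 : rT ≫ prV = prW ≫ rl) (h8 : rl ≫ fv = u) :
    p₂ ≫ jT ≫ eh ≫ sn ≫ ρ = p₂ ≫ prW ≫ u := by
  rw [reassoc_of% h1, reassoc_of% h2, reassoc_of% h3, ← h5, ← h4, ← h8, Category.assoc, reassoc_of% h6,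
    reassoc_of% h7]

/-- Every point of the limit is covered by a representative. -/
theorem exists_rep (hB : HasBasis π) (t : (EtCoh.top (pullback f π)).left) :
    ∃ (V : Y.Etale) (ρ : Lift π V) (R : Rep f π σ ρ), t ∈ R.covered f π σ := by
  let G := (EtDesc.pullSh (pT f π)).obj F
  obtain ⟨U, a, z, m, hz, hza⟩ := exists_locEq_up (pT f π) F σ t
  let e := pullbackRightPullbackFstIso f π U.hom
  let N : Set ((EtCoh.bc (pT f π)).obj U).left := {z | LocEq G.obj (up (pT f π) F U a) (G.obj.map m.op σ) z}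
  obtain ⟨V, hV, ρ, O, hzO, hOG⟩ := hB (U.hom ≫ f) (e.hom z) (e.inv ⁻¹' N) ((isOpen_locEq _ _).preimage e.inv.continuous)
    (by
      show e.inv (e.hom z) ∈ N
      rw [← Scheme.Hom.comp_apply, e.hom_inv_id]
      exact hza)
  obtain ⟨_, ⟨(O₀ : (pullback (U.hom ≫ f) V.hom).Opens), hO₀, rfl⟩, hzO₀, hO₀O⟩ :=
    (pullback (U.hom ≫ f) V.hom).isBasis_affineOpens.exists_subset_of_mem_open hzO O.2
  replace hO₀ : IsAffineOpen O₀ := hO₀
  haveI : Etale V.hom := V.prop
  haveI : Etale U.hom := U.prop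
  let W : X.Etale := MorphismProperty.Over.mk ⊤ (O₀.ι ≫ pullback.fst (U.hom ≫ f) V.hom ≫ U.hom) (by
    haveI : Etale (pullback.fst (U.hom ≫ f) V.hom) := MorphismProperty.pullback_fst _ _ inferInstance
    exact inferInstanceAs (Etale (O₀.ι ≫ pullback.fst (U.hom ≫ f) V.hom ≫ U.hom)))
  let jU : W ⟶ U := MorphismProperty.Over.homMk (O₀.ι ≫ pullback.fst (U.hom ≫ f) V.hom) (Category.assoc _ _ _)
  let r : W ⟶ (EtCoh.bc f).obj V := MorphismProperty.Over.homMk
    (pullback.lift (O₀.ι ≫ pullback.snd (U.hom ≫ f) V.hom) W.hom (by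
      show (_ ≫ _) ≫ _ = (_ ≫ _ ≫ _) ≫ _
      simp only [Category.assoc, ← pullback.condition]))
    (pullback.lift_snd _ _ _)
  have hrfst : r.left ≫ pullback.fst V.hom f = O₀.ι ≫ pullback.snd (U.hom ≫ f) V.hom := pullback.lift_fst _ _ _
  have hqc : QuasiCompact (r.left ≫ pullback.fst V.hom f) := by
    rw [hrfst]
    haveI : IsAffine O₀.toScheme := hO₀
    haveI : IsAffine ((𝟭 Scheme.{u}).obj V.left) := hV
    have h₁ : IsAffineHom (O₀.ι ≫ pullback.snd (U.hom ≫ f) V.hom) := isAffineHom_of_isAffine _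
    exact quasiCompact_iff_forall_isAffineOpen.mpr fun _ hU => (@IsAffineOpen.preimage _ _ _ hU _ h₁).isCompact
  let P := Cov f π ρ r
  let p₁ : P ⟶ EtCoh.top (pullback f π) := pullback.fst _ _
  let p₂ : P ⟶ (EtCoh.bc (pT f π)).obj W := pullback.snd _ _
  let l := pullback.lift (pullback.fst (U.hom ≫ f) π) (pullback.snd (U.hom ≫ f) π ≫ ρ.1)
    (pullback.condition.trans ((congrArg (pullback.snd (U.hom ≫ f) π ≫ ·) ρ.2.symm).trans (Category.assoc _ _ _).symm))
  have key : (p₂ ≫ (EtCoh.bc (pT f π)).map jU).left ≫ e.hom ≫ l = p₂.left ≫ pr (pT f π) W ≫ O₀.ι := by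
    have hw : p₁.left ≫ (sigma f π ρ).left = p₂.left ≫ ((EtCoh.bc (pT f π)).map r).left :=
      congrArg (fun k : P ⟶ _ => k.left) pullback.condition
    refine pullback.hom_ext ?_ ?_
    · simp only [Category.assoc, l, pullback.lift_fst]
      refine (Category.assoc _ _ _).trans ?_
      refine congrArg (p₂.left ≫ ·) ?_
      refine (congrArg (((EtCoh.bc (pT f π)).map jU).left ≫ ·) (pullbackRightPullbackFstIso_hom_fst f π U.hom)).trans ?_
      exact (EtCoh.isPullback_bc_map (pT f π) jU).w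
    · simp only [Category.assoc, l, pullback.lift_snd]
      refine (Category.assoc _ _ _).trans ?_
      exact chain_aux p₂.left ((EtCoh.bc (pT f π)).map jU).left e.hom (pullback.snd (U.hom ≫ f) π) ρ.1
        (pullback.snd U.hom (pT f π)) (pullback.snd f π) (pullback.snd W.hom (pT f π)) p₁.left
        (sigma f π ρ).left (pr (pT f π) ((EtCoh.bc f).obj V)) (toXV f π ρ) (pullback.fst V.hom f)
        ((EtCoh.bc (pT f π)).map r).left (pr (pT f π) W) r.left (O₀.ι ≫ pullback.snd (U.hom ≫ f) V.hom)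
        (pullbackRightPullbackFstIso_hom_snd f π U.hom) (MorphismProperty.Over.w ((EtCoh.bc (pT f π)).map jU))
        ((MorphismProperty.Over.w p₂).trans ((MorphismProperty.Over.w p₁).symm.trans (Category.comp_id _)))
        (pullback.lift_fst _ _ _) (toXV_fst f π ρ) hw (EtCoh.isPullback_bc_map (pT f π) r).w hrfst
  refine ⟨V, ρ, ⟨W, r, F.obj.map jU.op a, hqc, fun w => ?_⟩, ?_⟩
  · let k : P ⟶ (EtCoh.bc (pT f π)).obj U := p₂ ≫ (EtCoh.bc (pT f π)).map jU
    have hk : k.left w ∈ N := by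
      have h1 : e.hom (k.left w) ∈ e.inv ⁻¹' N := hOG (hO₀O (by
        have hkey : l (e.hom (k.left w)) = O₀.ι (pr (pT f π) W (p₂.left w)) :=
          congrArg (fun q : P.left ⟶ _ => q w) key
        show l (e.hom (k.left w)) ∈ O₀
        rw [hkey]
        exact (pr (pT f π) W (p₂.left w)).2))
      have h2 : e.inv (e.hom (k.left w)) ∈ N := h1
      rwa [← Scheme.Hom.comp_apply, e.hom_inv_id] at h2
    have h := LocEq.map k (show LocEq G.obj (up (pT f π) F U a) (G.obj.map m.op σ) (k.left w) from hk)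
    rw [mapF] at h
    simp only [← CategoryTheory.Functor.map_comp, ← op_comp] at h
    rw [(EtCore.topIsTerminal _).hom_ext (k ≫ m) p₁] at h
    rw [up_map, mapF]
    simp only [← CategoryTheory.Functor.map_comp, ← op_comp]
    exact h
  · rw [mem_covered_iff]
    show toXV f π ρ t ∈ Set.range r.left
    refine ⟨⟨l (e.hom z), hzO₀⟩, ?_⟩
    have ht : pullback.snd U.hom (pT f π) z = t := hz
    have h1 : e.hom ≫ l ≫ pullback.snd (U.hom ≫ f) V.hom = pullback.snd U.hom (pT f π) ≫ toXV f π ρ ≫ pullback.fst V.hom f := by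
      rw [pullback.lift_snd, pullbackRightPullbackFstIso_hom_snd_assoc, toXV_fst]
    have h2 : e.hom ≫ l ≫ pullback.fst (U.hom ≫ f) V.hom ≫ U.hom = pullback.snd U.hom (pT f π) ≫ toXV f π ρ ≫ pullback.snd V.hom f := by
      rw [pullback.lift_fst_assoc, pullbackRightPullbackFstIso_hom_fst_assoc, toXV_snd, pullback.condition]
    rw [← ht]
    have h3 : ∀ (P₀ : Scheme.{u}) (q : P₀ ⟶ pullback (U.hom ≫ f) V.hom) (g : P₀ ⟶ ((EtCoh.bc f).obj V).left),
        q ≫ pullback.snd (U.hom ≫ f) V.hom = g ≫ pullback.fst V.hom f →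
        q ≫ pullback.fst (U.hom ≫ f) V.hom ≫ U.hom = g ≫ pullback.snd V.hom f →
        ∀ (p : P₀) (hp : q p ∈ O₀), r.left ⟨q p, hp⟩ = g p := by
      intro P₀ q g e₁ e₂ p hp
      let q₀ := q ∣_ O₀
      have hq₀ : q₀ ≫ O₀.ι = (q ⁻¹ᵁ O₀).ι ≫ q := morphismRestrict_ι _ _
      have heq : q₀ ≫ r.left = (q ⁻¹ᵁ O₀).ι ≫ g := by
        refine pullback.hom_ext ?_ ?_
        · refine (Category.assoc _ _ _).trans ?_
          refine (congrArg (q₀ ≫ ·) hrfst).trans ?_
          refine (Category.assoc _ _ _).symm.trans ?_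
          refine (congrArg (· ≫ pullback.snd (U.hom ≫ f) V.hom) hq₀).trans ?_
          exact (Category.assoc _ _ _).trans ((congrArg ((q ⁻¹ᵁ O₀).ι ≫ ·) e₁).trans (Category.assoc _ _ _).symm)
        · refine (Category.assoc _ _ _).trans ?_
          refine (congrArg (q₀ ≫ ·) (show r.left ≫ pullback.snd V.hom f = O₀.ι ≫ pullback.fst (U.hom ≫ f) V.hom ≫ U.hom from
            pullback.lift_snd _ _ _)).trans ?_
          refine (Category.assoc _ _ _).symm.trans ?_
          refine (congrArg (· ≫ (pullback.fst (U.hom ≫ f) V.hom ≫ U.hom)) hq₀).trans ?_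
          exact (Category.assoc _ _ _).trans ((congrArg ((q ⁻¹ᵁ O₀).ι ≫ ·) e₂).trans (Category.assoc _ _ _).symm)
      have := congrArg (fun k : (q ⁻¹ᵁ O₀).toScheme ⟶ _ => k ⟨p, hp⟩) heq
      exact (congrArg r.left (Subtype.ext (morphismRestrict_base_coe q O₀ ⟨p, hp⟩))).symm.trans this
    have h4 := h3 _ (e.hom ≫ l) (pullback.snd U.hom (pT f π) ≫ toXV f π ρ)
      (by rw [Category.assoc, Category.assoc]; exact h1) (by rw [Category.assoc, Category.assoc]; exact h2) z
      (by rw [Scheme.Hom.comp_apply]; exact hzO₀)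
    refine Eq.trans ?_ (h4.trans (Scheme.Hom.comp_apply _ _ _))
    exact congrArg r.left (Subtype.ext (Scheme.Hom.comp_apply _ _ _).symm)

end Groth.Agent.HenselConn
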