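import Groth.Agent.HenselConn.Cont

/-!
# Sections over limits descend to etale neighbourhoods
-/

set_option autoImplicit false

universe u

open CategoryTheory CategoryTheory.Limits AlgebraicGeometry Opposite TopologicalSpace
open Groth.Agent.BigSiteLib.DescSec

namespace Groth.Agent.HenselConn

set_option backward.isDefEq.respectTransparency.types false

variable {X Y S : Scheme.{u}} (f : X ⟶ Y) (π : S ⟶ Y) {F : EtDesc.Sh X}
variable (σ : ((EtDesc.pullSh (pT f π)).obj F).obj.obj (op (EtCoh.top (pullback f π))))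

/-- Two representatives agree over the limit. -/
theorem agree_pair {V : Y.Etale} {ρ : Lift π V} (R₁ R₂ : Rep f π σ ρ) (Z : X.Etale) (z₁ : Z ⟶ R₁.W) (z₂ : Z ⟶ R₂.W)
    (e : z₁ ≫ R₁.r = z₂ ≫ R₂.r) (z : (Cov f π ρ (z₁ ≫ R₁.r)).left) :
    LocEq ((EtDesc.pullSh (pT f π)).obj F).obj
      (((EtDesc.pullSh (pT f π)).obj F).obj.map
        (pullback.snd (sigma f π ρ) ((EtCoh.bc (pT f π)).map (z₁ ≫ R₁.r))).op (up (pT f π) F Z (F.obj.map z₁.op R₁.b)))
      (((EtDesc.pullSh (pT f π)).obj F).obj.map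
        (pullback.snd (sigma f π ρ) ((EtCoh.bc (pT f π)).map (z₁ ≫ R₁.r))).op (up (pT f π) F Z (F.obj.map z₂.op R₂.b))) z := by
  let p₁ := pullback.fst (sigma f π ρ) ((EtCoh.bc (pT f π)).map (z₁ ≫ R₁.r))
  let p₂ := pullback.snd (sigma f π ρ) ((EtCoh.bc (pT f π)).map (z₁ ≫ R₁.r))
  let c₁ : Cov f π ρ (z₁ ≫ R₁.r) ⟶ Cov f π ρ R₁.r := pullback.lift p₁ (p₂ ≫ (EtCoh.bc (pT f π)).map z₁)
    (by rw [Category.assoc, ← Functor.map_comp]; exact pullback.condition)
  let c₂ : Cov f π ρ (z₁ ≫ R₁.r) ⟶ Cov f π ρ R₂.r := pullback.lift p₁ (p₂ ≫ (EtCoh.bc (pT f π)).map z₂)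
    (by rw [Category.assoc, ← Functor.map_comp, ← e]; exact pullback.condition)
  have h₁ := (R₁.agree (c₁.left z)).map c₁
  have h₂ := (R₂.agree (c₂.left z)).map c₂
  rw [mapF, mapF, pullback.lift_fst, pullback.lift_snd, ← mapF, ← up_map] at h₁ h₂
  exact h₁.trans h₂.symm

theorem exists_finite_reps [QuasiCompact f] [CompactSpace S] (hB : HasBasis π) :
    ∃ (V : Y.Etale) (ρ : Lift π V) (ι : Type) (_ : Finite ι) (R : ι → Rep f π σ ρ),
      ∀ t, ∃ i, t ∈ (R i).covered f π σ := by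
  haveI : CompactSpace ↥(pullback f π) := QuasiCompact.compactSpace_of_compactSpace (pullback.snd f π)
  haveI : CompactSpace ↥(EtCoh.top (pullback f π)).left := inferInstanceAs (CompactSpace ↥(pullback f π))
  let P : Set (EtCoh.top (pullback f π)).left → Prop := fun K =>
    ∃ (V : Y.Etale) (ρ : Lift π V) (ι : Type) (_ : Finite ι) (R : ι → Rep f π σ ρ),
      ∀ t ∈ K, ∃ i, t ∈ (R i).covered f π σ
  have : P Set.univ := by
    refine IsCompact.induction_on (p := P) isCompact_univ ?_ ?_ ?_ ?_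
    · refine ⟨MorphismProperty.Over.mk ⊤ (𝟙 Y) (inferInstanceAs (Etale (𝟙 Y))), ⟨π, Category.comp_id _⟩, PEmpty,
        inferInstance, fun i => i.elim, fun t ht => ht.elim⟩
    · rintro A B hAB ⟨V, ρ, ι, hι, R, hR⟩
      exact ⟨V, ρ, ι, hι, R, fun t ht => hR t (hAB ht)⟩
    · rintro A B ⟨V₁, ρ₁, ι₁, hι₁, R₁, hR₁⟩ ⟨V₂, ρ₂, ι₂, hι₂, R₂, hR₂⟩
      haveI : Etale V₁.hom := V₁.prop
      haveI : Etale V₂.hom := V₂.prop
      let V : Y.Etale := MorphismProperty.Over.mk ⊤ (pullback.fst V₁.hom V₂.hom ≫ V₁.hom) (by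
        haveI : Etale (pullback.fst V₁.hom V₂.hom) := MorphismProperty.pullback_fst _ _ inferInstance
        exact inferInstanceAs (Etale (pullback.fst V₁.hom V₂.hom ≫ V₁.hom)))
      let m₁ : V ⟶ V₁ := MorphismProperty.Over.homMk (pullback.fst V₁.hom V₂.hom) rfl
      let m₂ : V ⟶ V₂ := MorphismProperty.Over.homMk (pullback.snd V₁.hom V₂.hom) pullback.condition.symm
      let ρ : Lift π V := ⟨pullback.lift ρ₁.1 ρ₂.1 (ρ₁.2.trans ρ₂.2.symm),
        ((Category.assoc _ _ _).symm.trans (congrArg (· ≫ V₁.hom) (pullback.lift_fst _ _ _))).trans ρ₁.2⟩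
      choose S₁ j₁ hb₁ hp₁ hc₁ using fun i => exists_rep_map f π σ m₁ ρ₁ ρ (pullback.lift_fst _ _ _) (R₁ i)
      choose S₂ j₂ hb₂ hp₂ hc₂ using fun i => exists_rep_map f π σ m₂ ρ₂ ρ (pullback.lift_snd _ _ _) (R₂ i)
      refine ⟨V, ρ, ι₁ ⊕ ι₂, inferInstance, Sum.elim S₁ S₂, ?_⟩
      rintro t (ht | ht)
      · obtain ⟨i, hi⟩ := hR₁ t ht
        exact ⟨Sum.inl i, (hc₁ i).symm ▸ hi⟩
      · obtain ⟨i, hi⟩ := hR₂ t ht
        exact ⟨Sum.inr i, (hc₂ i).symm ▸ hi⟩
    · intro t _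
      obtain ⟨V, ρ, R, hR⟩ := exists_rep f π σ hB t
      have hop : IsOpen (R.covered f π σ) := by
        haveI := EtFound.etale_left (pullback.fst (sigma f π ρ) ((EtCoh.bc (pT f π)).map R.r))
        exact (Scheme.Hom.isOpenMap _).isOpen_range
      exact ⟨R.covered f π σ, mem_nhdsWithin_of_mem_nhds (hop.mem_nhds hR),
        V, ρ, PUnit, inferInstance, fun _ => R, fun t ht => ⟨PUnit.unit, ht⟩⟩
  obtain ⟨V, ρ, ι, hι, R, hR⟩ := this
  exact ⟨V, ρ, ι, hι, R, fun t => hR t (Set.mem_univ _)⟩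

theorem exists_lift_opens {V₀ S₀ : Scheme.{u}} (ρ : S₀ ⟶ V₀) (O : V₀.Opens) (h : ∀ s, ρ s ∈ O) :
    ∃ l : S₀ ⟶ O.toScheme, l ≫ O.ι = ρ :=
  ⟨IsOpenImmersion.lift O.ι ρ (by rw [Scheme.Opens.range_ι]; rintro _ ⟨s, rfl⟩; exact h s), IsOpenImmersion.lift_fac _ _ _⟩

/-- Sections over the limit come from etale neighbourhoods. -/
theorem exists_res_eq [QuasiCompact f] [QuasiSeparated f] [Flat π] [CompactSpace S] (hB : HasBasis π)
    (hflat : ∀ {V : Y.Etale} (ρ : Lift π V), Flat ρ.1) :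
    ∃ (V : Y.Etale) (ρ : Lift π V) (a : F.obj.obj (op ((EtCoh.bc f).obj V))), res f π ρ a = σ := by
  obtain ⟨V, ρ, ι, hι, R, hR⟩ := exists_finite_reps f π σ hB
  haveI := hflat ρ
  haveI : Etale V.hom := V.prop
  -- covering near the limit
  let C₀ : Set ((EtCoh.bc f).obj V).left := (⋃ i, Set.range (R i).r.left)ᶜ
  obtain ⟨O₀, hO₀, hC₀⟩ := exists_shrink (pullback.fst V.hom f) ρ.1 (C := C₀)
    ((isOpen_iUnion fun i => by
      haveI := EtFound.etale_left (R i).r
      exact (Scheme.Hom.isOpenMap _).isOpen_range).isClosed_compl) (fun c hc s hcs => by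
      obtain ⟨t, rfl⟩ := exists_point_over f π ρ c s hcs
      obtain ⟨i, hi⟩ := hR t
      exact hc (Set.mem_iUnion.2 ⟨i, (mem_covered_iff f π σ (R i) t).1 hi⟩))
  -- agreement near the limit
  have hqsV : QuasiSeparated (pullback.fst V.hom f) := MorphismProperty.pullback_fst (P := @QuasiSeparated) V.hom f ‹QuasiSeparated f›
  have hpair : ∀ q : ι × ι, ∃ O : V.left.Opens, (∀ s, ρ.1 s ∈ O) ∧
      ∀ z : (pullback (R q.1).r (R q.2).r).left,
        pullback.fst V.hom f ((R q.1).r.left ((pullback.fst (R q.1).r (R q.2).r).left z)) ∈ O →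
        LocEq F.obj (F.obj.map (pullback.fst (R q.1).r (R q.2).r).op (R q.1).b)
          (F.obj.map (pullback.snd (R q.1).r (R q.2).r).op (R q.2).b) z := by
    rintro ⟨i, j⟩
    dsimp only
    let Z := pullback (R i).r (R j).r
    let z₁ : Z ⟶ (R i).W := pullback.fst _ _
    let z₂ : Z ⟶ (R j).W := pullback.snd _ _
    let rz : Z ⟶ (EtCoh.bc f).obj V := z₁ ≫ (R i).r
    have hsq := (IsPullback.of_hasPullback (R i).r (R j).r).map (Scheme.Etale.forget X ⋙ Over.forget X)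
    haveI : QuasiCompact (z₁.left ≫ (R i).r.left ≫ pullback.fst V.hom f) := by
      haveI := (R i).qc
      haveI := (R j).qc
      haveI : QuasiCompact (R j).r.left := MorphismProperty.of_postcomp (W := @QuasiCompact) (W' := @QuasiSeparated)
        (R j).r.left (pullback.fst V.hom f) hqsV (R j).qc
      haveI : QuasiCompact z₁.left := MorphismProperty.of_isPullback (P := @QuasiCompact)
        (show IsPullback z₂.left z₁.left (R j).r.left (R i).r.left from hsq.flip) ‹_›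
      infer_instance
    obtain ⟨O, hO, hC⟩ := exists_shrink (z₁.left ≫ (R i).r.left ≫ pullback.fst V.hom f) ρ.1
      (C := {z | ¬ LocEq F.obj (F.obj.map z₁.op (R i).b) (F.obj.map z₂.op (R j).b) z})
      (isOpen_locEq (P := F.obj) _ _).isClosed_compl (fun z hz s hzs => by
        obtain ⟨t, ht⟩ := exists_point_over f π ρ ((R i).r.left (z₁.left z)) s
          (((Scheme.Hom.comp_apply _ _ _).trans (Scheme.Hom.comp_apply _ _ _)).symm.trans hzs)
        have hrz : rz.left z = (R i).r.left (z₁.left z) := Scheme.Hom.comp_apply _ _ _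
        obtain ⟨o, ho, hoz⟩ := Scheme.exists_preimage_of_isPullback (EtCoh.isPullback_bc_map (pT f π) rz)
          ((sigma f π ρ).left t) z (((sigma_pr f π ρ t).trans ht).trans hrz.symm)
        have hP := (IsPullback.of_hasPullback (sigma f π ρ) ((EtCoh.bc (pT f π)).map rz)).map
          (Scheme.Etale.forget (pullback f π) ⋙ Over.forget (pullback f π))
        obtain ⟨zz, -, hzz⟩ := Scheme.exists_preimage_of_isPullback hP t o ho.symm
        refine hz ?_
        have h := agree_pair f π σ (R i) (R j) Z z₁ z₂ pullback.condition zz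
        have h' : LocEq F.obj (F.obj.map z₁.op (R i).b) (F.obj.map z₂.op (R j).b) (pr (pT f π) Z o) := by
          refine locEq_of_up (pT f π) F ?_
          rw [← hzz]
          exact LocEq.of_map _ h
        exact hoz ▸ h')
    refine ⟨O, hO, fun z hz => by_contra fun hn => hC z hn ?_⟩
    rw [Scheme.Hom.comp_apply, Scheme.Hom.comp_apply]
    exact hz
  choose OP hOP hagree using hpair
  haveI : Fintype (ι × ι) := Fintype.ofFinite _
  obtain ⟨O, hmem, hρO⟩ : ∃ O : V.left.Opens, (∀ v : V.left, v ∈ O → v ∈ O₀ ∧ ∀ q, v ∈ OP q) ∧ ∀ s, ρ.1 s ∈ O := by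
    refine ⟨O₀ ⊓ Finset.univ.inf OP, fun v hv =>
      ⟨hv.1, fun q => (Finset.inf_le (f := OP) (Finset.mem_univ q)) hv.2⟩, fun s => ⟨hO₀ s, ?_⟩⟩
    rw [TopologicalSpace.Opens.coe_finset_inf]
    simp only [Finset.inf_eq_iInf, Set.iInf_eq_iInter, Set.mem_iInter]
    exact fun q _ => hOP q s
  -- restrict to the neighbourhood
  let V' : Y.Etale := MorphismProperty.Over.mk ⊤ (O.ι ≫ V.hom) (inferInstanceAs (Etale (O.ι ≫ V.hom)))
  let m : V' ⟶ V := MorphismProperty.Over.homMk O.ι rfl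
  obtain ⟨l, hl⟩ := exists_lift_opens ρ.1 O hρO
  let ρ' : Lift π V' := ⟨l, ((Category.assoc _ _ _).symm.trans (congrArg (· ≫ V.hom) hl)).trans ρ.2⟩
  choose S j hb hp hc using fun i => exists_rep_map f π σ m ρ ρ' hl (R i)
  have hover : ∀ z : ((EtCoh.bc f).obj V').left, pullback.fst V.hom f (((EtCoh.bc f).map m).left z) ∈ O := fun z => by
    have e := congrArg (fun k : ((EtCoh.bc f).obj V').left ⟶ V.left => k z) (EtCoh.isPullback_bc_map f m).w
    exact (((Scheme.Hom.comp_apply _ _ _).symm.trans e).trans (Scheme.Hom.comp_apply _ _ _)) ▸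
      (pullback.fst V'.hom f z).2
  have hcov : Sieve.generate (Presieve.ofArrows (fun i => (S i).W) (fun i => (S i).r)) ∈
      X.smallEtaleTopology ((EtCoh.bc f).obj V') := by
    rw [EtFound.mem_topology_iff]
    intro z
    have hz := (hmem _ (hover z)).1
    obtain ⟨i, w, hw⟩ : ∃ i, ((EtCoh.bc f).map m).left z ∈ Set.range (R i).r.left :=
      Set.mem_iUnion.1 (by_contra fun hn => hC₀ _ hn hz)
    obtain ⟨w', hw', -⟩ := Scheme.exists_preimage_of_isPullback
      ((hp i).map (Scheme.Etale.forget X ⋙ Over.forget X)) z w hw.symm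
    exact ⟨(S i).W, (S i).r, w', ⟨_, 𝟙 _, (S i).r, ⟨i⟩, Category.id_comp _⟩, hw'⟩
  have hcomp : ∀ i k (A : X.Etale) (m₁ : A ⟶ (S i).W) (m₂ : A ⟶ (S k).W), m₁ ≫ (S i).r = m₂ ≫ (S k).r →
      F.obj.map m₁.op (S i).b = F.obj.map m₂.op (S k).b := fun i k A m₁ m₂ e => by
    rw [hb, hb, mapF, mapF]
    have e' : (m₁ ≫ j i) ≫ (R i).r = (m₂ ≫ j k) ≫ (R k).r := by
      rw [Category.assoc, Category.assoc, ← (hp i).w, ← (hp k).w, ← Category.assoc, ← Category.assoc, e]
    let l : A ⟶ pullback (R i).r (R k).r := pullback.lift (m₁ ≫ j i) (m₂ ≫ j k) e'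
    refine eq_of_locEq F fun y => ?_
    have hy : pullback.fst V.hom f ((R i).r.left ((pullback.fst (R i).r (R k).r).left (l.left y))) ∈ OP (i, k) := by
      refine (hmem _ ?_).2 (i, k)
      have e₁ : (R i).r.left ((pullback.fst (R i).r (R k).r).left (l.left y)) =
          ((EtCoh.bc f).map m).left ((m₁ ≫ (S i).r).left y) := by
        have e₀ : l ≫ pullback.fst (R i).r (R k).r ≫ (R i).r = (m₁ ≫ (S i).r) ≫ (EtCoh.bc f).map m := by
          rw [pullback.lift_fst_assoc, Category.assoc, Category.assoc, (hp i).w]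
        exact congrArg (fun q : A ⟶ (EtCoh.bc f).obj V => q.left y) e₀
      rw [e₁]
      exact hover _
    have h := (hagree (i, k) (l.left y) hy).map l
    rw [mapF, mapF, pullback.lift_fst, pullback.lift_snd] at h
    exact h
  obtain ⟨a, ha, -⟩ := (Presieve.isSheafFor_arrows_iff _ _).1 ((Presieve.isSheafFor_iff_generate _).2
    (((isSheaf_iff_isSheaf_of_type _ _).1 F.property) _ hcov)) (fun i => (S i).b) hcomp
  refine ⟨V', ρ', a, eq_of_locEq _ fun t => ?_⟩
  obtain ⟨i, hi⟩ := hR t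
  rw [← hc i] at hi
  obtain ⟨z, rfl⟩ := hi
  refine LocEq.of_map (pullback.fst (sigma f π ρ') ((EtCoh.bc (pT f π)).map (S i).r)) ?_
  rw [res, mapF, pullback.condition, ← mapF, ← up_map, ha]
  exact (S i).agree z

end Groth.Agent.HenselConn
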