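import Groth.Agent.HenselConn.Submersive
import Groth.Agent.HenselConn.Strict
import Groth.Agent.GrpSchLib.FieldReduced
import Groth.Agent.Hensel.IntegralStrict
import Mathlib.RingTheory.Spectrum.Prime.Homeomorph
import Mathlib.FieldTheory.PurelyInseparable.PerfectClosure

/-!
# 0-acyclicity over zero-dimensional bases
-/

set_option autoImplicit false

universe u

open CategoryTheory AlgebraicGeometry IsLocalRing TensorProduct

namespace Groth.Agent.HenselConn

theorem isSepClosed_of_algebraic (k E : Type u) [Field k] [Field E] [Algebra k E] [IsSepClosed k] [Algebra.IsAlgebraic k E] :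
    IsSepClosed E := by
  refine IsSepClosed.of_exists_root E fun p hm hirr hsep => ?_
  let Ω := AlgebraicClosure E
  obtain ⟨x, hx⟩ := IsAlgClosed.exists_aeval_eq_zero Ω p (ne_of_gt (Polynomial.natDegree_pos_iff_degree_pos.1 hirr.natDegree_pos))
  haveI : Algebra.IsAlgebraic k Ω := Algebra.IsAlgebraic.trans k E Ω
  haveI : IsPurelyInseparable k Ω := inferInstance
  haveI : IsPurelyInseparable E Ω := IsPurelyInseparable.tower_top k E Ω
  have hs : IsSeparable E x := by
    unfold IsSeparable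
    rw [← minpoly.eq_of_irreducible_of_monic hirr hx hm]
    exact hsep
  obtain ⟨y, rfl⟩ := IsPurelyInseparable.inseparable E x hs
  refine ⟨y, ?_⟩
  rw [Polynomial.aeval_algebraMap_apply] at hx
  exact (map_eq_zero _).1 hx

theorem hasEtLift_tensor {P M X : Type u} [CommRing P] [CommRing M] [CommRing X] [Algebra P M] [Algebra P X]
    (h : HasEtLift P X) : HasEtLift M (M ⊗[P] X) := fun T => by
  classical
  choose s hs using fun t : M ⊗[P] X => TensorProduct.exists_finset (R := P) t
  obtain ⟨C, _, _, _, π, hπ⟩ := h (T.biUnion fun t => (s t).image Prod.snd)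
  refine ⟨M ⊗[P] C, inferInstance, inferInstance, inferInstance, Algebra.TensorProduct.map (AlgHom.id M M) π,
    fun t ht => ?_⟩
  rw [hs t]
  refine sum_mem fun x hx => ?_
  obtain ⟨c, hc⟩ := hπ x.2 (Finset.mem_biUnion.2 ⟨t, ht, Finset.mem_image_of_mem _ hx⟩)
  exact ⟨x.1 ⊗ₜ c, (Algebra.TensorProduct.map_tmul _ _ _ _).trans (congrArg (x.1 ⊗ₜ[P] ·) hc)⟩

theorem isLocalRing_of_comap {X X' : Type u} [CommRing X] [IsLocalRing X] [CommRing X'] [Algebra X X']
    [Algebra.IsIntegral X X'] (hb : Function.Bijective (PrimeSpectrum.comap (algebraMap X X'))) : IsLocalRing X' := by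
  obtain ⟨q, hq⟩ := hb.2 (closedPoint X)
  haveI : Nontrivial X' := ⟨⟨0, 1, fun h => q.2.ne_top (Ideal.eq_top_iff_one _ |>.2 (h ▸ q.asIdeal.zero_mem))⟩⟩
  obtain ⟨m, hm⟩ := Ideal.exists_maximal X'
  have key : ∀ (n : Ideal X') (hn : n.IsMaximal), (⟨n, hn.isPrime⟩ : PrimeSpectrum X') = q := fun n hn => by
    refine hb.1 (hq ▸ PrimeSpectrum.ext ?_)
    haveI := hn
    exact IsLocalRing.eq_maximalIdeal (Ideal.isMaximal_comap_of_isIntegral_of_isMaximal (R := X) n)
  exact IsLocalRing.of_unique_max_ideal ⟨m, hm, fun n hn =>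
    congrArg PrimeSpectrum.asIdeal ((key n hn).trans (key m hm).symm)⟩

/-- The homomorphism out of a tensor product given by two homomorphisms which agree on the base. -/
theorem exists_pair {R A B C : Type u} [CommRing R] [CommRing A] [CommRing B] [CommRing C] [Algebra R A] [Algebra R B]
    (f : A →+* C) (g : B →+* C) (h : ∀ r, f (algebraMap R A r) = g (algebraMap R B r)) :
    ∃ θ : A ⊗[R] B →+* C, (∀ a, θ (a ⊗ₜ 1) = f a) ∧ ∀ b, θ (1 ⊗ₜ b) = g b := by
  letI : Algebra R C := (f.comp (algebraMap R A)).toAlgebra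
  refine ⟨(Algebra.TensorProduct.lift ({ f with commutes' := fun _ => rfl } : A →ₐ[R] C)
    ({ g with commutes' := fun r => (h r).symm } : B →ₐ[R] C) fun _ _ => Commute.all _ _).toRingHom, fun a => ?_, fun b => ?_⟩
  · show Algebra.TensorProduct.lift _ _ _ _ = _
    rw [Algebra.TensorProduct.lift_tmul, map_one, mul_one]; rfl
  · show Algebra.TensorProduct.lift _ _ _ _ = _
    rw [Algebra.TensorProduct.lift_tmul, map_one, one_mul]; rfl

variable {R : Type u} [CommRing R] [IsLocalRing R] (hR : maximalIdeal R ≤ nilradical R)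
  {K : Type u} [Field K] [Algebra (ResidueField R) K] [Algebra R K] [IsScalarTower R (ResidueField R) K]
  [IsPurelyInseparable (ResidueField R) K]

include hR

theorem exists_hom_residue {L : Type u} [Field L] (f : R →+* L) :
    ∃ ψ : ResidueField R →+* L, ∀ r, ψ (algebraMap R (ResidueField R) r) = f r :=
  ⟨Ideal.Quotient.lift (maximalIdeal R) f fun _ hr => IsNilpotent.eq_zero ((mem_nilradical.1 (hR hr)).map f),
    fun _ => rfl⟩

theorem exists_ext {L : Type u} [Field L] [IsAlgClosed L] (f : R →+* L) :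
    ∃ j : K →+* L, ∀ r, j (algebraMap R K r) = f r := by
  obtain ⟨ψ, hψ⟩ := exists_hom_residue hR f
  letI : Algebra (ResidueField R) L := ψ.toAlgebra
  let j : K →ₐ[ResidueField R] L := IsAlgClosed.lift
  exact ⟨j.toRingHom, fun r => by rw [IsScalarTower.algebraMap_apply R (ResidueField R) K]; exact (j.commutes _).trans (hψ r)⟩

theorem comap_includeRight_bijective (T : Type u) [CommRing T] [Algebra R T] :
    Function.Bijective (PrimeSpectrum.comap (Algebra.TensorProduct.includeRight : T →ₐ[R] K ⊗[R] T).toRingHom) := by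
  let k0 := ResidueField R
  let i1 : T →+* k0 ⊗[R] T := (Algebra.TensorProduct.includeRight : T →ₐ[R] k0 ⊗[R] T).toRingHom
  let i2 : k0 ⊗[R] T →+* K ⊗[R] T := (Algebra.TensorProduct.map (Algebra.ofId k0 K) (AlgHom.id R T)).toRingHom
  have hsurj : Function.Surjective i1 := fun z => by
    induction z using TensorProduct.induction_on with
    | zero => exact ⟨0, map_zero _⟩
    | add a b ha hb =>
      obtain ⟨a', rfl⟩ := ha
      obtain ⟨b', rfl⟩ := hb
      exact ⟨a' + b', map_add _ _ _⟩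
    | tmul c t =>
      obtain ⟨r, rfl⟩ : ∃ r, algebraMap R k0 r = c := IsLocalRing.residue_surjective c
      refine ⟨r • t, ?_⟩
      show (1 : k0) ⊗ₜ[R] (r • t) = _
      rw [← TensorProduct.smul_tmul (R := R), ← Algebra.algebraMap_eq_smul_one]
  have h : (Algebra.TensorProduct.includeRight : T →ₐ[R] K ⊗[R] T).toRingHom = i2.comp i1 :=
    RingHom.ext fun t => by simp [i1, i2]
  rw [h, PrimeSpectrum.comap_comp]
  refine Function.Bijective.comp ⟨PrimeSpectrum.comap_injective_of_surjective _ hsurj, fun p => ?_⟩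
    (PrimeSpectrum.isHomeomorph_comap_tensorProductMap_of_isPurelyInseparable k0 R T K).bijective
  let f := algebraMap T p.asIdeal.ResidueField
  obtain ⟨ψ, hψ⟩ := exists_hom_residue hR (f.comp (algebraMap R T))
  obtain ⟨Φ, -, hΦ⟩ := exists_pair ψ f hψ
  refine ⟨⟨RingHom.ker Φ, RingHom.ker_isPrime _⟩, PrimeSpectrum.ext (Ideal.ext fun t => ?_)⟩
  show Φ ((1 : k0) ⊗ₜ t) = 0 ↔ t ∈ p.asIdeal
  rw [hΦ]
  exact Ideal.algebraMap_residueField_eq_zero

/-- A base change along a radicial extension of algebras. -/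
theorem tensor_spec {P M X : Type u} [CommRing P] [CommRing M] [CommRing X] [Algebra R P] [Algebra K M] [Algebra P M]
    [Algebra P X] (hcomm : ∀ r, algebraMap K M (algebraMap R K r) = algebraMap P M (algebraMap R P r))
    (hgen : Subring.closure (Set.range (algebraMap K M) ∪ Set.range (algebraMap P M)) = ⊤)
    (hext : ∀ (L : Type u) [Field L] (f : P →+* L) (j : K →+* L), (∀ r, j (algebraMap R K r) = f (algebraMap R P r)) →
      ∃ g : M →+* L, g.comp (algebraMap P M) = f ∧ g.comp (algebraMap K M) = j) :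
    Function.Bijective (PrimeSpectrum.comap (Algebra.TensorProduct.includeRight : X →ₐ[P] M ⊗[P] X).toRingHom) ∧
      (Algebra.TensorProduct.includeRight : X →ₐ[P] M ⊗[P] X).toRingHom.IsIntegral := by
  let ι : X →+* M ⊗[P] X := (Algebra.TensorProduct.includeRight : X →ₐ[P] M ⊗[P] X).toRingHom
  let inM : M →+* M ⊗[P] X := Algebra.TensorProduct.includeLeftRingHom
  letI : Algebra R X := ((algebraMap P X).comp (algebraMap R P)).toAlgebra
  letI : Algebra R (M ⊗[P] X) := (ι.comp (algebraMap R X)).toAlgebra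
  have hj : ∀ r, inM (algebraMap K M (algebraMap R K r)) = ι (algebraMap R X r) := fun r => by
    rw [hcomm]
    exact Algebra.TensorProduct.tmul_one_eq_one_tmul (algebraMap R P r)
  let jK : K →ₐ[R] M ⊗[P] X := { inM.comp (algebraMap K M) with commutes' := hj }
  let ιR : X →ₐ[R] M ⊗[P] X := { ι with commutes' := fun _ => rfl }
  let s : K ⊗[R] X →ₐ[R] M ⊗[P] X := Algebra.TensorProduct.lift jK ιR fun _ _ => Commute.all _ _
  have hs : ∀ c x, s (c ⊗ₜ x) = jK c * ι x := fun c x => Algebra.TensorProduct.lift_tmul _ _ _ c x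
  have hsx : ∀ x, s ((1 : K) ⊗ₜ x) = ι x := fun x => by rw [hs, map_one, one_mul]
  have hm : ∀ m, inM m ∈ s.range := by
    intro m
    have : Subring.closure (Set.range (algebraMap K M) ∪ Set.range (algebraMap P M)) ≤ s.range.toSubring.comap inM := by
      refine Subring.closure_le.2 ?_
      rintro _ (⟨c, rfl⟩ | ⟨q, rfl⟩)
      · exact ⟨c ⊗ₜ 1, by show s (c ⊗ₜ 1) = _; rw [hs, map_one, mul_one]; rfl⟩
      · exact ⟨1 ⊗ₜ algebraMap P X q, (hsx _).trans (Algebra.TensorProduct.tmul_one_eq_one_tmul q).symm⟩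
    rw [hgen] at this
    exact this (Subring.mem_top m)
  have hsurj : Function.Surjective s := fun z => by
    induction z using TensorProduct.induction_on with
    | zero => exact ⟨0, map_zero _⟩
    | add a b ha hb =>
      obtain ⟨a', rfl⟩ := ha
      obtain ⟨b', rfl⟩ := hb
      exact ⟨a' + b', map_add _ _ _⟩
    | tmul m x =>
      obtain ⟨c, hc⟩ := hm m
      refine ⟨c * ((1 : K) ⊗ₜ x), ?_⟩
      rw [map_mul, hsx, show s c = inM m from hc]
      show (m ⊗ₜ[P] (1 : X)) * ((1 : M) ⊗ₜ[P] x) = _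
      rw [Algebra.TensorProduct.tmul_mul_tmul, mul_one, one_mul]
  have hfac : ι = s.toRingHom.comp (Algebra.TensorProduct.includeRight : X →ₐ[R] K ⊗[R] X).toRingHom :=
    RingHom.ext fun x => (hsx x).symm
  refine ⟨⟨?_, fun p => ?_⟩, fun z => ?_⟩
  · show Function.Injective (PrimeSpectrum.comap ι)
    rw [hfac, PrimeSpectrum.comap_comp]
    exact (comap_includeRight_bijective hR (K := K) X).1.comp (PrimeSpectrum.comap_injective_of_surjective _ hsurj)
  · let L := AlgebraicClosure p.asIdeal.ResidueField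
    let f : X →+* L := (algebraMap p.asIdeal.ResidueField L).comp (algebraMap X p.asIdeal.ResidueField)
    obtain ⟨j, hj'⟩ := exists_ext hR (K := K) (f.comp (algebraMap R X))
    obtain ⟨g, hgP, -⟩ := hext L (f.comp (algebraMap P X)) j hj'
    obtain ⟨Φ, -, hΦ⟩ := exists_pair g f (RingHom.congr_fun hgP)
    refine ⟨⟨RingHom.ker Φ, RingHom.ker_isPrime _⟩, PrimeSpectrum.ext (Ideal.ext fun x => ?_)⟩
    show Φ ((1 : M) ⊗ₜ x) = 0 ↔ x ∈ p.asIdeal
    rw [hΦ]
    show algebraMap p.asIdeal.ResidueField L (algebraMap X p.asIdeal.ResidueField x) = 0 ↔ _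
    rw [map_eq_zero]
    exact Ideal.algebraMap_residueField_eq_zero
  · obtain ⟨w, rfl⟩ := hsurj z
    letI : Algebra X (M ⊗[P] X) := ι.toAlgebra
    haveI : IsScalarTower R X (M ⊗[P] X) := IsScalarTower.of_algebraMap_eq' rfl
    haveI : Algebra.IsIntegral R K :=
      haveI : Algebra.IsIntegral R (ResidueField R) := ⟨fun c => by obtain ⟨r, rfl⟩ := IsLocalRing.residue_surjective c; exact isIntegral_algebraMap⟩
      Algebra.IsIntegral.trans (ResidueField R)
    show IsIntegral X (s w)
    induction w using TensorProduct.induction_on with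
    | zero => rw [map_zero]; exact isIntegral_zero
    | add a b ha hb => rw [map_add]; exact ha.add hb
    | tmul c x =>
      rw [hs]
      exact (((Algebra.IsIntegral.isIntegral (R := R) c).map jK).tower_top).mul (isIntegral_algebraMap (x := x))

omit hR in
theorem gen_base (R' : Type u) [CommRing R'] [Algebra R R'] :
    letI : Algebra R' (K ⊗[R] R') := Algebra.TensorProduct.rightAlgebra
    Subring.closure (Set.range (algebraMap K (K ⊗[R] R')) ∪ Set.range (algebraMap R' (K ⊗[R] R'))) = ⊤ := by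
  letI : Algebra R' (K ⊗[R] R') := Algebra.TensorProduct.rightAlgebra
  refine eq_top_iff.2 fun z hz => ?_
  clear hz
  induction z using TensorProduct.induction_on with
  | zero => exact zero_mem _
  | add a b ha hb => exact add_mem ha hb
  | tmul c r =>
    rw [show c ⊗ₜ[R] r = (c ⊗ₜ[R] (1 : R')) * ((1 : K) ⊗ₜ r) by rw [Algebra.TensorProduct.tmul_mul_tmul, mul_one, one_mul]]
    exact mul_mem (Subring.subset_closure (Or.inl ⟨c, rfl⟩)) (Subring.subset_closure (Or.inr ⟨r, rfl⟩))

omit hR in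
theorem ext_base (R' : Type u) [CommRing R'] [Algebra R R'] :
    letI : Algebra R' (K ⊗[R] R') := Algebra.TensorProduct.rightAlgebra
    ∀ (L : Type u) [Field L] (f : R' →+* L) (j : K →+* L),
      (∀ r, j (algebraMap R K r) = f (algebraMap R R' r)) →
      ∃ g : K ⊗[R] R' →+* L, g.comp (algebraMap R' (K ⊗[R] R')) = f ∧ g.comp (algebraMap K (K ⊗[R] R')) = j := by
  intro L _ f j hjf
  obtain ⟨g, hgK, hgR⟩ := exists_pair j f hjf
  exact ⟨g, RingHom.ext hgR, RingHom.ext hgK⟩

/-- The reduced model of a base change along a perfect residue extension. -/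
theorem exists_reduced_model (A R' : Type u) [CommRing A] [Algebra R A] [CommRing R'] [Algebra R R'] :
    ∃ (A'' : Type u) (_ : CommRing A'') (_ : Algebra K A'') (_ : IsReduced A'')
      (θ : A ⊗[R] R' →+* A'' ⊗[K] (K ⊗[R] R')),
      (∀ r, θ ((1 : A) ⊗ₜ[R] r) = (1 : A'') ⊗ₜ[K] ((1 : K) ⊗ₜ[R] r)) ∧
      (∀ r, algebraMap K (A'' ⊗[K] (K ⊗[R] R')) (algebraMap R K r) = θ (algebraMap R (A ⊗[R] R') r)) ∧
      Subring.closure (Set.range (algebraMap K (A'' ⊗[K] (K ⊗[R] R'))) ∪ Set.range θ) = ⊤ ∧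
      ∀ (L : Type u) [Field L] (f : A ⊗[R] R' →+* L) (j : K →+* L),
        (∀ r, j (algebraMap R K r) = f (algebraMap R (A ⊗[R] R') r)) →
        ∃ g : A'' ⊗[K] (K ⊗[R] R') →+* L, g.comp θ = f ∧ g.comp (algebraMap K (A'' ⊗[K] (K ⊗[R] R'))) = j := by
  let A₁ := K ⊗[R] A
  let A'' := A₁ ⧸ nilradical A₁
  let R'' := K ⊗[R] R'
  let qA : A₁ →+* A'' := Ideal.Quotient.mk _
  let tA : A →+* A'' ⊗[K] R'' := (Algebra.TensorProduct.includeLeftRingHom : A'' →+* A'' ⊗[K] R'').comp
    (qA.comp (Algebra.TensorProduct.includeRight : A →ₐ[R] A₁).toRingHom)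
  let tR : R' →+* A'' ⊗[K] R'' := (Algebra.TensorProduct.includeRight : R'' →ₐ[K] A'' ⊗[K] R'').toRingHom.comp
    (Algebra.TensorProduct.includeRight : R' →ₐ[R] R'').toRingHom
  have htA : ∀ r, tA (algebraMap R A r) = algebraMap K (A'' ⊗[K] R'') (algebraMap R K r) := fun r => by
    show qA ((1 : K) ⊗ₜ[R] algebraMap R A r) ⊗ₜ[K] (1 : R'') = _
    rw [← Algebra.TensorProduct.tmul_one_eq_one_tmul]
    rfl
  have htR : ∀ r, tR (algebraMap R R' r) = algebraMap K (A'' ⊗[K] R'') (algebraMap R K r) := fun r => by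
    show (1 : A'') ⊗ₜ[K] ((1 : K) ⊗ₜ[R] algebraMap R R' r) = _
    rw [← Algebra.TensorProduct.tmul_one_eq_one_tmul]
    exact (Algebra.TensorProduct.tmul_one_eq_one_tmul (R := K) (A := A'') (B := R'') (algebraMap R K r)).symm
  obtain ⟨θ, hθA, hθR⟩ := exists_pair (R := R) (A := A) (B := R') (C := A'' ⊗[K] R'') tA tR
    fun r => (htA r).trans (htR r).symm
  refine ⟨A'', inferInstance, inferInstance, (Ideal.isRadical_iff_quotient_reduced _).1 (Ideal.radical_isRadical _),
    θ, hθR, fun r => ((hθA _).trans (htA r)).symm, ?_, ?_⟩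
  · let C := Subring.closure (Set.range (algebraMap K (A'' ⊗[K] R'')) ∪ Set.range θ)
    have hA : ∀ a : A₁, qA a ⊗ₜ[K] (1 : R'') ∈ C := fun a => by
      induction a using TensorProduct.induction_on with
      | zero => rw [map_zero, TensorProduct.zero_tmul]; exact zero_mem _
      | add a b ha hb => rw [map_add, TensorProduct.add_tmul]; exact add_mem ha hb
      | tmul c a =>
        rw [show c ⊗ₜ[R] a = (c ⊗ₜ[R] (1 : A)) * ((1 : K) ⊗ₜ a) by rw [Algebra.TensorProduct.tmul_mul_tmul, mul_one, one_mul],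
          map_mul, ← mul_one (1 : R''), ← Algebra.TensorProduct.tmul_mul_tmul]
        exact mul_mem (Subring.subset_closure (Or.inl ⟨c, rfl⟩)) (Subring.subset_closure (Or.inr ⟨a ⊗ₜ 1, hθA a⟩))
    have hB : ∀ b : R'', (1 : A'') ⊗ₜ[K] b ∈ C := fun b => by
      induction b using TensorProduct.induction_on with
      | zero => rw [TensorProduct.tmul_zero]; exact zero_mem _
      | add a b ha hb => rw [TensorProduct.tmul_add]; exact add_mem ha hb
      | tmul c r =>
        rw [show c ⊗ₜ[R] r = (c ⊗ₜ[R] (1 : R')) * ((1 : K) ⊗ₜ r) by rw [Algebra.TensorProduct.tmul_mul_tmul, mul_one, one_mul],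
          ← mul_one (1 : A''), ← Algebra.TensorProduct.tmul_mul_tmul]
        exact mul_mem (Subring.subset_closure (Or.inl ⟨c, (Algebra.TensorProduct.tmul_one_eq_one_tmul c)⟩))
          (Subring.subset_closure (Or.inr ⟨1 ⊗ₜ r, hθR r⟩))
    refine eq_top_iff.2 fun z hz => ?_
    clear hz
    induction z using TensorProduct.induction_on with
    | zero => exact zero_mem _
    | add a b ha hb => exact add_mem ha hb
    | tmul a b =>
      obtain ⟨a, rfl⟩ := Ideal.Quotient.mk_surjective a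
      rw [← mul_one (Ideal.Quotient.mk _ a), ← one_mul b, ← Algebra.TensorProduct.tmul_mul_tmul]
      exact mul_mem (hA a) (hB b)
  · intro L _ f j hjf
    let fA : A →+* L := f.comp Algebra.TensorProduct.includeLeftRingHom
    let fR : R' →+* L := f.comp (Algebra.TensorProduct.includeRight : R' →ₐ[R] A ⊗[R] R').toRingHom
    obtain ⟨gR, hgR, hgK⟩ := exists_pair (R := R) j fR fun r => by
      rw [hjf]
      exact congrArg f (Algebra.TensorProduct.tmul_one_eq_one_tmul r)
    obtain ⟨gA₁, hA₁K, hA₁A⟩ := exists_pair (R := R) j fA hjf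
    let gA : A'' →+* L := Ideal.Quotient.lift _ gA₁ fun a ha => IsNilpotent.eq_zero ((mem_nilradical.1 ha).map gA₁)
    obtain ⟨g, hgA, hgR'⟩ := exists_pair (R := K) gA gR fun c => (hA₁K c).trans (hgR c).symm
    refine ⟨g, Algebra.TensorProduct.ringHom_ext (RingHom.ext fun a => ?_) (RingHom.ext fun r => ?_),
      RingHom.ext fun c => ?_⟩
    · show g (θ (a ⊗ₜ 1)) = f (a ⊗ₜ 1)
      rw [hθA]
      exact (hgA _).trans (hA₁A a)
    · show g (θ (1 ⊗ₜ r)) = f (1 ⊗ₜ r)
      rw [hθR]
      exact (hgR' _).trans (hgK r)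
    · exact (hgA _).trans (hA₁K c)

omit hR in
/-- Connected geometric fibres descend along a map of squares. -/
theorem connected_descend {B B' Y X : Type u} [CommRing B] [CommRing B'] [CommRing Y] [CommRing X]
    [Algebra B B'] [Algebra Y X] (ιY : B →+* Y) (ιX : B' →+* X)
    (hsq : (algebraMap Y X).comp ιY = ιX.comp (algebraMap B B'))
    (hext : ∀ (L : Type u) [Field L] (g : Y →+* L) (π : B' →+* L),
      (∀ b, g (ιY b) = π (algebraMap B B' b)) → ∃ h : X →+* L, h.comp ιX = π ∧ h.comp (algebraMap Y X) = g)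
    (Ω : Type u) [Field Ω] [Algebra B Ω] [Algebra Y Ω] (hΩ : ∀ b, algebraMap Y Ω (ιY b) = algebraMap B Ω b)
    [ConnectedSpace (PrimeSpectrum (Ω ⊗[Y] X))] : ConnectedSpace (PrimeSpectrum (Ω ⊗[B] B')) := by
  let inΩ : Ω →+* Ω ⊗[Y] X := Algebra.TensorProduct.includeLeftRingHom
  let inX : X →+* Ω ⊗[Y] X := (Algebra.TensorProduct.includeRight : X →ₐ[Y] Ω ⊗[Y] X).toRingHom
  obtain ⟨Φ, hΦΩ, hΦX⟩ := exists_pair (R := B) inΩ (inX.comp ιX) fun b => by
    show inΩ (algebraMap B Ω b) = inX (ιX (algebraMap B B' b))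
    rw [← hΩ, show ιX (algebraMap B B' b) = algebraMap Y X (ιY b) from (RingHom.congr_fun hsq b).symm]
    exact Algebra.TensorProduct.tmul_one_eq_one_tmul (ιY b)
  suffices hΦ : Function.Surjective (PrimeSpectrum.comap Φ) from hΦ.connectedSpace (PrimeSpectrum.continuous_comap Φ)
  intro Q
  let π := algebraMap (Ω ⊗[B] B') Q.asIdeal.ResidueField
  let πΩ : Ω →+* Q.asIdeal.ResidueField := π.comp Algebra.TensorProduct.includeLeftRingHom
  let πX : B' →+* Q.asIdeal.ResidueField := π.comp (Algebra.TensorProduct.includeRight : B' →ₐ[B] Ω ⊗[B] B').toRingHom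
  obtain ⟨h, hh₁, hh₂⟩ := hext _ (πΩ.comp (algebraMap Y Ω)) πX fun b => by
    show πΩ (algebraMap Y Ω (ιY b)) = πX (algebraMap B B' b)
    rw [hΩ]
    exact congrArg π (Algebra.TensorProduct.tmul_one_eq_one_tmul b)
  obtain ⟨Ψ, hΨΩ, hΨX⟩ := exists_pair (R := Y) πΩ h fun y => (RingHom.congr_fun hh₂ y).symm
  refine ⟨⟨RingHom.ker Ψ, RingHom.ker_isPrime _⟩, PrimeSpectrum.ext (Ideal.ext fun t => ?_)⟩
  have : Ψ (Φ t) = π t := by
    refine RingHom.congr_fun (f := Ψ.comp Φ) (g := π) (Algebra.TensorProduct.ringHom_ext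
      (RingHom.ext fun w => ?_) (RingHom.ext fun x => ?_)) t
    · exact (congrArg Ψ (hΦΩ w)).trans (hΨΩ w)
    · exact (congrArg Ψ (hΦX x)).trans ((hΨX (ιX x)).trans (RingHom.congr_fun hh₁ x))
  show Ψ (Φ t) = 0 ↔ t ∈ Q.asIdeal
  rw [this]
  exact Ideal.algebraMap_residueField_eq_zero

/-- The map of strict localizations over a zero-dimensional base, after a choice of perfect closure. -/
theorem isZeroAcyclic_zeroDim_aux [PerfectField K] (A R' RY : Type u) [CommRing A] [Algebra R A] [CommRing R'] [Algebra R R']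
    [CommRing RY] [Algebra R RY] [Algebra R' RY] [IsScalarTower R R' RY] [HenselianLocalRing RY]
    [IsSepClosed (ResidueField RY)]
    (RX : Type u) [CommRing RX] [IsLocalRing RX] [Algebra RY RX] [IsLocalHom (algebraMap RY RX)]
    [Algebra (A ⊗[R] R') RX] [Module.Flat (A ⊗[R] R') RX]
    (hY : HasEtLift R' RY) (hX : HasEtLift (A ⊗[R] R') RX)
    (hc : ∀ r : R', algebraMap (A ⊗[R] R') RX ((1 : A) ⊗ₜ[R] r) = algebraMap RY RX (algebraMap R' RY r)) :
    EtAcyc.IsZeroAcyclic (Spec.map (CommRingCat.ofHom (algebraMap RY RX))) := by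
  obtain ⟨A'', _, _, _, θ, hθR, hθK, hgenM, hextM⟩ := exists_reduced_model hR (K := K) A R'
  letI : Algebra R' (K ⊗[R] R') := Algebra.TensorProduct.rightAlgebra
  let R'' := K ⊗[R] R'
  let P := A ⊗[R] R'
  letI : Algebra P (A'' ⊗[K] R'') := θ.toAlgebra
  let Y := R'' ⊗[R'] RY
  let X := (A'' ⊗[K] R'') ⊗[P] RX
  obtain ⟨hbY, hiY⟩ := tensor_spec hR (P := R') (M := R'') (X := RY)
    (fun r => Algebra.TensorProduct.tmul_one_eq_one_tmul r) (gen_base R') (ext_base R')
  obtain ⟨hbX, hiX⟩ := tensor_spec hR (P := P) (M := A'' ⊗[K] R'') (X := RX) hθK hgenM hextM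
  let ιY : RY →+* Y := (Algebra.TensorProduct.includeRight : RY →ₐ[R'] Y).toRingHom
  let ιX : RX →+* X := (Algebra.TensorProduct.includeRight : RX →ₐ[P] X).toRingHom
  letI : Algebra RY Y := ιY.toAlgebra
  haveI : Algebra.IsIntegral RY Y := ⟨hiY⟩
  letI : Algebra RX X := Algebra.TensorProduct.rightAlgebra
  haveI : Algebra.IsIntegral RX X := ⟨hiX⟩
  haveI : IsLocalRing Y := isLocalRing_of_comap hbY
  haveI : IsLocalRing X := isLocalRing_of_comap hbX
  haveI : IsLocalHom (algebraMap RY Y) := Hensel.isLocalHom_of_isIntegral_local RY Y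
  haveI : IsLocalHom (algebraMap RX X) := Hensel.isLocalHom_of_isIntegral_local RX X
  haveI : HenselianLocalRing Y := Hensel.henselianLocalRing_of_isIntegral_local RY Y
  haveI : Algebra.IsIntegral (ResidueField RY) (ResidueField Y) := ⟨fun y => by
    obtain ⟨z, rfl⟩ := IsLocalRing.residue_surjective y
    exact ((Algebra.IsIntegral.isIntegral (R := RY) z).map (IsScalarTower.toAlgHom RY Y (ResidueField Y))).tower_top⟩
  haveI : IsSepClosed (ResidueField Y) := isSepClosed_of_algebraic (ResidueField RY) _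
  let inR : R'' →+* X := (Algebra.TensorProduct.includeLeftRingHom : (A'' ⊗[K] R'') →+* X).comp
    (Algebra.TensorProduct.includeRight : R'' →ₐ[K] A'' ⊗[K] R'').toRingHom
  obtain ⟨φ, hφR, hφY⟩ := exists_pair (R := R') (A := R'') (B := RY) (C := X) inR (ιX.comp (algebraMap RY RX)) fun r => by
    show ((1 : A'') ⊗ₜ[K] ((1 : K) ⊗ₜ[R] r)) ⊗ₜ[P] (1 : RX) = (1 : A'' ⊗[K] R'') ⊗ₜ[P] algebraMap RY RX (algebraMap R' RY r)
    rw [← hc, ← hθR]
    exact Algebra.TensorProduct.tmul_one_eq_one_tmul ((1 : A) ⊗ₜ[R] r)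
  letI : Algebra Y X := φ.toAlgebra
  have e1 : algebraMap Y X = φ := rfl
  have hsq : ∀ y, (algebraMap Y X) (ιY y) = ιX (algebraMap RY RX y) := fun y => by
    rw [e1]
    exact hφY y
  have hsq' : (algebraMap Y X).comp ιY = (algebraMap RX X).comp (algebraMap RY RX) := RingHom.ext hsq
  letI : CommRing X := inferInstance
  haveI : IsLocalHom (algebraMap Y X) := ⟨fun y hy => by
    by_contra hn
    have hmem : y ∈ maximalIdeal Y := hn
    have h2 : PrimeSpectrum.comap (algebraMap Y X) (closedPoint X) = closedPoint Y := hbY.1 (by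
      show PrimeSpectrum.comap ιY _ = PrimeSpectrum.comap (algebraMap RY Y) _
      rw [← PrimeSpectrum.comap_comp_apply, hsq', PrimeSpectrum.comap_comp_apply]
      show PrimeSpectrum.comap (algebraMap RY RX) (PrimeSpectrum.comap (algebraMap RX X) (closedPoint X)) = _
      rw [comap_closedPoint, comap_closedPoint, comap_closedPoint])
    exact (congrArg PrimeSpectrum.asIdeal h2).ge hmem hy⟩
  obtain ⟨hff, hconn⟩ := connected_strict (R := K) (A := A'') (R' := R'') (RY := Y) X
    (fun L _ _ => GrpSchLib.isReduced_tensor_of_perfectField) (hasEtLift_tensor hY) (hasEtLift_tensor hX)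
    (fun r => (hφR r).symm)
  refine isZeroAcyclic_of_submersive _ ?_ fun Ω _ _ s => ?_
  · have hb : EtDesc.IsUnivSubmersive (Spec.map (CommRingCat.ofHom ιY)) := by
      haveI : IsIntegralHom (Spec.map (CommRingCat.ofHom ιY)) := IsIntegralHom.SpecMap_iff.2 hiY
      haveI : Surjective (Spec.map (CommRingCat.ofHom ιY)) := ⟨hbY.2⟩
      exact isUnivSubmersive_of_integral _
    have ha : EtDesc.IsUnivSubmersive (Spec.map (CommRingCat.ofHom (algebraMap Y X))) := by
      haveI : Flat (Spec.map (CommRingCat.ofHom (algebraMap Y X))) :=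
        HasRingHomProperty.Spec_iff.2 (RingHom.flat_algebraMap_iff.2 inferInstance)
      haveI : Surjective (Spec.map (CommRingCat.ofHom (algebraMap Y X))) := ⟨PrimeSpectrum.comap_surjective_of_faithfullyFlat⟩
      exact isUnivSubmersive_of_flat _
    have h := isUnivSubmersive_comp _ _ ha hb
    rw [← Spec.map_comp, ← CommRingCat.ofHom_comp, hsq', CommRingCat.ofHom_comp, Spec.map_comp] at h
    exact isUnivSubmersive_of_comp _ _ h
  · obtain ⟨ψ, rfl⟩ := Spec.map_surjective s
    algebraize [ψ.hom]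
    obtain ⟨j, hj⟩ := exists_ext hR (K := K) (((algebraMap RY Ω).comp (algebraMap R' RY)).comp (algebraMap R R'))
    obtain ⟨gR, hgR, -⟩ := ext_base R' Ω ((algebraMap RY Ω).comp (algebraMap R' RY)) j hj
    obtain ⟨gY, -, hgY⟩ := exists_pair gR (algebraMap RY Ω) (RingHom.congr_fun hgR)
    letI : Algebra Y Ω := gY.toAlgebra
    haveI := hconn Ω
    haveI : ConnectedSpace (PrimeSpectrum (Ω ⊗[RY] RX)) := by
      refine connected_descend ιY (algebraMap RX X) hsq' (fun L _ g π hgπ => ?_) Ω hgY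
      let gK : R'' →+* L := g.comp Algebra.TensorProduct.includeLeftRingHom
      have hgr : ∀ r, gK ((1 : K) ⊗ₜ[R] r) = π (algebraMap P RX ((1 : A) ⊗ₜ[R] r)) := fun r => by
        rw [hc, ← hgπ]
        exact congrArg g (Algebra.TensorProduct.tmul_one_eq_one_tmul r)
      obtain ⟨gM, hgM, hgMK⟩ := hextM L (π.comp (algebraMap P RX)) (gK.comp (algebraMap K R'')) fun r => by
        show gK (algebraMap R K r ⊗ₜ[R] (1 : R')) = π (algebraMap P RX (algebraMap R A r ⊗ₜ[R] (1 : R')))
        rw [Algebra.TensorProduct.tmul_one_eq_one_tmul, Algebra.TensorProduct.tmul_one_eq_one_tmul]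
        exact hgr _
      obtain ⟨gX, hgXM, hgX⟩ := exists_pair gM π (RingHom.congr_fun hgM)
      refine ⟨gX, RingHom.ext hgX, Algebra.TensorProduct.ringHom_ext ?_ (RingHom.ext fun y => ?_)⟩
      · refine Algebra.TensorProduct.ringHom_ext (RingHom.ext fun c => ?_) (RingHom.ext fun r => ?_)
        · refine (congrArg gX (hφR _)).trans ((hgXM _).trans (Eq.trans (congrArg gM ?_) (RingHom.congr_fun hgMK c)))
          exact (Algebra.TensorProduct.tmul_one_eq_one_tmul (R := K) c).symm
        · refine (congrArg gX (hφR _)).trans ((hgXM _).trans ((congrArg gM (hθR r).symm).trans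
            ((RingHom.congr_fun hgM _).trans (hgr r).symm)))
      · exact (congrArg gX (hφY y)).trans ((hgX _).trans (hgπ y).symm)
    haveI : ConnectedSpace (PrimeSpectrum (RX ⊗[RY] Ω)) :=
      (PrimeSpectrum.homeomorphOfRingEquiv (Algebra.TensorProduct.comm RY Ω RX).toRingEquiv).surjective.connectedSpace
        (PrimeSpectrum.homeomorphOfRingEquiv (Algebra.TensorProduct.comm RY Ω RX).toRingEquiv).continuous
    have φ' := Scheme.homeoOfIso (pullbackSpecIso RY RX Ω).symm
    haveI : ConnectedSpace ↥(Spec (CommRingCat.of (RX ⊗[RY] Ω))) := inferInstanceAs (ConnectedSpace (PrimeSpectrum (RX ⊗[RY] Ω)))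
    exact φ'.surjective.connectedSpace φ'.continuous

end Groth.Agent.HenselConn
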