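import Groth.Agent.HenselConn.Discrete
import Groth.Agent.HenselConn.Geom

/-!
# Universal local 0-acyclicity over discrete bases
-/

set_option autoImplicit false

universe u

open TensorProduct IsLocalRing AlgebraicGeometry CategoryTheory Limits

namespace Groth.Agent.HenselConn

attribute [local instance] IsAffineOpen.isOpenImmersion_fromSpec

variable {X Y X₁ Y₁ : Scheme.{u}}

theorem isLocalRing_of_subsingleton (R : Type u) [CommRing R] [Nontrivial R] [Subsingleton (PrimeSpectrum R)] :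
    ∃ _ : IsLocalRing R, maximalIdeal R ≤ nilradical R := by
  obtain ⟨m, hm⟩ := Ideal.exists_maximal R
  haveI : IsLocalRing R := IsLocalRing.of_unique_max_ideal ⟨m, hm, fun n hn =>
    congrArg PrimeSpectrum.asIdeal (Subsingleton.elim (⟨n, hn.isPrime⟩ : PrimeSpectrum R) ⟨m, hm.isPrime⟩)⟩
  refine ⟨‹_›, ?_⟩
  rw [nilradical_eq_sInf]
  exact le_sInf fun P hP => le_of_eq
    (congrArg PrimeSpectrum.asIdeal (Subsingleton.elim (closedPoint R) (⟨P, hP⟩ : PrimeSpectrum R)))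

/-- The map of strict localizations over a zero-dimensional base is 0-acyclic. -/
theorem isZeroAcyclic_zeroDim {R : Type u} [CommRing R] [IsLocalRing R] (hR : maximalIdeal R ≤ nilradical R)
    (A R' RY : Type u) [CommRing A] [Algebra R A] [CommRing R'] [Algebra R R']
    [CommRing RY] [Algebra R RY] [Algebra R' RY] [IsScalarTower R R' RY] [HenselianLocalRing RY]
    [IsSepClosed (ResidueField RY)]
    (RX : Type u) [CommRing RX] [IsLocalRing RX] [Algebra RY RX] [IsLocalHom (algebraMap RY RX)]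
    [Algebra (A ⊗[R] R') RX] [Module.Flat (A ⊗[R] R') RX]
    (hY : HasEtLift R' RY) (hX : HasEtLift (A ⊗[R] R') RX)
    (hc : ∀ r : R', algebraMap (A ⊗[R] R') RX ((1 : A) ⊗ₜ[R] r) = algebraMap RY RX (algebraMap R' RY r)) :
    EtAcyc.IsZeroAcyclic (Spec.map (CommRingCat.ofHom (algebraMap RY RX))) := by
  let k₀ := ResidueField R
  let K := perfectClosure k₀ (AlgebraicClosure k₀)
  letI : Algebra R K := ((algebraMap k₀ K).comp (algebraMap R k₀)).toAlgebra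
  haveI : IsScalarTower R k₀ K := IsScalarTower.of_algebraMap_eq' rfl
  exact isZeroAcyclic_zeroDim_aux hR (K := K) A R' RY RX hY hX hc

/-- The maps of strict localizations at a point over a zero-dimensional chart. -/
theorem isZeroAcyclic_at_zeroDim {g₁ : X₁ ⟶ Y₁} {x₁ : X₁} {R A : CommRingCat.{u}} [IsLocalRing R]
    (hR : maximalIdeal R ≤ nilradical R) (φ : R ⟶ A)
    {V₁ : Y₁.Opens} (hV₁ : IsAffineOpen V₁) (hy : g₁ x₁ ∈ V₁) {W : X₁.Opens} (hW : IsAffineOpen W) (hx : x₁ ∈ W)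
    (hle : W ≤ g₁ ⁻¹ᵁ V₁) (ψ : R ⟶ Γ(Y₁, V₁)) (χ : A ⟶ Γ(X₁, W)) (hpo : IsPushout φ ψ χ (g₁.appLE V₁ W hle))
    (RY RX : Type u) [CommRing RY] [CommRing RX] [IsLocalRing RY] [IsLocalRing RX]
    [Algebra (Y₁.presheaf.stalk (g₁ x₁)) RY] [IsLocalHom (algebraMap (Y₁.presheaf.stalk (g₁ x₁)) RY)]
    [Hensel.IsStrictHenselization (Y₁.presheaf.stalk (g₁ x₁)) RY]
    [Algebra (X₁.presheaf.stalk x₁) RX] [IsLocalHom (algebraMap (X₁.presheaf.stalk x₁) RX)]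
    [Hensel.IsStrictHenselization (X₁.presheaf.stalk x₁) RX]
    [Algebra RY RX] [IsLocalHom (algebraMap RY RX)]
    (hsq : (algebraMap RY RX).comp (algebraMap (Y₁.presheaf.stalk (g₁ x₁)) RY) =
      (algebraMap (X₁.presheaf.stalk x₁) RX).comp (g₁.stalkMap x₁).hom) :
    EtAcyc.IsZeroAcyclic (Spec.map (CommRingCat.ofHom (algebraMap RY RX))) := by
  letI : Algebra R A := φ.hom.toAlgebra
  letI : Algebra R Γ(Y₁, V₁) := ψ.hom.toAlgebra
  letI : Algebra A Γ(X₁, W) := χ.hom.toAlgebra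
  letI : Algebra Γ(Y₁, V₁) Γ(X₁, W) := (g₁.appLE V₁ W hle).hom.toAlgebra
  letI : Algebra R Γ(X₁, W) := (φ ≫ χ).hom.toAlgebra
  haveI : IsScalarTower R A Γ(X₁, W) := IsScalarTower.of_algebraMap_eq' rfl
  haveI : IsScalarTower R Γ(Y₁, V₁) Γ(X₁, W) := IsScalarTower.of_algebraMap_eq' (congrArg CommRingCat.Hom.hom hpo.w)
  haveI : Algebra.IsPushout R A Γ(Y₁, V₁) Γ(X₁, W) := CommRingCat.isPushout_iff_isPushout.1 hpo
  let e := Algebra.IsPushout.equiv R A Γ(Y₁, V₁) Γ(X₁, W)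
  haveI : HenselianLocalRing RY := Hensel.IsStrictHenselization.henselian (Y₁.presheaf.stalk (g₁ x₁))
  haveI : IsSepClosed (ResidueField RY) :=
    (Hensel.IsStrictHenselization.isSepClosure (R := Y₁.presheaf.stalk (g₁ x₁)) (S := RY)).sep_closed
  letI : Algebra Γ(Y₁, V₁) RY :=
    ((algebraMap (Y₁.presheaf.stalk (g₁ x₁)) RY).comp (Y₁.presheaf.germ V₁ (g₁ x₁) hy).hom).toAlgebra
  letI : Algebra R RY := ((algebraMap Γ(Y₁, V₁) RY).comp (algebraMap R Γ(Y₁, V₁))).toAlgebra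
  haveI : IsScalarTower R Γ(Y₁, V₁) RY := IsScalarTower.of_algebraMap_eq' rfl
  letI : Algebra (A ⊗[R] Γ(Y₁, V₁)) RX :=
    (((algebraMap (X₁.presheaf.stalk x₁) RX).comp (X₁.presheaf.germ W x₁ hx).hom).comp e.toAlgHom.toRingHom).toAlgebra
  obtain ⟨hX, hXf⟩ := hasEtLift_of_isAffineOpen hW hx RX (P := A ⊗[R] Γ(Y₁, V₁))
    e.toAlgHom.toRingHom e.bijective fun _ => rfl
  obtain ⟨hY, -⟩ := hasEtLift_of_isAffineOpen hV₁ hy RY (P := Γ(Y₁, V₁)) (RingHom.id _) Function.bijective_id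
    fun _ => rfl
  haveI := hXf
  refine isZeroAcyclic_zeroDim hR (R := R) A Γ(Y₁, V₁) RY RX hY hX fun r => ?_
  show algebraMap (X₁.presheaf.stalk x₁) RX (X₁.presheaf.germ W x₁ hx (e ((1 : A) ⊗ₜ r))) =
    algebraMap RY RX (algebraMap (Y₁.presheaf.stalk (g₁ x₁)) RY (Y₁.presheaf.germ V₁ (g₁ x₁) hy r))
  rw [Algebra.IsPushout.equiv_tmul, map_one, one_mul]
  refine Eq.trans ?_ (RingHom.congr_fun hsq _).symm
  refine congrArg (algebraMap (X₁.presheaf.stalk x₁) RX) ?_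
  show X₁.presheaf.germ W x₁ hx ((g₁.appLE V₁ W hle).hom r) = g₁.stalkMap x₁ (Y₁.presheaf.germ V₁ (g₁ x₁) hy r)
  rw [Scheme.Hom.germ_stalkMap_apply]
  exact X₁.presheaf.germ_res_apply (homOfLE hle) x₁ hx (g₁.app V₁ r)

/-- Morphisms to discrete schemes are universally locally 0-acyclic. -/
theorem isULocZeroAcyclic_of_discrete (g : X ⟶ Y) [DiscreteTopology Y] : EtAcyc.IsULocZeroAcyclic g := by
  intro X₁ Y₁ g₁ b' b H x₁ RY RX _ _ _ _ _ _ _ _ _ _ _ _ hsq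
  let y := g (b' x₁)
  obtain ⟨_, ⟨V, hV, rfl⟩, hyV, hVy⟩ :=
    Y.isBasis_affineOpens.exists_subset_of_mem_open (Set.mem_singleton y) (isOpen_discrete {y})
  replace hV : IsAffineOpen V := hV
  haveI : Subsingleton (PrimeSpectrum Γ(Y, V)) := ⟨fun p q => hV.fromSpec.isOpenEmbedding.injective (by
    have h : ∀ r : PrimeSpectrum Γ(Y, V), hV.fromSpec r = y := fun r =>
      hVy (hV.range_fromSpec.le ⟨r, rfl⟩)
    rw [h, h])⟩
  haveI : Nontrivial Γ(Y, V) := by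
    by_contra hn
    rw [not_nontrivial_iff_subsingleton] at hn
    exact IsEmpty.false (hV.primeIdealOf ⟨y, hyV⟩ : PrimeSpectrum Γ(Y, V))
  obtain ⟨_, hR⟩ := isLocalRing_of_subsingleton Γ(Y, V)
  obtain ⟨_, ⟨U, hU, rfl⟩, hxU, hUV⟩ :=
    X.isBasis_affineOpens.exists_subset_of_mem_open (show b' x₁ ∈ g ⁻¹ᵁ V from hyV) (g ⁻¹ᵁ V).2
  replace hUV : U ≤ g ⁻¹ᵁ V := hUV
  replace hU : IsAffineOpen U := hU
  have hbV : g₁ x₁ ∈ b ⁻¹ᵁ V := by
    show b (g₁ x₁) ∈ V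
    rw [← Scheme.Hom.comp_apply, ← H.w, Scheme.Hom.comp_apply]
    exact hyV
  obtain ⟨_, ⟨V₁, hV₁, rfl⟩, hy₁V, hV₁V⟩ :=
    Y₁.isBasis_affineOpens.exists_subset_of_mem_open hbV (b ⁻¹ᵁ V).2
  replace hV₁V : V₁ ≤ b ⁻¹ᵁ V := hV₁V
  replace hV₁ : IsAffineOpen V₁ := hV₁
  haveI : IsAffine _ := hV
  haveI : IsAffine _ := hU
  haveI : IsAffine _ := hV₁
  let W : X₁.Opens := b' ⁻¹ᵁ U ⊓ g₁ ⁻¹ᵁ V₁
  have hW : IsAffineOpen W := .of_isIso (Scheme.Hom.isPullback_resLE H hV₁V hUV rfl).isoPullback.hom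
  haveI := isIso_pushoutSection_of_isAffineOpen H hV₁V hUV (UY := W) rfl hV hV₁ hU
  exact isZeroAcyclic_at_zeroDim hR (g.appLE V U hUV) hV₁ hy₁V hW ⟨hxU, hy₁V⟩ inf_le_right
    (b.appLE V V₁ hV₁V) (b'.appLE U W inf_le_left) ((isIso_pushoutSection_iff H hV₁V hUV rfl).1 inferInstance) RY RX hsq

end Groth.Agent.HenselConn
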