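import Groth.Agent.BigSiteLib.EtDescSec.Criterion
import Groth.Agent.HenselConn.StrictPoint

/-!
# Descent data along maps with connected geometric fibres
-/

set_option autoImplicit false

universe u

open CategoryTheory CategoryTheory.Limits AlgebraicGeometry Opposite TopologicalSpace IsLocalRing
open Groth.Agent.BigSiteLib.DescSec

namespace Groth.Agent.HenselConn

set_option backward.isDefEq.respectTransparency.types false

/-- Geometric points of etale schemes descend along extensions of separably closed fields. -/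
theorem exists_point_descend {X : Scheme.{u}} (U : X.Etale) {Ω Ω₁ : Type u} [Field Ω] [IsSepClosed Ω] [Field Ω₁]
    (j : Spec (CommRingCat.of Ω₁) ⟶ Spec (CommRingCat.of Ω)) (ξ : Spec (CommRingCat.of Ω) ⟶ X)
    (l₁ : Spec (CommRingCat.of Ω₁) ⟶ U.left) (h : l₁ ≫ U.hom = j ≫ ξ) :
    ∃ t : Spec (CommRingCat.of Ω) ⟶ U.left, t ≫ U.hom = ξ ∧ j ≫ t = l₁ := by
  haveI : Etale U.hom := U.prop
  haveI : Etale (pullback.snd U.hom ξ) := MorphismProperty.pullback_snd _ _ inferInstance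
  let l : Spec (CommRingCat.of Ω₁) ⟶ pullback U.hom ξ := pullback.lift l₁ j h
  obtain ⟨v, hv, hvw⟩ := Scheme.exists_fac_of_etale_of_isSepClosed (pullback.snd U.hom ξ) (𝟙 _)
    (l (closedPoint Ω₁)) (Subsingleton.elim _ _)
  haveI : IsOpenImmersion v := EtFound.isOpenImmersion_section _ v hv
  obtain ⟨k, hk⟩ := exists_factor v l ⟨_, hvw⟩
  have hkj : k = j := by
    rw [← pullback.lift_snd l₁ j h]
    exact ((congrArg (· ≫ pullback.snd U.hom ξ) hk).symm.trans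
      ((Category.assoc _ _ _).trans ((congrArg (k ≫ ·) hv).trans (Category.comp_id _)))).symm
  refine ⟨v ≫ pullback.fst U.hom ξ, ?_, ?_⟩
  · rw [Category.assoc, pullback.condition, ← Category.assoc, hv, Category.id_comp]
  · rw [← hkj, ← Category.assoc, hk, pullback.lift_fst]

variable {X' X : Scheme.{u}} {f : X' ⟶ X} {F' : EtDesc.Sh X'}
  (φ : (EtDesc.pullSh (pullback.fst f f)).obj F' ≅ (EtDesc.pullSh (pullback.snd f f)).obj F')
  (hφ : EtDesc.IsCocycle F' φ) {S S' : Scheme.{u}} (π : S ⟶ X) (h : S' ⟶ S)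
  (hc : ∀ (Ω : Type u) [Field Ω] [IsAlgClosed Ω] (s : Spec (CommRingCat.of Ω) ⟶ S), ConnectedSpace ↥(pullback h s))
  {U : X'.Etale} (s₀ : ToType (F'.obj.obj (op U))) (u : S' ⟶ U.left) (hu : (u ≫ U.hom) ≫ f = h ≫ π)

local notation "pb" => IsPullback.of_hasPullback f f

include hu in
omit hc in
theorem comp_over {Ω : Type u} [Field Ω] {ω₁ ω₂ : Spec (CommRingCat.of Ω) ⟶ S'} (e : ω₁ ≫ h = ω₂ ≫ h) :
    ((ω₁ ≫ u) ≫ U.hom) ≫ f = ((ω₂ ≫ u) ≫ U.hom) ≫ f := by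
  have : ∀ ω : Spec (CommRingCat.of Ω) ⟶ S', ((ω ≫ u) ≫ U.hom) ≫ f = (ω ≫ h) ≫ π := fun ω =>
    (congrArg (· ≫ f) (Category.assoc _ _ _)).trans ((Category.assoc _ _ _).trans ((congrArg (ω ≫ ·) hu).trans (Category.assoc _ _ _).symm))
  rw [this, this, e]

include hφ hc hu in
theorem rel_fibre {Ω : Type u} [Field Ω] [IsAlgClosed Ω] (κ : Spec (CommRingCat.of Ω) ⟶ S')
    (ω : Spec (CommRingCat.of Ω) ⟶ S') (e : ω ≫ h = κ ≫ h) : Rel φ s₀ (κ ≫ u) s₀ (ω ≫ u) := by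
  haveI := hc Ω (κ ≫ h)
  let P := pullback h (κ ≫ h)
  let pr₁ : P ⟶ S' := pullback.fst _ _
  let pr₂ : P ⟶ Spec (CommRingCat.of Ω) := pullback.snd _ _
  have hP : pr₁ ≫ h = (pr₂ ≫ κ) ≫ h := pullback.condition.trans (Category.assoc _ _ _).symm
  obtain ⟨E₀, hE₀⟩ := exists_relOpen f φ s₀ s₀ ((pr₂ ≫ κ) ≫ u) (pr₁ ≫ u) (by
    have hh : ∀ a : P ⟶ S', ((a ≫ u) ≫ U.hom) ≫ f = (a ≫ h) ≫ π := fun a =>
      (congrArg (· ≫ f) (Category.assoc _ _ _)).trans ((Category.assoc _ _ _).trans ((congrArg (a ≫ ·) hu).trans (Category.assoc _ _ _).symm))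
    rw [hh, hh, hP])
  suffices hall : (E₀ : Set P) = Set.univ by
    let τ : Spec (CommRingCat.of Ω) ⟶ P := pullback.lift ω (𝟙 _) (e.trans (Category.id_comp _).symm)
    have := (hE₀ Ω τ).1 (show τ.base default ∈ (E₀ : Set P) from hall.symm ▸ Set.mem_univ _)
    have e₁ : τ ≫ (pr₂ ≫ κ) ≫ u = κ ≫ u := by
      rw [← Category.assoc, ← Category.assoc]
      exact congrArg (· ≫ u) ((congrArg (· ≫ κ) (pullback.lift_snd _ _ _)).trans (Category.id_comp _))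
    have e₂ : τ ≫ pr₁ ≫ u = ω ≫ u :=
      (Category.assoc _ _ _).symm.trans (congrArg (· ≫ u) (pullback.lift_fst _ _ _))
    rwa [e₁, e₂] at this
  refine IsClopen.eq_univ ⟨?_, E₀.2⟩ ?_
  · rw [← isOpen_compl_iff]
    refine isOpen_iff_forall_mem_open.2 fun p hp => ?_
    obtain ⟨Ω₁, _, _, τ₁, hτ₁⟩ := exists_geometric p
    let k₁ := τ₁ ≫ pr₁ ≫ u
    let k₀ := τ₁ ≫ (pr₂ ≫ κ) ≫ u
    have hk : (k₁ ≫ U.hom) ≫ f = (k₀ ≫ U.hom) ≫ f := by
      have := comp_over π h u hu (ω₁ := τ₁ ≫ pr₁) (ω₂ := τ₁ ≫ pr₂ ≫ κ)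
        (by rw [Category.assoc, hP, ← Category.assoc])
      simpa only [k₁, k₀, Category.assoc] using this
    obtain ⟨U₁, t₁, x₁, hx₁⟩ := germ_surjective F' (k₀ ≫ U.hom)
      (Phi φ.hom pb (k₁ ≫ U.hom) (k₀ ≫ U.hom) hk (germ F' _ U (ptMk k₁ rfl) s₀))
    have hR₁ : Rel φ s₀ k₁ x₁ (t₁.left : Spec (CommRingCat.of Ω₁) ⟶ U₁.left) :=
      (rel_iff φ (ptMk k₁ rfl) t₁ rfl rfl hk).2 hx₁.symm
    obtain ⟨t, ht, htj⟩ := exists_point_descend U₁ (τ₁ ≫ pr₂) ((κ ≫ u) ≫ U.hom) t₁.left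
      ((CategoryTheory.Over.w t₁).trans (by show k₀ ≫ U.hom = _; simp only [k₀, Category.assoc]))
    rw [← htj] at hR₁
    obtain ⟨A, hA⟩ := exists_relOpen f φ s₀ x₁ (pr₁ ≫ u) (pr₂ ≫ t) (by
      have hh : ((pr₁ ≫ u) ≫ U.hom) ≫ f = (pr₁ ≫ h) ≫ π :=
        (congrArg (· ≫ f) (Category.assoc _ _ _)).trans ((Category.assoc _ _ _).trans ((congrArg (pr₁ ≫ ·) hu).trans (Category.assoc _ _ _).symm))
      rw [hh, hP, Category.assoc pr₂ t U₁.hom, ht]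
      simp only [Category.assoc] at hu ⊢
      rw [hu])
    obtain ⟨E₁, hE₁⟩ := exists_relOpen f φ x₁ s₀ t (κ ≫ u) (congrArg (· ≫ f) ht)
    refine ⟨A, fun q hq hqE => hp ?_, A.2, hτ₁ ▸ (hA Ω₁ τ₁).2 (by simpa only [k₁, Category.assoc] using hR₁)⟩
    obtain ⟨Ω₂, _, _, τ₂, hτ₂⟩ := exists_geometric q
    have RA := (hA Ω₂ τ₂).1 (hτ₂.symm ▸ hq)
    have RE := ((hE₀ Ω₂ τ₂).1 (hτ₂.symm ▸ hqE)).symm hφ
    have R₂ := (RA.symm hφ).trans hφ RE
    simp only [← Category.assoc] at R₂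
    have hmem : (τ₂ ≫ pr₂).base default ∈ E₁ := (hE₁ Ω₂ (τ₂ ≫ pr₂)).2 (by simpa only [Category.assoc] using R₂)
    have R₃ := (hE₁ Ω₁ (τ₁ ≫ pr₂)).1 (Subsingleton.elim ((τ₂ ≫ pr₂).base default) ((τ₁ ≫ pr₂).base default) ▸ hmem)
    rw [← hτ₁]
    refine (hE₀ Ω₁ τ₁).2 (Rel.symm hφ ?_)
    have := hR₁.trans hφ R₃
    simpa only [k₁, Category.assoc] using this
  · let δ : Spec (CommRingCat.of Ω) ⟶ P := pullback.lift κ (𝟙 _) (Category.id_comp _).symm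
    refine ⟨δ.base default, (hE₀ Ω δ).2 ?_⟩
    have e₁ : δ ≫ (pr₂ ≫ κ) ≫ u = κ ≫ u := by
      rw [← Category.assoc, ← Category.assoc]
      exact congrArg (· ≫ u) ((congrArg (· ≫ κ) (pullback.lift_snd _ _ _)).trans (Category.id_comp _))
    have e₂ : δ ≫ pr₁ ≫ u = κ ≫ u :=
      (Category.assoc _ _ _).symm.trans (congrArg (· ≫ u) (pullback.lift_fst _ _ _))
    rw [e₁, e₂]
    exact (rel_self φ hφ (ptMk (κ ≫ u) rfl) (ptMk (κ ≫ u) rfl) rfl rfl).2 rfl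

include hφ hc hu in
/-- A germ on a strict localization is compatible with itself along the fibre product. -/
theorem rel_of_connected {Ω : Type u} [Field Ω] [IsSepClosed Ω] (ω₁ ω₂ : Spec (CommRingCat.of Ω) ⟶ S')
    (e : ω₁ ≫ h = ω₂ ≫ h) : Rel φ s₀ (ω₁ ≫ u) s₀ (ω₂ ≫ u) := by
  let Q := pullback h h
  obtain ⟨E, hE⟩ := exists_relOpen f φ s₀ s₀ (pullback.fst h h ≫ u) (pullback.snd h h ≫ u) (by
    simp only [Category.assoc] at hu ⊢
    rw [hu, ← Category.assoc, pullback.condition, Category.assoc])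
  let τ : Spec (CommRingCat.of Ω) ⟶ Q := pullback.lift ω₁ ω₂ e
  obtain ⟨Ω', _, _, τ', hτ'⟩ := exists_geometric (τ.base (default : Spec (CommRingCat.of Ω)))
  have hR := rel_fibre φ hφ π h hc s₀ u hu (τ' ≫ pullback.fst h h) (τ' ≫ pullback.snd h h)
    (by rw [Category.assoc, Category.assoc, pullback.condition])
  have := (hE Ω τ).1 (hτ' ▸ (hE Ω' τ').2 (by simpa only [Category.assoc] using hR))
  have e₁ : τ ≫ pullback.fst h h ≫ u = ω₁ ≫ u :=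
    (Category.assoc _ _ _).symm.trans (congrArg (· ≫ u) (pullback.lift_fst _ _ _))
  have e₂ : τ ≫ pullback.snd h h ≫ u = ω₂ ≫ u :=
    (Category.assoc _ _ _).symm.trans (congrArg (· ≫ u) (pullback.lift_snd _ _ _))
  rwa [e₁, e₂] at this

end Groth.Agent.HenselConn
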