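import Groth.Agent.HenselConn.Glue
import Groth.Agent.HenselConn.RelConn
import Groth.Agent.HenselConn.BaseChange

/-!
# Effective descent along universally locally 0-acyclic surjections
-/

set_option autoImplicit false

universe u

open CategoryTheory CategoryTheory.Limits AlgebraicGeometry Opposite TopologicalSpace IsLocalRing
open Groth.Agent.BigSiteLib.DescSec

namespace Groth.Agent.HenselConn

set_option backward.isDefEq.respectTransparency.types false

/-- Geometric points factor through the strict localization. -/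
theorem exists_point_strict {X : Scheme.{u}} {Ω : Type u} [Field Ω] [IsSepClosed Ω] (x : X) (RX : Type u) [CommRing RX]
    [IsLocalRing RX] [Algebra (X.presheaf.stalk x) RX] [IsLocalHom (algebraMap (X.presheaf.stalk x) RX)]
    [Hensel.IsStrictHenselization (X.presheaf.stalk x) RX]
    (ξ₀ : Spec (CommRingCat.of Ω) ⟶ X) (hx : ξ₀ (closedPoint Ω) = x) :
    ∃ ψ : RX →+* Ω, IsLocalHom ψ ∧ Spec.map (CommRingCat.ofHom ψ) ≫ Hens2.specOf X x RX = ξ₀ := by
  subst hx
  let O := X.presheaf.stalk (ξ₀ (closedPoint Ω))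
  let a : O →+* Ω := (Scheme.stalkClosedPointTo ξ₀).hom
  haveI : IsLocalHom a := inferInstanceAs (IsLocalHom (Scheme.stalkClosedPointTo ξ₀).hom)
  haveI : Algebra.IsSeparable (ResidueField O) (ResidueField RX) :=
    (Hensel.IsStrictHenselization.isSepClosure (R := O) (S := RX)).separable
  letI : Algebra (ResidueField O) Ω := (ResidueField.lift a).toAlgebra
  let τa : ResidueField RX →ₐ[ResidueField O] Ω := IsSepClosed.lift
  let ψ : RX →+* Ω := τa.toRingHom.comp (residue RX)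
  haveI : IsLocalHom τa.toRingHom := ⟨fun r hr => IsUnit.mk0 r fun h => hr.ne_zero (by rw [h, map_zero])⟩
  refine ⟨ψ, RingHom.isLocalHom_comp _ _, ?_⟩
  have hψ : CommRingCat.ofHom (algebraMap O RX) ≫ CommRingCat.ofHom ψ = Scheme.stalkClosedPointTo ξ₀ := by
    refine CommRingCat.hom_ext (RingHom.ext fun r => ?_)
    exact (τa.commutes (residue O r)).trans rfl
  show Spec.map (CommRingCat.ofHom ψ) ≫ Spec.map (CommRingCat.ofHom (algebraMap O RX)) ≫ X.fromSpecStalk _ = ξ₀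
  rw [← Category.assoc, ← Spec.map_comp]
  exact (congrArg (fun k => Spec.map k ≫ X.fromSpecStalk (ξ₀ (closedPoint Ω))) hψ).trans
    (Scheme.Spec_stalkClosedPointTo_fromSpecStalk _)

/-- Descent data along universally locally 0-acyclic flat surjections are effective. -/
theorem isEffective_of_uloc {X' X : Scheme.{u}} (f : X' ⟶ X) [Flat f] [Surjective f]
    (hg : EtAcyc.IsULocZeroAcyclic f) (hq : QuasiCompact f ∨ UniversallyOpen f) (F' : EtDesc.Sh X')
    (φ : (EtDesc.pullSh (pullback.fst f f)).obj F' ≅ (EtDesc.pullSh (pullback.snd f f)).obj F')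
    (hφ : EtDesc.IsCocycle F' φ) : EtDesc.IsEffective f F' φ := by
  have hf : EtDesc.IsUnivSubmersive f := by
    rcases hq with h | h
    · exact Groth.Agent.HenselConn.isUnivSubmersive_of_flat f
    · exact Groth.Agent.BigSiteLib.DescSec.isUnivSubmersive_of_open f
  refine isEffective_of_lift φ hφ hf fun Ω _ _ ξ₀ c₀ => ?_
  obtain ⟨x', hx'⟩ : ∃ x', ξ₀ (closedPoint Ω) = x' := ⟨_, rfl⟩
  obtain ⟨φr, hl, hπ, hUS, hc⟩ := exists_strict_map f hg x'
  obtain ⟨ψ, hψl, hψ⟩ := exists_point_strict x' (Hensel.StrictHenz (X'.presheaf.stalk x')) ξ₀ hx'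
  obtain ⟨U, t, s₀, hs₀⟩ := germ_surjective F' ξ₀ c₀
  haveI := hψl
  obtain ⟨ρ, hρ⟩ := exists_lift_comp x' (Hensel.StrictHenz (X'.presheaf.stalk x')) ψ U
    (t.left : Spec (CommRingCat.of Ω) ⟶ U.left) ((CategoryTheory.Over.w t).trans hψ.symm)
  haveI := flat_specOf (f x') (Hensel.StrictHenz (X.presheaf.stalk (f x')))
  have hu : (ρ.1 ≫ U.hom) ≫ f = Spec.map (CommRingCat.ofHom φr) ≫
      Hens2.specOf X (f x') (Hensel.StrictHenz (X.presheaf.stalk (f x'))) := (congrArg (· ≫ f) ρ.2).trans hπ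
  have hξ : (Spec.map (CommRingCat.ofHom ψ) ≫ ρ.1) ≫ U.hom = ξ₀ :=
    (congrArg (· ≫ U.hom) hρ).trans (CategoryTheory.Over.w t)
  have hm : ∀ (Ω : Type u) [Field Ω] [IsSepClosed Ω] (ω₁ ω₂ : Spec (CommRingCat.of Ω) ⟶ _),
      ω₁ ≫ Spec.map (CommRingCat.ofHom φr) = ω₂ ≫ Spec.map (CommRingCat.ofHom φr) →
      Rel φ s₀ (ω₁ ≫ ρ.1) s₀ (ω₂ ≫ ρ.1) := fun Ω _ _ ω₁ ω₂ e =>
    rel_of_connected φ hφ _ _ hc s₀ ρ.1 hu ω₁ ω₂ e
  have hlift : HasLift φ s₀ ρ.1 (Spec.map (CommRingCat.ofHom ψ)) hξ := by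
    rcases hq with h | h
    · exact hasLift_qc φ hφ _ _ hUS s₀ ρ.1 hu hm _ hξ (hasBasis_specOf _ _)
    · exact hasLift_open φ hφ _ _ hUS s₀ ρ.1 hu hm _ hξ (hasBasis_specOf _ _)
  obtain ⟨V, v, s, hs, hg'⟩ := hlift
  refine ⟨V, v, s, hs, hg'.trans ?_⟩
  rw [← hs₀]
  exact congrArg (fun k => germ F' ξ₀ U k s₀) (fib_ext hρ)

end Groth.Agent.HenselConn
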