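import Groth.Agent.HenselConn.EtRes
import Groth.Agent.HenselConn.BaseChange
import Groth.Agent.HenselConn.StrictPoint
import Mathlib.AlgebraicGeometry.Geometrically.Connected

/-!
# Base change of direct images along flat maps with connected fibres, etale locally
-/

set_option autoImplicit false

universe u

open CategoryTheory CategoryTheory.Limits AlgebraicGeometry Opposite TopologicalSpace
open Groth.Agent.BigSiteLib.DescSec

namespace Groth.Agent.HenselConn

set_option backward.isDefEq.respectTransparency.types false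

variable {X Y X' Y' : Scheme.{u}} (f : X ⟶ Y) (g : Y' ⟶ Y) (f' : X' ⟶ Y') (g' : X' ⟶ X) (H : IsPullback g' f' f g)
  (F : EtDesc.Sh X)

/-- An etale piece with a quasi-compact geometrically connected map to an etale scheme over the base. -/
def Good (Z : Y'.Etale) : Prop :=
  ∃ (V : Y.Etale) (a : Z.left ⟶ V.left), a ≫ V.hom = Z.hom ≫ g ∧ QuasiCompact a ∧ GeometricallyConnected a

theorem flat_piece [Flat g] {Z : Y'.Etale} {V : Y.Etale} (a : Z.left ⟶ V.left) (ha : a ≫ V.hom = Z.hom ≫ g) :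
    Flat a := by
  haveI : Etale Z.hom := Z.prop
  haveI : Flat (Z.hom ≫ g) := MorphismProperty.comp_mem (W := @Flat) _ _ inferInstance ‹_›
  exact flat_lift (Z.hom ≫ g) ⟨a, ha⟩

/-- Morphisms from good pieces to separated etale schemes have open image. -/
theorem isOpen_range_of_good [Flat g] {Z : Y'.Etale} (hZ : Good g Z) {V : Y.Etale} [IsSeparated V.hom]
    (m : Z.left ⟶ V.left) (hm : m ≫ V.hom = Z.hom ≫ g) : IsOpen (Set.range m) := by
  obtain ⟨V', a, ha, hqc, hgc⟩ := hZ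
  haveI := flat_piece g a ha
  haveI : Etale V.hom := V.prop
  haveI : Etale V'.hom := V'.prop
  have hS : Surjective a := inferInstance
  have hUS : EtDesc.IsUnivSubmersive a := isUnivSubmersive_of_flat a
  let p₁ : pullback V'.hom V.hom ⟶ V'.left := pullback.fst _ _
  haveI : Etale p₁ := MorphismProperty.pullback_fst _ _ inferInstance
  haveI : IsSeparated p₁ := MorphismProperty.pullback_fst _ _ inferInstance
  haveI : Etale (pullback.snd V'.hom V.hom) := MorphismProperty.pullback_snd _ _ inferInstance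
  let b : Z.left ⟶ pullback V'.hom V.hom := pullback.lift a m (ha.trans hm.symm)
  have hb : b ≫ p₁ = 𝟙 _ ≫ a := (pullback.lift_fst _ _ _).trans (Category.id_comp _).symm
  let Γ₁ : Z.left ⟶ pullback p₁ a := pullback.lift b (𝟙 _) hb
  let pA : pullback p₁ a ⟶ pullback V'.hom V.hom := pullback.fst _ _
  haveI : Etale (pullback.snd p₁ a) := MorphismProperty.pullback_snd _ _ inferInstance
  haveI : IsSeparated (pullback.snd p₁ a) := MorphismProperty.pullback_snd _ _ inferInstance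
  have hsec : Γ₁ ≫ pullback.snd p₁ a = 𝟙 _ := pullback.lift_snd _ _ _
  haveI : IsOpenImmersion Γ₁ := EtFound.isOpenImmersion_section _ Γ₁ hsec
  haveI : IsClosedImmersion (Γ₁ ≫ pullback.snd p₁ a) := by rw [hsec]; infer_instance
  haveI : IsClosedImmersion Γ₁ := IsClosedImmersion.of_comp Γ₁ (pullback.snd p₁ a)
  have hclopen : IsClopen (Set.range Γ₁) :=
    ⟨Γ₁.isClosedEmbedding.isClosed_range, Γ₁.isOpenEmbedding.isOpen_range⟩
  haveI : GeometricallyConnected pA := MorphismProperty.pullback_fst _ _ hgc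
  have hpre : pA ⁻¹' (pA '' Set.range Γ₁) = Set.range Γ₁ := by
    refine Set.Subset.antisymm ?_ (Set.subset_preimage_image _ _)
    rintro r ⟨r₁, hr₁, e⟩
    exact (pA.isConnected_preimage_singleton (pA r)).isPreconnected.subset_isClopen hclopen
      ⟨r₁, show pA r₁ = pA r from e, hr₁⟩ (show r ∈ pA ⁻¹' {pA r} from rfl)
  have hopen : IsOpen (pA '' Set.range Γ₁) := by
    refine (fst_surjective_isQuotientMap a hUS p₁).2.isOpen_preimage.1 ?_
    show IsOpen (pA ⁻¹' (pA '' Set.range Γ₁))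
    rw [hpre]
    exact hclopen.isOpen
  have hrange : Set.range m = pullback.snd V'.hom V.hom '' (pA '' Set.range Γ₁) := by
    ext v
    have hmz : ∀ z, pullback.snd V'.hom V.hom (pA (Γ₁ z)) = m z := fun z => by
      rw [← Scheme.Hom.comp_apply, ← Scheme.Hom.comp_apply]
      exact congrArg (fun k : Z.left ⟶ V.left => k z) ((Category.assoc _ _ _).symm.trans
        ((congrArg (· ≫ pullback.snd V'.hom V.hom) (pullback.lift_fst b (𝟙 _) hb)).trans
          (pullback.lift_snd a m (ha.trans hm.symm))))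
    constructor
    · rintro ⟨z, rfl⟩
      exact ⟨_, ⟨_, ⟨z, rfl⟩, rfl⟩, hmz z⟩
    · rintro ⟨_, ⟨_, ⟨z, rfl⟩, rfl⟩, rfl⟩
      exact ⟨z, (hmz z).symm⟩
  rw [hrange]
  exact (Scheme.Hom.isOpenMap _) _ hopen

/-- The map on the fibre products induced by a piece. -/
noncomputable def qMap {V : Y.Etale} {Z : Y'.Etale} (c : Z ⟶ (EtCoh.bc g).obj V) :
    ((EtCoh.bc f').obj Z).left ⟶ ((EtCoh.bc f).obj V).left :=
  ((EtCoh.bc f').map c ≫ EtFound.bcSquare H.w V).left ≫ pullback.fst ((EtCoh.bc f).obj V).hom g'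

theorem qMap_snd {V : Y.Etale} {Z : Y'.Etale} (c : Z ⟶ (EtCoh.bc g).obj V) :
    qMap f g f' g' H c ≫ pullback.snd V.hom f = pullback.snd Z.hom f' ≫ g' := by
  refine (Category.assoc _ _ _).trans ?_
  refine (congrArg (_ ≫ ·) (pullback.condition (f := ((EtCoh.bc f).obj V).hom) (g := g'))).trans ?_
  exact (Category.assoc _ _ _).symm.trans (congrArg (· ≫ g') (MorphismProperty.Over.w ((EtCoh.bc f').map c ≫ EtFound.bcSquare H.w V)))

theorem qMap_fst {V : Y.Etale} {Z : Y'.Etale} (c : Z ⟶ (EtCoh.bc g).obj V) :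
    qMap f g f' g' H c ≫ pullback.fst V.hom f = pullback.fst Z.hom f' ≫ c.left ≫ pullback.fst V.hom g := by
  refine (Category.assoc _ _ _).trans ?_
  refine (Category.assoc _ _ _).trans ?_
  refine (congrArg (((EtCoh.bc f').map c).left ≫ ·) (EtFound.bcSquare_fst H.w V)).trans ?_
  refine (Category.assoc _ _ _).symm.trans ?_
  exact (congrArg (· ≫ pullback.fst V.hom g) (EtCoh.isPullback_bc_map f' c).w).trans (Category.assoc _ _ _)

theorem isPullback_qMap {V : Y.Etale} {Z : Y'.Etale} (c : Z ⟶ (EtCoh.bc g).obj V) :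
    IsPullback (qMap f g f' g' H c) (pullback.fst Z.hom f') (pullback.fst V.hom f) (c.left ≫ pullback.fst V.hom g) := by
  refine IsPullback.of_right ?_ (qMap_fst f g f' g' H c) (IsPullback.of_hasPullback V.hom f).flip
  rw [qMap_snd]
  have e : (c.left ≫ pullback.fst V.hom g) ≫ V.hom = Z.hom ≫ g :=
    (Category.assoc _ _ _).trans ((congrArg (c.left ≫ ·) (pullback.condition (f := V.hom) (g := g))).trans
      ((Category.assoc _ _ _).symm.trans (congrArg (· ≫ g) (MorphismProperty.Over.w c))))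
  rw [e]
  exact (IsPullback.of_hasPullback Z.hom f').flip.paste_horiz H

include H in
theorem good_injective [Flat g] {Z : Y'.Etale} (hZ : Good g Z) {V : Y.Etale} [IsSeparated V.hom]
    (c : Z ⟶ (EtCoh.bc g).obj V) (a b : F.obj.obj (op ((EtCoh.bc f).obj V)))
    (e : trA f g f' g' H.w F c a = trA f g f' g' H.w F c b) :
    ((EtDesc.pullSh g).obj ((EtDesc.pushSh f).obj F)).obj.map c.op (up g ((EtDesc.pushSh f).obj F) V a) =
      ((EtDesc.pullSh g).obj ((EtDesc.pushSh f).obj F)).obj.map c.op (up g ((EtDesc.pushSh f).obj F) V b) := by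
  let m : Z.left ⟶ V.left := c.left ≫ pullback.fst V.hom g
  have hmV : m ≫ V.hom = Z.hom ≫ g :=
    (Category.assoc _ _ _).trans ((congrArg (c.left ≫ ·) (pullback.condition (f := V.hom) (g := g))).trans
      ((Category.assoc _ _ _).symm.trans (congrArg (· ≫ g) (MorphismProperty.Over.w c))))
  let O : V.left.Opens := ⟨Set.range m, isOpen_range_of_good g hZ m hmV⟩
  let j := EtFound.restrictEtaleHom V O
  let V₀ := EtFound.restrictEtale V O
  obtain ⟨m₀, hm₀⟩ := exists_lift_opens m O (fun z => ⟨z, rfl⟩)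
  let c₀ : Z ⟶ (EtCoh.bc g).obj V₀ := MorphismProperty.Over.homMk (pullback.lift m₀ Z.hom (by
    show m₀ ≫ O.ι ≫ V.hom = Z.hom ≫ g
    rw [← Category.assoc, hm₀]; exact hmV)) (pullback.lift_snd _ _ _)
  have hc₀ : c₀ ≫ (EtCoh.bc g).map j = c := by
    refine MorphismProperty.Over.Hom.ext (pullback.hom_ext ?_ ?_)
    · refine (Category.assoc _ _ _).trans ((congrArg (c₀.left ≫ ·) (EtCoh.isPullback_bc_map g j).w).trans ?_)
      exact (Category.assoc _ _ _).symm.trans ((congrArg (· ≫ j.left) (pullback.lift_fst _ _ _)).trans hm₀)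
    · exact (MorphismProperty.Over.w (c₀ ≫ (EtCoh.bc g).map j)).trans (MorphismProperty.Over.w c).symm
  have key : ((EtDesc.pushSh f).obj F).obj.map j.op a = ((EtDesc.pushSh f).obj F).obj.map j.op b := by
    refine eq_of_locEq F fun y => ?_
    show LocEq F.obj (F.obj.map ((EtCoh.bc f).map j).op a) (F.obj.map ((EtCoh.bc f).map j).op b) y
    refine LocEq.map _ ?_
    obtain ⟨z, hz⟩ : pullback.fst V.hom f (((EtCoh.bc f).map j).left y) ∈ Set.range m := by
      have e' := congrArg (fun k : ((EtCoh.bc f).obj V₀).left ⟶ V.left => k y) (EtCoh.isPullback_bc_map f j).w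
      exact (((Scheme.Hom.comp_apply _ _ _).symm.trans e').trans (Scheme.Hom.comp_apply _ _ _)) ▸ (pullback.fst V₀.hom f y).2
    obtain ⟨w, hw, -⟩ := Scheme.exists_preimage_of_isPullback (isPullback_qMap f g f' g' H c)
      (((EtCoh.bc f).map j).left y) z hz.symm
    rw [← hw, qMap, Scheme.Hom.comp_apply]
    refine locEq_of_up g' F (LocEq.of_map ((EtCoh.bc f').map c ≫ EtFound.bcSquare H.w V) ?_)
    exact (show ((EtDesc.pullSh g').obj F).obj.map ((EtCoh.bc f').map c ≫ EtFound.bcSquare H.w V).op (up g' F _ a) =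
      ((EtDesc.pullSh g').obj F).obj.map ((EtCoh.bc f').map c ≫ EtFound.bcSquare H.w V).op (up g' F _ b) from e) ▸
        LocEq.refl _ _
  rw [← hc₀, ← mapF, ← mapF, ← up_map, ← up_map, key]

omit H in
theorem surj_of_iso {T : Scheme.{u}} {A B : EtDesc.Sh T} (Φ : A ≅ B) {α : Type (u+1)}
    (sp : α → A.obj.obj (op (EtCoh.top T))) (hsp : Function.Surjective sp)
    (y : B.obj.obj (op (EtCoh.top T))) : ∃ σ, Φ.hom.hom.app (op (EtCoh.top T)) (sp σ) = y := by
  obtain ⟨σ, hσ⟩ := hsp (Φ.inv.hom.app (op (EtCoh.top T)) y)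
  exact ⟨σ, (congrArg (fun x => Φ.hom.hom.app (op (EtCoh.top T)) x) hσ).trans (app_inv_apply Φ.symm _ _)⟩

omit H in
theorem diag_compat {X X' : Scheme.{u}} (g' : X' ⟶ X) (F : EtDesc.Sh X) {P : X'.Etale} {Q : X.Etale}
    (q : P.left ⟶ Q.left) (k : P ⟶ (EtCoh.bc g').obj Q) (hk : k.left ≫ pullback.fst Q.hom g' = q)
    (hq : q ≫ Q.hom = P.hom ≫ g') (a : F.obj.obj (op Q)) :
    (EtDesc.pullVia q Q.hom (P.hom ≫ g') hq F ≪≫ (EtDesc.pullVia P.hom g' (P.hom ≫ g') rfl F).symm).hom.hom.app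
        (op (EtCoh.top P.left)) (EtDesc.secPull q _ (diagRes Q F a)) =
      diagRes P _ (((EtDesc.pullSh g').obj F).obj.map k.op (up g' F Q a)) := by
  unfold diagRes
  exact via_compat q Q.hom P.hom g' (P.hom ≫ g') hq rfl F (diagSec Q) k (diagSec P) (by
      refine Eq.trans (congrArg (q ≫ ·) (pullback.lift_fst _ _ _)) ?_
      refine Eq.trans (Category.comp_id _) ?_
      refine Eq.trans ?_ (congrArg (fun l : P.left ⟶ P.left => (l ≫ k.left) ≫ pullback.fst Q.hom g')
        (pullback.lift_fst _ _ _)).symm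
      exact ((congrArg (· ≫ pullback.fst Q.hom g') (Category.id_comp _)).trans hk).symm) a

omit H in
theorem exists_map_up_eq {X X' : Scheme.{u}} (g' : X' ⟶ X) (F : EtDesc.Sh X) {P : X'.Etale} {Q : X.Etale}
    (q : P.left ⟶ Q.left) (k : P ⟶ (EtCoh.bc g').obj Q) (hk : k.left ≫ pullback.fst Q.hom g' = q)
    (hq : q ≫ Q.hom = P.hom ≫ g')
    (hbij : Function.Bijective (EtDesc.secPull q ((EtDesc.pullSh Q.hom).obj F)))
    (t : ((EtDesc.pullSh g').obj F).obj.obj (op P)) :
    ∃ a, ((EtDesc.pullSh g').obj F).obj.map k.op (up g' F Q a) = t := by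
  obtain ⟨σ, hσ⟩ := surj_of_iso (EtDesc.pullVia q Q.hom (P.hom ≫ g') hq F ≪≫ (EtDesc.pullVia P.hom g' (P.hom ≫ g') rfl F).symm)
    (EtDesc.secPull q _) hbij.2 (diagRes P ((EtDesc.pullSh g').obj F) t)
  obtain ⟨a, rfl⟩ := diagRes_surjective Q F σ
  exact ⟨a, diagRes_injective P _ ((diag_compat g' F q k hk hq a).symm.trans hσ)⟩

include H in
theorem good_surjective [Flat g] {Z : Y'.Etale} {V : Y.Etale} (c : Z ⟶ (EtCoh.bc g).obj V)
    (hqc : QuasiCompact (c.left ≫ pullback.fst V.hom g)) (hgc : GeometricallyConnected (c.left ≫ pullback.fst V.hom g))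
    (t : ((EtDesc.pullSh g').obj F).obj.obj (op ((EtCoh.bc f').obj Z))) :
    ∃ a, trA f g f' g' H.w F c a = t := by
  let m : Z.left ⟶ V.left := c.left ≫ pullback.fst V.hom g
  have hmV : m ≫ V.hom = Z.hom ≫ g :=
    (Category.assoc _ _ _).trans ((congrArg (c.left ≫ ·) (pullback.condition (f := V.hom) (g := g))).trans
      ((Category.assoc _ _ _).symm.trans (congrArg (· ≫ g) (MorphismProperty.Over.w c))))
  haveI : Flat m := flat_piece g m hmV
  let Q := (EtCoh.bc f).obj V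
  let P := (EtCoh.bc f').obj Z
  let q : P.left ⟶ Q.left := qMap f g f' g' H c
  have hP := isPullback_qMap f g f' g' H c
  haveI : QuasiCompact q := MorphismProperty.of_isPullback (P := @QuasiCompact) hP.flip hqc
  haveI hq' : GeometricallyConnected q := MorphismProperty.of_isPullback (P := @GeometricallyConnected) hP.flip hgc
  haveI : Flat q := MorphismProperty.of_isPullback (P := @Flat) hP.flip ‹Flat m›
  have hUS : EtDesc.IsUnivSubmersive q := isUnivSubmersive_of_flat q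
  have hbij := secPull_bijective_of_connected q hUS (fun Ω _ _ s =>
    hq'.geometrically_connectedSpace _ _ _ (IsPullback.of_hasPullback q s)) ((EtDesc.pullSh Q.hom).obj F)
  exact exists_map_up_eq g' F q ((EtCoh.bc f').map c ≫ EtFound.bcSquare H.w V) rfl (qMap_snd f g f' g' H c) hbij t

/-- Open affine neighbourhoods are separated over the base. -/
theorem exists_separated_nhd {V : Y.Etale} (v : V.left) :
    ∃ O : V.left.Opens, v ∈ O ∧ IsSeparated (O.ι ≫ V.hom) := by
  obtain ⟨_, ⟨(Y₀ : Y.Opens), hY₀, rfl⟩, hy, -⟩ := Y.isBasis_affineOpens.exists_subset_of_mem_open (Set.mem_univ (V.hom v)) isOpen_univ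
  obtain ⟨_, ⟨(O : V.left.Opens), hO, rfl⟩, hv, hOY⟩ :=
    V.left.isBasis_affineOpens.exists_subset_of_mem_open (show v ∈ V.hom ⁻¹ᵁ Y₀ from hy) (V.hom ⁻¹ᵁ Y₀).2
  refine ⟨O, hv, ?_⟩
  rw [← Scheme.Hom.resLE_comp_ι V.hom (show O ≤ V.hom ⁻¹ᵁ Y₀ from hOY)]
  haveI : IsAffine O.toScheme := hO
  haveI : IsAffine Y₀.toScheme := hY₀
  infer_instance

include H in
/-- Base change of direct images along flat maps etale-locally of connected fibres. -/
theorem isIso_baseChange0Sh_of_good [Flat g]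
    (hgood : ∀ (W : Y'.Etale) (w : W.left), ∃ (Z : Y'.Etale) (k : Z ⟶ W), w ∈ Set.range k.left ∧ Good g Z) :
    IsIso (EtBC.baseChange0Sh f g f' g' H.w F) := by
  let G := (EtDesc.pushSh f).obj F
  refine isIso_of_local _ (fun W s₁ s₂ e w => ?_) (fun W t w => ?_)
  · obtain ⟨V₁, a₁, Z₁, c₁, k₁, z₁, hz₁, he₁⟩ := exists_up_eq_any g G W s₁ w
    obtain ⟨V₂, a₂, Z₂, c₂, k₂, z₂, hz₂, he₂⟩ :=
      exists_up_eq_any g G Z₁ (((EtDesc.pullSh g).obj G).obj.map k₁.op s₂) z₁
    haveI : Etale V₁.hom := V₁.prop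
    haveI : Etale V₂.hom := V₂.prop
    let V : Y.Etale := MorphismProperty.Over.mk ⊤ (pullback.fst V₁.hom V₂.hom ≫ V₁.hom) (by
      haveI : Etale (pullback.fst V₁.hom V₂.hom) := MorphismProperty.pullback_fst _ _ inferInstance
      exact inferInstanceAs (Etale (pullback.fst V₁.hom V₂.hom ≫ V₁.hom)))
    let m₁ : V ⟶ V₁ := MorphismProperty.Over.homMk (pullback.fst V₁.hom V₂.hom) rfl
    let m₂ : V ⟶ V₂ := MorphismProperty.Over.homMk (pullback.snd V₁.hom V₂.hom) pullback.condition.symm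
    obtain ⟨c, hc₁, hc₂⟩ := exists_pair_hom g m₁ m₂ (k₂ ≫ c₁) c₂ (IsPullback.of_hasPullback V₁.hom V₂.hom)
    have f₁ : ((EtDesc.pullSh g).obj G).obj.map c.op (up g G V (G.obj.map m₁.op a₁)) =
        ((EtDesc.pullSh g).obj G).obj.map (k₂ ≫ k₁).op s₁ := by
      rw [up_map, mapF, hc₁, ← mapF, he₁, mapF]
    have f₂ : ((EtDesc.pullSh g).obj G).obj.map c.op (up g G V (G.obj.map m₂.op a₂)) =
        ((EtDesc.pullSh g).obj G).obj.map (k₂ ≫ k₁).op s₂ := by
      rw [up_map, mapF, hc₂, he₂, mapF]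
    obtain ⟨O, hvO, hsep⟩ := exists_separated_nhd (V := V) ((c.left ≫ pullback.fst V.hom g) z₂)
    let V₀ := EtFound.restrictEtale V O
    haveI : IsSeparated V₀.hom := hsep
    let j := EtFound.restrictEtaleHom V O
    let Z₃ := EtFound.restrictEtale Z₂ ((c.left ≫ pullback.fst V.hom g) ⁻¹ᵁ O)
    let i₃ : Z₃ ⟶ Z₂ := EtFound.restrictEtaleHom Z₂ _
    obtain ⟨Z, k, ⟨z, hz⟩, hgoodZ⟩ := hgood Z₃ ⟨z₂, hvO⟩
    let m : Z.left ⟶ V.left := (k ≫ i₃).left ≫ c.left ≫ pullback.fst V.hom g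
    obtain ⟨m₀, hm₀⟩ := exists_lift_opens m O (fun x => by
      show ((k ≫ i₃).left ≫ c.left ≫ pullback.fst V.hom g) x ∈ O
      rw [Scheme.Hom.comp_apply]
      exact (k.left x).2)
    have hmV : m ≫ V.hom = Z.hom ≫ g :=
      (Category.assoc _ _ _).trans ((congrArg ((k ≫ i₃).left ≫ ·) ((Category.assoc _ _ _).trans
        ((congrArg (c.left ≫ ·) (pullback.condition (f := V.hom) (g := g))).trans
          ((Category.assoc _ _ _).symm.trans (congrArg (· ≫ g) (MorphismProperty.Over.w c)))))).trans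
        ((Category.assoc _ _ _).symm.trans (congrArg (· ≫ g) (MorphismProperty.Over.w (k ≫ i₃)))))
    let c₀ : Z ⟶ (EtCoh.bc g).obj V₀ := MorphismProperty.Over.homMk (pullback.lift m₀ Z.hom (by
      show m₀ ≫ O.ι ≫ V.hom = Z.hom ≫ g
      rw [← Category.assoc, hm₀]; exact hmV)) (pullback.lift_snd _ _ _)
    have hc₀ : c₀ ≫ (EtCoh.bc g).map j = (k ≫ i₃) ≫ c := by
      refine MorphismProperty.Over.Hom.ext (pullback.hom_ext ?_ ?_)
      · refine (Category.assoc _ _ _).trans ((congrArg (c₀.left ≫ ·) (EtCoh.isPullback_bc_map g j).w).trans ?_)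
        exact ((Category.assoc _ _ _).symm.trans ((congrArg (· ≫ j.left) (pullback.lift_fst _ _ _)).trans hm₀)).trans
          (Category.assoc _ _ _).symm
      · exact (MorphismProperty.Over.w (c₀ ≫ (EtCoh.bc g).map j)).trans (MorphismProperty.Over.w ((k ≫ i₃) ≫ c)).symm
    have g₁ : ((EtDesc.pullSh g).obj G).obj.map c₀.op (up g G V₀ (G.obj.map j.op (G.obj.map m₁.op a₁))) =
        ((EtDesc.pullSh g).obj G).obj.map ((k ≫ i₃) ≫ k₂ ≫ k₁).op s₁ := by
      rw [up_map, mapF, hc₀, ← mapF, f₁, mapF]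
    have g₂ : ((EtDesc.pullSh g).obj G).obj.map c₀.op (up g G V₀ (G.obj.map j.op (G.obj.map m₂.op a₂))) =
        ((EtDesc.pullSh g).obj G).obj.map ((k ≫ i₃) ≫ k₂ ≫ k₁).op s₂ := by
      rw [up_map, mapF, hc₀, ← mapF, f₂, mapF]
    have hloc := good_injective f g f' g' H F hgoodZ c₀ (G.obj.map j.op (G.obj.map m₁.op a₁))
      (G.obj.map j.op (G.obj.map m₂.op a₂)) (by
      rw [← baseChange_up f g f' g' H.w F c₀, ← baseChange_up f g f' g' H.w F c₀, g₁, g₂, NatTrans.naturality_apply,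
        NatTrans.naturality_apply, e])
    rw [g₁, g₂] at hloc
    have h' : LocEq ((EtDesc.pullSh g).obj G).obj (((EtDesc.pullSh g).obj G).obj.map ((k ≫ i₃) ≫ k₂ ≫ k₁).op s₁)
        (((EtDesc.pullSh g).obj G).obj.map ((k ≫ i₃) ≫ k₂ ≫ k₁).op s₂) z := by rw [hloc]; exact LocEq.refl _ _
    have := LocEq.of_map ((k ≫ i₃) ≫ k₂ ≫ k₁) h'
    rwa [show ((k ≫ i₃) ≫ k₂ ≫ k₁).left z = w by
      show ((k.left ≫ i₃.left) ≫ k₂.left ≫ k₁.left) z = w
      rw [Scheme.Hom.comp_apply, Scheme.Hom.comp_apply, Scheme.Hom.comp_apply, hz]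
      exact (congrArg k₁.left hz₂).trans hz₁] at this
  · obtain ⟨Z, k, hwk, V, a, ha, hqc, hgc⟩ := hgood W w
    let c : Z ⟶ (EtCoh.bc g).obj V := MorphismProperty.Over.homMk (pullback.lift a Z.hom ha) (pullback.lift_snd _ _ _)
    have hca : c.left ≫ pullback.fst V.hom g = a := pullback.lift_fst _ _ _
    obtain ⟨a₀, ha₀⟩ := good_surjective f g f' g' H F c (by rw [hca]; exact hqc) (by rw [hca]; exact hgc)
      (((EtDesc.pullSh g').obj F).obj.map ((EtCoh.bc f').map k).op t)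
    refine ⟨Z, k, ((EtDesc.pullSh g).obj G).obj.map c.op (up g G V a₀), hwk, ?_⟩
    rw [baseChange_up, ha₀]
    rfl

end Groth.Agent.HenselConn
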