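import Groth.Agent.HenselConn.EtLocalBC

/-!
# Base change of direct images is local for the etale topology
-/

set_option autoImplicit false

universe u

open CategoryTheory CategoryTheory.Limits AlgebraicGeometry Opposite TopologicalSpace
open Groth.Agent.BigSiteLib.DescSec

namespace Groth.Agent.HenselConn.EtPiece

set_option backward.isDefEq.respectTransparency.types false

/-- An etale scheme over an etale scheme as an etale scheme over the base. -/
noncomputable def overEt {B B' : Scheme.{u}} (u : B' ⟶ B) [Etale u] (Z : B'.Etale) : B.Etale :=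
  MorphismProperty.Over.mk ⊤ (Z.hom ≫ u) (by haveI : Etale Z.hom := Z.prop; exact inferInstanceAs (Etale (Z.hom ≫ u)))

/-- Morphisms to a base change. -/
noncomputable def toBc {T S : Scheme.{u}} (g : T ⟶ S) {W : T.Etale} {U : S.Etale} (q : W.left ⟶ U.left)
    (hq : q ≫ U.hom = W.hom ≫ g) : W ⟶ (EtCoh.bc g).obj U :=
  MorphismProperty.Over.homMk (pullback.lift q W.hom hq) (pullback.lift_snd _ _ _)

theorem toBc_fst {T S : Scheme.{u}} (g : T ⟶ S) {W : T.Etale} {U : S.Etale} (q : W.left ⟶ U.left)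
    (hq : q ≫ U.hom = W.hom ≫ g) : (toBc g q hq).left ≫ pullback.fst U.hom g = q :=
  pullback.lift_fst _ _ _

theorem bc_ext {T S : Scheme.{u}} (g : T ⟶ S) {W : T.Etale} {U : S.Etale} (m n : W ⟶ (EtCoh.bc g).obj U)
    (h : m.left ≫ pullback.fst U.hom g = n.left ≫ pullback.fst U.hom g) : m = n :=
  MorphismProperty.Over.Hom.ext (pullback.hom_ext h ((MorphismProperty.Over.w m).trans (MorphismProperty.Over.w n).symm))

theorem comp_bc_fst {T S : Scheme.{u}} (g : T ⟶ S) {W : T.Etale} {U U' : S.Etale} (m : W ⟶ (EtCoh.bc g).obj U)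
    (n : U ⟶ U') :
    (m ≫ (EtCoh.bc g).map n).left ≫ pullback.fst U'.hom g = (m.left ≫ pullback.fst U.hom g) ≫ n.left :=
  (Category.assoc _ _ _).trans ((congrArg (m.left ≫ ·) (EtCoh.isPullback_bc_map g n).w).trans (Category.assoc _ _ _).symm)

theorem via_injective {A B C : Scheme.{u}} (g : A ⟶ B) (f : B ⟶ C) (b : A ⟶ C) (w : g ≫ f = b) (F : EtDesc.Sh C) (W : A.Etale) :
    Function.Injective ((EtDesc.pullVia g f b w F).hom.hom.app (op W)) := fun x y e => by
  have := congrArg ((EtDesc.pullVia g f b w F).inv.hom.app (op W)) e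
  rwa [app_inv_apply, app_inv_apply] at this

/-- Two factorisations with the same composite. -/
theorem via_routes {A B B' C : Scheme.{u}} (g : A ⟶ B) (f : B ⟶ C) (g' : A ⟶ B') (f' : B' ⟶ C) (b : A ⟶ C) (w : g ≫ f = b)
    (w' : g' ≫ f' = b) (F : EtDesc.Sh C) {Q : C.Etale} {P : B.Etale} {P' : B'.Etale} {W : A.Etale}
    (k₁ : W ⟶ (EtCoh.bc g).obj P) (k₂ : P ⟶ (EtCoh.bc f).obj Q)
    (k₁' : W ⟶ (EtCoh.bc g').obj P') (k₂' : P' ⟶ (EtCoh.bc f').obj Q)
    (hk : ((k₁.left ≫ pullback.fst P.hom g) ≫ k₂.left) ≫ pullback.fst Q.hom f =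
      ((k₁'.left ≫ pullback.fst P'.hom g') ≫ k₂'.left) ≫ pullback.fst Q.hom f') (a : F.obj.obj (op Q)) :
    (EtDesc.pullVia g f b w F).hom.hom.app (op W)
        (((EtDesc.pullSh g).obj ((EtDesc.pullSh f).obj F)).obj.map k₁.op
          (up g ((EtDesc.pullSh f).obj F) P (((EtDesc.pullSh f).obj F).obj.map k₂.op (up f F Q a)))) =
      (EtDesc.pullVia g' f' b w' F).hom.hom.app (op W)
        (((EtDesc.pullSh g').obj ((EtDesc.pullSh f').obj F)).obj.map k₁'.op
          (up g' ((EtDesc.pullSh f').obj F) P' (((EtDesc.pullSh f').obj F).obj.map k₂'.op (up f' F Q a)))) := by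
  obtain ⟨e₁, h₁, h₁'⟩ := via_up g f b w F (k₁ ≫ (EtCoh.bc g).map k₂)
  obtain ⟨e₂, h₂, h₂'⟩ := via_up g' f' b w' F (k₁' ≫ (EtCoh.bc g').map k₂')
  rw [up_map, mapF, h₁' a, up_map, mapF, h₂' a, show e₁ = e₂ from bc_ext b _ _ (by
    rw [h₁, h₂, comp_bc_fst, comp_bc_fst]; exact hk)]

section rmap

variable {A B A' B' : Scheme.{u}} (top : A' ⟶ A) (l : A' ⟶ B') (r : A ⟶ B) (bot : B' ⟶ B) (w : top ≫ r = l ≫ bot)

/-- The map of base changes induced by a map over a square. -/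
noncomputable def rMap {Z : B.Etale} {Z' : B'.Etale} (k : Z'.left ⟶ Z.left) (hk : k ≫ Z.hom = Z'.hom ≫ bot) :
    ((EtCoh.bc l).obj Z').left ⟶ ((EtCoh.bc r).obj Z).left :=
  pullback.lift (pullback.fst Z'.hom l ≫ k) (pullback.snd Z'.hom l ≫ top)
    ((Category.assoc _ _ _).trans ((congrArg (pullback.fst Z'.hom l ≫ ·) hk).trans ((Category.assoc _ _ _).symm.trans
      ((congrArg (· ≫ bot) pullback.condition).trans ((Category.assoc _ _ _).trans
        ((congrArg (pullback.snd Z'.hom l ≫ ·) w.symm).trans (Category.assoc _ _ _).symm))))))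

theorem rMap_fst {Z : B.Etale} {Z' : B'.Etale} (k : Z'.left ⟶ Z.left) (hk : k ≫ Z.hom = Z'.hom ≫ bot) :
    rMap top l r bot w k hk ≫ pullback.fst Z.hom r = pullback.fst Z'.hom l ≫ k :=
  pullback.lift_fst _ _ _

theorem rMap_hom {Z : B.Etale} {Z' : B'.Etale} (k : Z'.left ⟶ Z.left) (hk : k ≫ Z.hom = Z'.hom ≫ bot) :
    rMap top l r bot w k hk ≫ ((EtCoh.bc r).obj Z).hom = ((EtCoh.bc l).obj Z').hom ≫ top :=
  pullback.lift_snd _ _ _

/-- The canonical map for an etale scheme over the upper base. -/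
noncomputable abbrev rOver [Etale bot] (Z' : B'.Etale) :
    ((EtCoh.bc l).obj Z').left ⟶ ((EtCoh.bc r).obj (overEt bot Z')).left :=
  rMap top l r bot w (Z := overEt bot Z') (𝟙 Z'.left) (Category.id_comp _)

theorem isIso_rOver [Etale bot] (hsq : IsPullback top l r bot) (Z' : B'.Etale) : IsIso (rOver top l r bot w Z') := by
  have h1 : pullback.snd (overEt bot Z').hom r ≫ r = (pullback.fst (overEt bot Z').hom r ≫ Z'.hom) ≫ bot :=
    pullback.condition.symm.trans (Category.assoc _ _ _).symm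
  let i : ((EtCoh.bc r).obj (overEt bot Z')).left ⟶ ((EtCoh.bc l).obj Z').left :=
    pullback.lift (pullback.fst (overEt bot Z').hom r) (hsq.lift _ _ h1) (hsq.lift_snd _ _ h1).symm
  have hi₁ : i ≫ pullback.fst Z'.hom l = pullback.fst (overEt bot Z').hom r := pullback.lift_fst _ _ _
  have hi₂ : i ≫ pullback.snd Z'.hom l = hsq.lift _ _ h1 := pullback.lift_snd _ _ _
  have hr₁ : rOver top l r bot w Z' ≫ pullback.fst (overEt bot Z').hom r = pullback.fst Z'.hom l :=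
    (rMap_fst top l r bot w _ _).trans (Category.comp_id _)
  have hr₂ : rOver top l r bot w Z' ≫ pullback.snd (overEt bot Z').hom r = pullback.snd Z'.hom l ≫ top :=
    pullback.lift_snd _ _ _
  refine ⟨i, pullback.hom_ext ?_ (hsq.hom_ext ?_ ?_), pullback.hom_ext ?_ ?_⟩
  · exact (Category.assoc _ _ _).trans ((congrArg (_ ≫ ·) hi₁).trans (hr₁.trans (Category.id_comp _).symm))
  · refine (congrArg (· ≫ top) ((Category.assoc _ _ _).trans (congrArg (_ ≫ ·) hi₂))).trans ?_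
    refine (Category.assoc _ _ _).trans ((congrArg (_ ≫ ·) (hsq.lift_fst _ _ h1)).trans (hr₂.trans ?_))
    exact congrArg (· ≫ top) (Category.id_comp _).symm
  · refine (congrArg (· ≫ l) ((Category.assoc _ _ _).trans (congrArg (_ ≫ ·) hi₂))).trans ?_
    refine (Category.assoc _ _ _).trans ((congrArg (_ ≫ ·) (hsq.lift_snd _ _ h1)).trans ?_)
    refine (Category.assoc _ _ _).symm.trans ((congrArg (· ≫ Z'.hom) hr₁).trans (pullback.condition.trans ?_))
    exact congrArg (· ≫ l) (Category.id_comp _).symm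
  · exact (Category.assoc _ _ _).trans ((congrArg (i ≫ ·) hr₁).trans (hi₁.trans (Category.id_comp _).symm))
  · refine (Category.assoc _ _ _).trans ((congrArg (i ≫ ·) hr₂).trans ((Category.assoc _ _ _).symm.trans ?_))
    exact (congrArg (· ≫ top) hi₂).trans ((hsq.lift_fst _ _ h1).trans (Category.id_comp _).symm)

theorem rMap_natural [Etale bot] {W Z' : B'.Etale} {Z : B.Etale} (m : W ⟶ Z') (k : Z'.left ⟶ Z.left)
    (hk : k ≫ Z.hom = Z'.hom ≫ bot) (n : overEt bot W ⟶ Z) (hn : n.left = m.left ≫ k) :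
    rOver top l r bot w W ≫ ((EtCoh.bc r).map n).left = ((EtCoh.bc l).map m).left ≫ rMap top l r bot w k hk := by
  refine pullback.hom_ext ?_ ?_
  · refine (Category.assoc _ _ _).trans ?_
    refine (congrArg (_ ≫ ·) (EtCoh.isPullback_bc_map r n).w).trans ?_
    refine (Category.assoc _ _ _).symm.trans ?_
    refine (congrArg₂ (· ≫ ·) ((rMap_fst top l r bot w _ _).trans (Category.comp_id _)) hn).trans ?_
    refine Eq.trans ?_ (Category.assoc _ _ _).symm
    refine Eq.trans ?_ (congrArg (_ ≫ ·) (rMap_fst top l r bot w k hk)).symm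
    refine Eq.trans ?_ (Category.assoc _ _ _)
    refine Eq.trans ?_ (congrArg (· ≫ k) (EtCoh.isPullback_bc_map l m).w).symm
    exact (Category.assoc _ _ _).symm
  · refine (Category.assoc _ _ _).trans ?_
    refine (congrArg (_ ≫ ·) (MorphismProperty.Over.w ((EtCoh.bc r).map n))).trans ?_
    refine (rMap_hom top l r bot w (Z := overEt bot W) _ _).trans ?_
    refine Eq.trans ?_ (Category.assoc _ _ _).symm
    refine Eq.trans ?_ (congrArg (_ ≫ ·) (rMap_hom top l r bot w k hk)).symm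
    refine Eq.trans ?_ (Category.assoc _ _ _)
    exact (congrArg (· ≫ top) (MorphismProperty.Over.w ((EtCoh.bc l).map m))).symm

end rmap

/-- Sections are determined by their inverse images along jointly surjective charts. -/
theorem eq_of_graph {T' T : Scheme.{u}} (p : T' ⟶ T) (F : EtDesc.Sh T) {W : T'.Etale} {WT : T.Etale}
    (e : W.left ⟶ WT.left) (he : e ≫ WT.hom = W.hom ≫ p) (hs : Function.Surjective e) (a b : F.obj.obj (op WT))
    (h : ((EtDesc.pullSh p).obj F).obj.map (toBc p e he).op (up p F WT a) =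
      ((EtDesc.pullSh p).obj F).obj.map (toBc p e he).op (up p F WT b)) : a = b := by
  refine eq_of_locEq F fun z => ?_
  obtain ⟨w, rfl⟩ := hs z
  have h1 : LocEq ((EtDesc.pullSh p).obj F).obj (up p F WT a) (up p F WT b) ((toBc p e he).left w) :=
    LocEq.of_map (toBc p e he) (h ▸ LocEq.refl _ w)
  have h2 := locEq_of_up p F h1
  rwa [show pr p WT ((toBc p e he).left w) = e w from
    (Scheme.Hom.comp_apply _ _ _).symm.trans (congrArg (fun m : W.left ⟶ WT.left => m w) (toBc_fst p e he))] at h2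

/-- Inverse images along etale maps are restrictions. -/
theorem exists_graph {T' T : Scheme.{u}} (p : T' ⟶ T) [Etale p] (F : EtDesc.Sh T) (W : T'.Etale)
    (t : ((EtDesc.pullSh p).obj F).obj.obj (op W)) :
    ∃ a : F.obj.obj (op (overEt p W)),
      ((EtDesc.pullSh p).obj F).obj.map (toBc p (U := overEt p W) (𝟙 W.left) (Category.id_comp _)).op
        (up p F (overEt p W) a) = t := by
  choose U b Z c k z hz he using exists_up_eq_any p F W t
  let P := (EtDesc.pullSh p).obj F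
  let s : ∀ R : T'.Etale, R ⟶ (EtCoh.bc p).obj (overEt p R) := fun R => toBc p (𝟙 R.left) (Category.id_comp _)
  let cT : ∀ w, overEt p (Z w) ⟶ U w := fun w =>
    MorphismProperty.Over.homMk ((c w).left ≫ pullback.fst (U w).hom p) (by
      refine (Category.assoc _ _ _).trans ((congrArg ((c w).left ≫ ·) pullback.condition).trans ?_)
      exact (Category.assoc _ _ _).symm.trans (congrArg (· ≫ p) (MorphismProperty.Over.w (c w))))
  let kT : ∀ w, overEt p (Z w) ⟶ overEt p W := fun w =>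
    MorphismProperty.Over.homMk (k w).left ((Category.assoc _ _ _).symm.trans (congrArg (· ≫ p) (MorphismProperty.Over.w (k w))))
  have hbw : ∀ w, P.obj.map (s (Z w)).op (up p F _ (F.obj.map (cT w).op (b w))) = P.obj.map (k w).op t := fun w => by
    rw [up_map, mapF, ← he]
    refine congrArg (fun m => P.obj.map m (up p F (U w) (b w))) (congrArg Quiver.Hom.op (bc_ext p _ _ ?_))
    rw [comp_bc_fst, toBc_fst]
    exact Category.id_comp _
  have hcov : Sieve.generate (Presieve.ofArrows (fun w => overEt p (Z w)) kT) ∈ T.smallEtaleTopology (overEt p W) := by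
    rw [EtFound.mem_topology_iff]
    intro w
    exact ⟨overEt p (Z w), kT w, z w, ⟨overEt p (Z w), 𝟙 _, kT w, ⟨w⟩, Category.id_comp _⟩, hz w⟩
  have hcomp : ∀ i j (R : T.Etale) (m₁ : R ⟶ overEt p (Z i)) (m₂ : R ⟶ overEt p (Z j)), m₁ ≫ kT i = m₂ ≫ kT j →
      F.obj.map m₁.op (F.obj.map (cT i).op (b i)) = F.obj.map m₂.op (F.obj.map (cT j).op (b j)) := fun i j R m₁ m₂ e => by
    haveI : Etale R.hom := R.prop
    let ρ : R.left ⟶ T' := m₁.left ≫ (Z i).hom
    have hρ : ρ ≫ p = R.hom := (Category.assoc _ _ _).trans (MorphismProperty.Over.w m₁)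
    haveI : Etale (ρ ≫ p) := by rw [hρ]; infer_instance
    haveI : Etale ρ := MorphismProperty.of_postcomp @Etale ρ p ‹_› ‹_›
    let R' : T'.Etale := MorphismProperty.Over.mk ⊤ ρ ‹_›
    have e' : m₁.left ≫ (k i).left = m₂.left ≫ (k j).left := congrArg (fun l => l.left) e
    have hρ₂ : m₂.left ≫ (Z j).hom = ρ := by
      show m₂.left ≫ (Z j).hom = m₁.left ≫ (Z i).hom
      rw [← MorphismProperty.Over.w (k j), ← MorphismProperty.Over.w (k i)]
      exact (Category.assoc _ _ _).symm.trans ((congrArg (· ≫ W.hom) e'.symm).trans (Category.assoc _ _ _))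
    let n₁ : R' ⟶ Z i := MorphismProperty.Over.homMk m₁.left rfl
    let n₂ : R' ⟶ Z j := MorphismProperty.Over.homMk m₂.left hρ₂
    have hn : n₁ ≫ k i = n₂ ≫ k j := MorphismProperty.Over.Hom.ext e'
    refine eq_of_graph p F (W := R') (WT := R) (𝟙 R.left) ((Category.id_comp _).trans hρ.symm)
      (fun x => ⟨x, rfl⟩) _ _ ?_
    have key : ∀ (q : T'.Etale) (n : R' ⟶ q) (m : R ⟶ overEt p q), m.left = n.left →
        ∀ x : F.obj.obj (op (overEt p q)), P.obj.map (toBc p (W := R') (U := R) (𝟙 R.left) ((Category.id_comp _).trans hρ.symm)).op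
          (up p F R (F.obj.map m.op x)) = P.obj.map n.op (P.obj.map (s q).op (up p F _ x)) := fun q n m hm x => by
      rw [up_map, mapF, mapF]
      refine congrArg (fun m' => P.obj.map m' (up p F (overEt p q) x)) (congrArg Quiver.Hom.op (bc_ext p _ _ ?_))
      rw [comp_bc_fst, toBc_fst]
      refine (Category.id_comp _).trans ?_
      refine hm.trans ?_
      refine Eq.trans ?_ (Category.assoc _ _ _).symm
      rw [toBc_fst]
      exact (Category.comp_id _).symm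
    rw [key _ n₁ m₁ rfl, key _ n₂ m₂ rfl, hbw, hbw, mapF, mapF, hn]
  obtain ⟨a, ha, -⟩ := (Presieve.isSheafFor_arrows_iff _ _).1 ((Presieve.isSheafFor_iff_generate _).2
    (((isSheaf_iff_isSheaf_of_type _ _).1 F.property) _ hcov)) (fun w => F.obj.map (cT w).op (b w)) hcomp
  refine ⟨a, eq_of_locEq P fun w => ?_⟩
  rw [← hz w]
  refine LocEq.of_map (k w) ?_
  rw [← hbw, ← ha w, up_map, mapF, mapF,
    show (k w) ≫ toBc p (U := overEt p W) (𝟙 W.left) (Category.id_comp _) = s (Z w) ≫ (EtCoh.bc p).map (kT w) from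
      bc_ext p _ _ (by
        rw [comp_bc_fst, toBc_fst]
        refine (Category.assoc _ _ _).trans ?_
        rw [toBc_fst]
        exact (Category.comp_id _).trans (Category.id_comp _).symm)]
  exact LocEq.refl _ _

section piece

variable {X S Y T : Scheme.{u}} (f : X ⟶ S) (g : T ⟶ S) (h : Y ⟶ X) (e : Y ⟶ T) (c : IsPullback e h g f)
  (F : EtDesc.Sh T) (Ux : X.Etale) (Vs : S.Etale) (a : Ux.left ⟶ Vs.left) (ha : a ≫ Vs.hom = Ux.hom ≫ f)
  {Ti Yi : Scheme.{u}} (gi : Ti ⟶ Vs.left) (ti : Ti ⟶ T) (cT : IsPullback ti gi g Vs.hom)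
  (hi : Yi ⟶ Ux.left) (ei : Yi ⟶ Ti) (cY : IsPullback ei hi gi a)

include ha cT cY in
theorem yi_cond : (ei ≫ ti) ≫ g = (hi ≫ Ux.hom) ≫ f := by
  rw [Category.assoc, cT.w, ← Category.assoc, cY.w, Category.assoc, ha, Category.assoc]

/-- The projection of the piece to the global fibre product. -/
noncomputable def yi : Yi ⟶ Y := c.lift (ei ≫ ti) (hi ≫ Ux.hom) (yi_cond f g Ux Vs a ha gi ti cT hi ei cY)

theorem yi_e : yi f g h e c Ux Vs a ha gi ti cT hi ei cY ≫ e = ei ≫ ti := c.lift_fst _ _ _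

theorem yi_h : yi f g h e c Ux Vs a ha gi ti cT hi ei cY ≫ h = hi ≫ Ux.hom := c.lift_snd _ _ _

theorem isPullback_yi : IsPullback (yi f g h e c Ux Vs a ha gi ti cT hi ei cY) hi h Ux.hom := by
  refine IsPullback.of_right ?_ (yi_h f g h e c Ux Vs a ha gi ti cT hi ei cY) c
  rw [yi_e, ← ha]
  exact cY.paste_horiz cT

variable (hloc : IsIso (EtBC.baseChange0Sh gi a hi ei cY.w ((EtDesc.pullSh ti).obj F)))

/-- The two chart composites agree. -/
theorem qMap_rMap {Z : X.Etale} {Z' : Ux.left.Etale} (k : Z'.left ⟶ Z.left) (hk : k ≫ Z.hom = Z'.hom ≫ Ux.hom)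
    {V : S.Etale} {V' : Vs.left.Etale} (l : V'.left ⟶ V.left) (hl : l ≫ V.hom = V'.hom ≫ Vs.hom)
    (c₀ : Z ⟶ (EtCoh.bc f).obj V) (c' : Z' ⟶ (EtCoh.bc a).obj V')
    (hcc : k ≫ c₀.left ≫ pullback.fst V.hom f = c'.left ≫ pullback.fst V'.hom a ≫ l)
    (y : Yi ⟶ Y) (e₁ : y ≫ e = ei ≫ ti) (e₂ : y ≫ h = hi ≫ Ux.hom) :
    rMap y hi h Ux.hom e₂ k hk ≫ qMap g f h e c c₀ = qMap gi a hi ei cY c' ≫ rMap ti gi g Vs.hom cT.w l hl := by
  refine pullback.hom_ext ?_ ?_
  · refine Eq.trans ?_ (Category.assoc _ _ _).symm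
    refine Eq.trans ?_ (congrArg (qMap gi a hi ei cY c' ≫ ·) (rMap_fst ti gi g Vs.hom cT.w l hl)).symm
    refine Eq.trans ?_ (Category.assoc _ _ _)
    refine Eq.trans ?_ (congrArg (· ≫ l) (qMap_fst gi a hi ei cY c')).symm
    refine (Category.assoc _ _ _).trans ?_
    refine (congrArg (_ ≫ ·) (qMap_fst g f h e c c₀)).trans ?_
    refine (Category.assoc _ _ _).symm.trans ?_
    refine (congrArg (· ≫ c₀.left ≫ pullback.fst V.hom f) (rMap_fst y hi h Ux.hom e₂ k hk)).trans ?_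
    refine (Category.assoc _ _ _).trans ?_
    refine Eq.trans ?_ (Category.assoc _ _ _).symm
    exact congrArg (_ ≫ ·) (hcc.trans (Category.assoc _ _ _).symm)
  · refine Eq.trans ?_ (Category.assoc _ _ _).symm
    refine Eq.trans ?_ (congrArg (qMap gi a hi ei cY c' ≫ ·) (rMap_hom ti gi g Vs.hom cT.w l hl)).symm
    refine Eq.trans ?_ (Category.assoc _ _ _)
    refine Eq.trans ?_ (congrArg (· ≫ ti) (qMap_snd gi a hi ei cY c')).symm
    refine Eq.trans ?_ (Category.assoc _ _ _).symm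
    refine (Category.assoc _ _ _).trans ?_
    refine (congrArg (_ ≫ ·) (qMap_snd g f h e c c₀)).trans ?_
    refine (Category.assoc _ _ _).symm.trans ?_
    refine (congrArg (· ≫ e) (rMap_hom y hi h Ux.hom e₂ k hk)).trans ?_
    exact (Category.assoc _ _ _).trans (congrArg (_ ≫ ·) e₁)

/-- The two routes for a transported representative. -/
theorem trA_route {Z : X.Etale} {Z' : Ux.left.Etale} (k : Z'.left ⟶ Z.left) (hk : k ≫ Z.hom = Z'.hom ≫ Ux.hom)
    {V : S.Etale} {V' : Vs.left.Etale} (l : V'.left ⟶ V.left) (hl : l ≫ V.hom = V'.hom ≫ Vs.hom)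
    (c₀ : Z ⟶ (EtCoh.bc f).obj V) (c' : Z' ⟶ (EtCoh.bc a).obj V')
    (hcc : k ≫ c₀.left ≫ pullback.fst V.hom f = c'.left ≫ pullback.fst V'.hom a ≫ l)
    (y : Yi ⟶ Y) (e₁ : y ≫ e = ei ≫ ti) (e₂ : y ≫ h = hi ≫ Ux.hom)
    (x : F.obj.obj (op ((EtCoh.bc g).obj V))) :
    (EtDesc.pullVia y e (ei ≫ ti) e₁ F).hom.hom.app (op ((EtCoh.bc hi).obj Z'))
      (((EtDesc.pullSh y).obj ((EtDesc.pullSh e).obj F)).obj.map
          (toBc y (rMap y hi h Ux.hom e₂ k hk) (rMap_hom y hi h Ux.hom e₂ k hk)).op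
        (up y ((EtDesc.pullSh e).obj F) ((EtCoh.bc h).obj Z) (trA g f h e c.w F c₀ x))) =
    (EtDesc.pullVia ei ti (ei ≫ ti) rfl F).hom.hom.app (op ((EtCoh.bc hi).obj Z'))
      (trA gi a hi ei cY.w ((EtDesc.pullSh ti).obj F) c'
        (((EtDesc.pullSh ti).obj F).obj.map (toBc ti (rMap ti gi g Vs.hom cT.w l hl) (rMap_hom ti gi g Vs.hom cT.w l hl)).op
          (up ti F _ x))) := by
  unfold trA
  refine via_routes y e ei ti (ei ≫ ti) e₁ rfl F _ _ _ _ ?_ x
  refine (congrArg (fun r => (r ≫ ((EtCoh.bc h).map c₀ ≫ EtFound.bcSquare c.w V).left) ≫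
    pullback.fst ((EtCoh.bc g).obj V).hom e) (toBc_fst y _ (rMap_hom y hi h Ux.hom e₂ k hk))).trans ?_
  refine (Category.assoc _ _ _).trans ?_
  refine (qMap_rMap f g h e c Ux Vs a gi ti cT hi ei cY k hk l hl c₀ c' hcc y e₁ e₂).trans ?_
  refine Eq.trans ?_ (Category.assoc _ _ _).symm
  exact congrArg (qMap gi a hi ei cY c' ≫ ·) (toBc_fst ti _ (rMap_hom ti gi g Vs.hom cT.w l hl)).symm

include ha cT cY hloc in
/-- Injectivity on a piece. -/
theorem inj_piece [Etale Ux.hom] [Etale Vs.hom] {Z : X.Etale} (zU : Z.left ⟶ Ux.left) (hzU : zU ≫ Ux.hom = Z.hom)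
    {V : S.Etale} (c₀ : Z ⟶ (EtCoh.bc f).obj V) (x y : F.obj.obj (op ((EtCoh.bc g).obj V)))
    (hxy : trA g f h e c.w F c₀ x = trA g f h e c.w F c₀ y) (z : Z.left) :
    LocEq ((EtDesc.pullSh f).obj ((EtDesc.pushSh g).obj F)).obj
      (((EtDesc.pullSh f).obj ((EtDesc.pushSh g).obj F)).obj.map c₀.op (up f ((EtDesc.pushSh g).obj F) V x))
      (((EtDesc.pullSh f).obj ((EtDesc.pushSh g).obj F)).obj.map c₀.op (up f ((EtDesc.pushSh g).obj F) V y)) z := by
  haveI : Etale Z.hom := Z.prop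
  haveI : Etale (zU ≫ Ux.hom) := by rw [hzU]; infer_instance
  haveI : Etale zU := MorphismProperty.of_postcomp @Etale zU Ux.hom ‹_› ‹_›
  haveI : Etale V.hom := V.prop
  haveI : Etale (pullback.snd V.hom Vs.hom) := MorphismProperty.pullback_snd _ _ inferInstance
  let Z' : Ux.left.Etale := MorphismProperty.Over.mk ⊤ zU ‹_›
  let V' : Vs.left.Etale := MorphismProperty.Over.mk ⊤ (pullback.snd V.hom Vs.hom) ‹_›
  let l : V'.left ⟶ V.left := pullback.fst V.hom Vs.hom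
  let p₀ : Z.left ⟶ V.left := c₀.left ≫ pullback.fst V.hom f
  have hp₀ : p₀ ≫ V.hom = (zU ≫ a) ≫ Vs.hom := by
    refine (Category.assoc _ _ _).trans ?_
    refine (congrArg (c₀.left ≫ ·) pullback.condition).trans ?_
    refine (Category.assoc _ _ _).symm.trans ?_
    refine (congrArg (· ≫ f) ((MorphismProperty.Over.w c₀).trans hzU.symm)).trans ?_
    rw [Category.assoc, ← ha, ← Category.assoc]
  let c' : Z' ⟶ (EtCoh.bc a).obj V' := toBc a (pullback.lift p₀ (zU ≫ a) hp₀) (pullback.lift_snd _ _ _)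
  have hl : l ≫ V.hom = V'.hom ≫ Vs.hom := pullback.condition
  have hk : 𝟙 Z.left ≫ Z.hom = Z'.hom ≫ Ux.hom := (Category.id_comp _).trans hzU.symm
  have hcc : 𝟙 Z.left ≫ c₀.left ≫ pullback.fst V.hom f = c'.left ≫ pullback.fst V'.hom a ≫ l := by
    refine (Category.id_comp _).trans ?_
    refine Eq.trans ?_ (Category.assoc _ _ _)
    refine Eq.trans ?_ (congrArg (· ≫ l) (toBc_fst a (W := Z') (U := V') _ (pullback.lift_snd _ _ _))).symm
    exact (pullback.lift_fst _ _ _).symm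
  have e₁ := yi_e f g h e c Ux Vs a ha gi ti cT hi ei cY
  have e₂ := yi_h f g h e c Ux Vs a ha gi ti cT hi ei cY
  let Fi := (EtDesc.pullSh ti).obj F
  let m₂ := toBc ti (rMap ti gi g Vs.hom cT.w l hl) (rMap_hom ti gi g Vs.hom cT.w l hl)
  let x' := Fi.obj.map m₂.op (up ti F _ x)
  let y' := Fi.obj.map m₂.op (up ti F _ y)
  have hloc' : trA gi a hi ei cY.w Fi c' x' = trA gi a hi ei cY.w Fi c' y' := by
    refine via_injective ei ti (ei ≫ ti) rfl F _ ?_
    rw [← trA_route f g h e c F Ux Vs a gi ti cT hi ei cY (Z' := Z') (V' := V') (𝟙 Z.left) hk l hl c₀ c' hcc _ e₁ e₂ x,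
      ← trA_route f g h e c F Ux Vs a gi ti cT hi ei cY (Z' := Z') (V' := V') (𝟙 Z.left) hk l hl c₀ c' hcc _ e₁ e₂ y, hxy]
  haveI := hloc
  have heq : ((EtDesc.pullSh a).obj ((EtDesc.pushSh gi).obj Fi)).obj.map c'.op (up a ((EtDesc.pushSh gi).obj Fi) V' x') =
      ((EtDesc.pullSh a).obj ((EtDesc.pushSh gi).obj Fi)).obj.map c'.op (up a ((EtDesc.pushSh gi).obj Fi) V' y') := by
    have h3 := congrArg ((inv (EtBC.baseChange0Sh gi a hi ei cY.w Fi)).hom.app (op Z'))
      ((baseChange_up gi a hi ei cY.w Fi c' x').trans (hloc'.trans (baseChange_up gi a hi ei cY.w Fi c' y').symm))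
    erw [app_inv_apply (asIso (EtBC.baseChange0Sh gi a hi ei cY.w Fi)),
      app_inv_apply (asIso (EtBC.baseChange0Sh gi a hi ei cY.w Fi))] at h3
    exact h3
  have hL : LocEq ((EtDesc.pullSh a).obj ((EtDesc.pushSh gi).obj Fi)).obj
      (((EtDesc.pullSh a).obj ((EtDesc.pushSh gi).obj Fi)).obj.map c'.op (up a ((EtDesc.pushSh gi).obj Fi) V' x'))
      (((EtDesc.pullSh a).obj ((EtDesc.pushSh gi).obj Fi)).obj.map c'.op (up a ((EtDesc.pushSh gi).obj Fi) V' y'))
      (z : Z'.left) := by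
    rw [heq]; exact LocEq.refl _ _
  obtain ⟨W, m, ⟨w, hw⟩, hW⟩ := locEq_of_up a ((EtDesc.pushSh gi).obj Fi) (LocEq.of_map c' hL)
  let WS := overEt Vs.hom W
  let mS : WS ⟶ V := MorphismProperty.Over.homMk (m.left ≫ l) (by
    refine (Category.assoc _ _ _).trans ((congrArg (m.left ≫ ·) hl).trans ?_)
    exact (Category.assoc _ _ _).symm.trans (congrArg (· ≫ Vs.hom) (MorphismProperty.Over.w m)))
  have hres : ((EtDesc.pushSh g).obj F).obj.map mS.op x = ((EtDesc.pushSh g).obj F).obj.map mS.op y := by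
    haveI := isIso_rOver ti gi g Vs.hom cT.w cT W
    refine eq_of_graph ti F (rOver ti gi g Vs.hom cT.w W) (rMap_hom ti gi g Vs.hom cT.w (Z := WS) _ _)
      (rOver ti gi g Vs.hom cT.w W).surjective _ _ ?_
    have key : toBc ti (U := (EtCoh.bc g).obj WS) (rOver ti gi g Vs.hom cT.w W)
        (rMap_hom ti gi g Vs.hom cT.w (Z := WS) _ _) ≫ (EtCoh.bc ti).map ((EtCoh.bc g).map mS) =
        (EtCoh.bc gi).map m ≫ m₂ := by
      refine bc_ext ti _ _ ?_
      rw [comp_bc_fst, toBc_fst]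
      refine Eq.trans ?_ (Category.assoc _ _ _).symm
      rw [toBc_fst]
      exact rMap_natural ti gi g Vs.hom cT.w m l hl mS rfl
    have hconv : ∀ u : F.obj.obj (op ((EtCoh.bc g).obj V)),
        Fi.obj.map (toBc ti (U := (EtCoh.bc g).obj WS) (rOver ti gi g Vs.hom cT.w W)
          (rMap_hom ti gi g Vs.hom cT.w (Z := WS) _ _)).op (up ti F _ (F.obj.map ((EtCoh.bc g).map mS).op u)) =
        Fi.obj.map ((EtCoh.bc gi).map m).op (Fi.obj.map m₂.op (up ti F _ u)) := fun u => by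
      rw [up_map, mapF, mapF, key]
    exact (hconv x).trans (hW.trans (hconv y).symm)
  refine LocEq.map c₀ (locEq_up f _ ⟨WS, mS, ⟨w, ?_⟩, hres⟩)
  have E := congrArg (fun q : Z.left ⟶ V.left => q z) (hcc.symm.trans (Category.id_comp _))
  simp only [Scheme.Hom.comp_apply] at E
  refine (Scheme.Hom.comp_apply _ _ _).trans ?_
  exact (congrArg l hw).trans E

include ha cT cY hloc in
/-- Surjectivity on a piece. -/
theorem surj_piece [Etale Ux.hom] [Etale Vs.hom] {Z : X.Etale} (zU : Z.left ⟶ Ux.left) (hzU : zU ≫ Ux.hom = Z.hom)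
    (t : ((EtDesc.pullSh e).obj F).obj.obj (op ((EtCoh.bc h).obj Z))) (z : Z.left) :
    ∃ (Z₁ : X.Etale) (k₀ : Z₁ ⟶ Z) (b : ((EtDesc.pullSh f).obj ((EtDesc.pushSh g).obj F)).obj.obj (op Z₁)),
      z ∈ Set.range k₀.left ∧ (EtBC.baseChange0Sh g f h e c.w F).hom.app (op Z₁) b =
        ((EtDesc.pullSh e).obj F).obj.map ((EtCoh.bc h).map k₀).op t := by
  haveI : Etale Z.hom := Z.prop
  haveI : Etale (zU ≫ Ux.hom) := by rw [hzU]; infer_instance
  haveI : Etale zU := MorphismProperty.of_postcomp @Etale zU Ux.hom ‹_› ‹_›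
  haveI : Etale ti := MorphismProperty.of_isPullback (P := @Etale) cT.flip ‹Etale Vs.hom›
  let Z' : Ux.left.Etale := MorphismProperty.Over.mk ⊤ zU ‹_›
  let Fi := (EtDesc.pullSh ti).obj F
  let y := yi f g h e c Ux Vs a ha gi ti cT hi ei cY
  have e₁ : y ≫ e = ei ≫ ti := yi_e f g h e c Ux Vs a ha gi ti cT hi ei cY
  have e₂ : y ≫ h = hi ≫ Ux.hom := yi_h f g h e c Ux Vs a ha gi ti cT hi ei cY
  have hk : 𝟙 Z.left ≫ Z.hom = Z'.hom ≫ Ux.hom := (Category.id_comp _).trans hzU.symm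
  let K := toBc y (U := (EtCoh.bc h).obj Z) (W := (EtCoh.bc hi).obj Z') (rMap y hi h Ux.hom e₂ (Z := Z) (Z' := Z') (𝟙 Z.left) hk)
    (rMap_hom y hi h Ux.hom e₂ (Z := Z) (Z' := Z') (𝟙 Z.left) hk)
  let t' := (EtDesc.pullVia ei ti (ei ≫ ti) rfl F).inv.hom.app (op ((EtCoh.bc hi).obj Z'))
    ((EtDesc.pullVia y e (ei ≫ ti) e₁ F).hom.hom.app (op ((EtCoh.bc hi).obj Z'))
      (((EtDesc.pullSh y).obj ((EtDesc.pullSh e).obj F)).obj.map K.op (up y ((EtDesc.pullSh e).obj F) _ t)))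
  haveI := hloc
  let β := EtBC.baseChange0Sh gi a hi ei cY.w Fi
  let a₁ := (inv β).hom.app (op Z') t'
  have ha₁ : β.hom.app (op Z') a₁ = t' := app_inv_apply (asIso β).symm _ _
  obtain ⟨V', a', Z₁', c₁, k₁, z₁, hz₁, he₁⟩ := exists_up_eq_any a ((EtDesc.pushSh gi).obj Fi) Z' a₁ (z : Z'.left)
  have hiso := isIso_rOver ti gi g Vs.hom cT.w cT V'
  let V := overEt Vs.hom V'
  obtain ⟨x₀, hx₀⟩ := exists_graph ti F ((EtCoh.bc gi).obj V') a'
  let θ : (EtCoh.bc g).obj V ⟶ overEt ti ((EtCoh.bc gi).obj V') :=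
    MorphismProperty.Over.homMk (@asIso _ _ _ _ (rOver ti gi g Vs.hom cT.w V') hiso).inv
      ((Iso.inv_comp_eq _).2 (rMap_hom ti gi g Vs.hom cT.w (Z := V) (Z' := V') (𝟙 V'.left) (Category.id_comp _)).symm)
  let x := F.obj.map θ.op x₀
  have hx : Fi.obj.map (toBc ti (U := (EtCoh.bc g).obj V) (rOver ti gi g Vs.hom cT.w V')
      (rMap_hom ti gi g Vs.hom cT.w (Z := V) _ _)).op (up ti F _ x) = a' := by
    rw [up_map, mapF]
    refine Eq.trans ?_ hx₀
    refine congrArg (fun m => Fi.obj.map m (up ti F _ x₀)) (congrArg Quiver.Hom.op (bc_ext ti _ _ ?_))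
    rw [comp_bc_fst, toBc_fst, toBc_fst]
    exact (@asIso _ _ _ _ (rOver ti gi g Vs.hom cT.w V') hiso).hom_inv_id
  let Z₁ := overEt Ux.hom Z₁'
  have hc₀ : (c₁.left ≫ pullback.fst V'.hom a) ≫ V.hom = Z₁.hom ≫ f := by
    refine (Category.assoc _ _ _).trans ?_
    refine (congrArg (c₁.left ≫ ·) ((Category.assoc _ _ _).symm.trans
      ((congrArg (· ≫ Vs.hom) (pullback.condition (f := V'.hom) (g := a))).trans (Category.assoc _ _ _)))).trans ?_
    refine (Category.assoc _ _ _).symm.trans ?_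
    refine (congrArg₂ (· ≫ ·) (MorphismProperty.Over.w c₁) ha).trans ?_
    exact (Category.assoc _ _ _).symm
  let c₀ : Z₁ ⟶ (EtCoh.bc f).obj V := toBc f (c₁.left ≫ pullback.fst V'.hom a) hc₀
  let k₀ : Z₁ ⟶ Z := MorphismProperty.Over.homMk k₁.left (by
    show k₁.left ≫ Z.hom = Z₁'.hom ≫ Ux.hom
    refine (congrArg (k₁.left ≫ ·) hzU.symm).trans ((Category.assoc _ _ _).symm.trans ?_)
    exact congrArg (· ≫ Ux.hom) (MorphismProperty.Over.w k₁))
  refine ⟨Z₁, k₀, ((EtDesc.pullSh f).obj ((EtDesc.pushSh g).obj F)).obj.map c₀.op (up f ((EtDesc.pushSh g).obj F) V x),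
    ⟨z₁, hz₁⟩, ?_⟩
  rw [baseChange_up]
  have hcc : 𝟙 Z₁'.left ≫ c₀.left ≫ pullback.fst V.hom f = c₁.left ≫ pullback.fst V'.hom a ≫ 𝟙 V'.left := by
    refine (Category.id_comp _).trans ((toBc_fst f _ hc₀).trans ?_)
    exact congrArg (c₁.left ≫ ·) (Category.comp_id _).symm
  have hy := isPullback_yi f g h e c Ux Vs a ha gi ti cT hi ei cY
  haveI := isIso_rOver y hi h Ux.hom e₂ hy Z₁'
  refine eq_of_graph y ((EtDesc.pullSh e).obj F) (rOver y hi h Ux.hom e₂ Z₁') (rMap_hom y hi h Ux.hom e₂ (Z := Z₁) _ _)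
    (rOver y hi h Ux.hom e₂ Z₁').surjective _ _ ?_
  refine via_injective y e (ei ≫ ti) e₁ F _ ?_
  refine (trA_route f g h e c F Ux Vs a gi ti cT hi ei cY (Z := Z₁) (Z' := Z₁') (V := V) (V' := V') (𝟙 Z₁'.left)
    (Category.id_comp _) (𝟙 V'.left) (Category.id_comp _) c₀ c₁ hcc y e₁ e₂ x).trans ?_
  erw [hx]
  rw [← baseChange_up gi a hi ei cY.w Fi c₁ a', he₁, NatTrans.naturality_apply, ha₁]
  erw [NatTrans.naturality_apply]
  refine (congrArg (((EtDesc.pullSh (ei ≫ ti)).obj F).obj.map ((EtCoh.bc hi).map k₁).op)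
    (app_inv_apply (EtDesc.pullVia ei ti (ei ≫ ti) rfl F).symm _ _)).trans ?_
  rw [← NatTrans.naturality_apply, mapF, up_map, mapF]
  refine congrArg (fun m => (EtDesc.pullVia y e (ei ≫ ti) e₁ F).hom.hom.app (op ((EtCoh.bc hi).obj Z₁'))
    (((EtDesc.pullSh y).obj ((EtDesc.pullSh e).obj F)).obj.map m (up y ((EtDesc.pullSh e).obj F) _ t)))
    (congrArg Quiver.Hom.op (bc_ext y _ _ ?_))
  rw [comp_bc_fst, toBc_fst]
  refine (Category.assoc _ _ _).trans ?_
  rw [toBc_fst]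
  exact (rMap_natural y hi h Ux.hom e₂ k₁ (𝟙 Z.left) hk k₀ (Category.comp_id _).symm).symm

end piece

/-- Base change of direct images is local for the etale topology. -/
theorem isIso_of_etale_cover {X S Y T : Scheme.{u}} (f : X ⟶ S) (g : T ⟶ S) (h : Y ⟶ X) (e : Y ⟶ T)
    (c : IsPullback e h g f) (F : EtDesc.Sh T) {ι : Type u} (U : ι → X.Etale) (hU : EtCoh.Covers U)
    (V : ι → S.Etale) (a : ∀ i, (U i).left ⟶ (V i).left) (ha : ∀ i, a i ≫ (V i).hom = (U i).hom ≫ f)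
    (Ti Yi : ι → Scheme.{u}) (gi : ∀ i, Ti i ⟶ (V i).left) (ti : ∀ i, Ti i ⟶ T)
    (cT : ∀ i, IsPullback (ti i) (gi i) g (V i).hom)
    (hi : ∀ i, Yi i ⟶ (U i).left) (ei : ∀ i, Yi i ⟶ Ti i) (cY : ∀ i, IsPullback (ei i) (hi i) (gi i) (a i))
    (hloc : ∀ i, IsIso (EtBC.baseChange0Sh (gi i) (a i) (hi i) (ei i) (cY i).w ((EtDesc.pullSh (ti i)).obj F))) :
    IsIso (EtBC.baseChange0Sh g f h e c.w F) := by
  let G := (EtDesc.pushSh g).obj F
  have hshrink : ∀ (W : X.Etale) (w : W.left), ∃ (i : ι) (Z : X.Etale) (k : Z ⟶ W) (zU : Z.left ⟶ (U i).left),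
      zU ≫ (U i).hom = Z.hom ∧ w ∈ Set.range k.left := fun W w => by
    obtain ⟨i, y, hy⟩ := hU (W.hom w)
    haveI : Etale W.hom := W.prop
    haveI : Etale (U i).hom := (U i).prop
    haveI : Etale (pullback.fst W.hom (U i).hom) := MorphismProperty.pullback_fst _ _ inferInstance
    let Z : X.Etale := MorphismProperty.Over.mk ⊤ (pullback.fst W.hom (U i).hom ≫ W.hom)
      (inferInstanceAs (Etale (pullback.fst W.hom (U i).hom ≫ W.hom)))
    obtain ⟨q, hq, -⟩ := Scheme.Pullback.exists_preimage_pullback (f := W.hom) (g := (U i).hom) w y hy.symm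
    exact ⟨i, Z, MorphismProperty.Over.homMk (pullback.fst W.hom (U i).hom) rfl, pullback.snd W.hom (U i).hom,
      pullback.condition.symm, q, hq⟩
  refine isIso_of_local _ (fun W s₁ s₂ hs w => ?_) (fun W t w => ?_)
  · obtain ⟨V₁, a₁, Z₁, c₁, k₁, z₁, hz₁, he₁⟩ := exists_up_eq_any f G W s₁ w
    obtain ⟨V₂, a₂, Z₂, c₂, k₂, z₂, hz₂, he₂⟩ :=
      exists_up_eq_any f G Z₁ (((EtDesc.pullSh f).obj G).obj.map k₁.op s₂) z₁
    obtain ⟨i, Z₃, k₃, zU, hzU, z₃, hz₃⟩ := hshrink Z₂ z₂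
    haveI : Etale V₁.hom := V₁.prop
    haveI : Etale V₂.hom := V₂.prop
    haveI : Etale (U i).hom := (U i).prop
    haveI : Etale (V i).hom := (V i).prop
    let V₀ : S.Etale := MorphismProperty.Over.mk ⊤ (pullback.fst V₁.hom V₂.hom ≫ V₁.hom) (by
      haveI : Etale (pullback.fst V₁.hom V₂.hom) := MorphismProperty.pullback_fst _ _ inferInstance
      exact inferInstanceAs (Etale (pullback.fst V₁.hom V₂.hom ≫ V₁.hom)))
    let m₁ : V₀ ⟶ V₁ := MorphismProperty.Over.homMk (pullback.fst V₁.hom V₂.hom) rfl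
    let m₂ : V₀ ⟶ V₂ := MorphismProperty.Over.homMk (pullback.snd V₁.hom V₂.hom) pullback.condition.symm
    obtain ⟨c₀, hc₁, hc₂⟩ := exists_pair_hom f m₁ m₂ ((k₃ ≫ k₂) ≫ c₁) (k₃ ≫ c₂) (IsPullback.of_hasPullback V₁.hom V₂.hom)
    have f₁ : ((EtDesc.pullSh f).obj G).obj.map c₀.op (up f G V₀ (G.obj.map m₁.op a₁)) =
        ((EtDesc.pullSh f).obj G).obj.map ((k₃ ≫ k₂) ≫ k₁).op s₁ := by
      rw [up_map, mapF, hc₁, ← mapF, he₁, mapF]
    have f₂ : ((EtDesc.pullSh f).obj G).obj.map c₀.op (up f G V₀ (G.obj.map m₂.op a₂)) =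
        ((EtDesc.pullSh f).obj G).obj.map ((k₃ ≫ k₂) ≫ k₁).op s₂ := by
      rw [up_map, mapF, hc₂, ← mapF, he₂, mapF, mapF, Category.assoc]
    have hl := inj_piece f g h e c F (U i) (V i) (a i) (ha i) (gi i) (ti i) (cT i) (hi i) (ei i) (cY i) (hloc i)
      zU hzU c₀ (G.obj.map m₁.op a₁) (G.obj.map m₂.op a₂) (by
        rw [← baseChange_up g f h e c.w F c₀, ← baseChange_up g f h e c.w F c₀, f₁, f₂, NatTrans.naturality_apply,
          NatTrans.naturality_apply, hs]) z₃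
    rw [f₁, f₂] at hl
    have := LocEq.of_map ((k₃ ≫ k₂) ≫ k₁) hl
    rwa [show ((k₃ ≫ k₂) ≫ k₁).left z₃ = w from by
      show ((k₃.left ≫ k₂.left) ≫ k₁.left) z₃ = w
      rw [Scheme.Hom.comp_apply, Scheme.Hom.comp_apply, hz₃]
      exact (congrArg k₁.left hz₂).trans hz₁] at this
  · obtain ⟨i, Z, k, zU, hzU, z, hz⟩ := hshrink W w
    haveI : Etale (U i).hom := (U i).prop
    haveI : Etale (V i).hom := (V i).prop
    obtain ⟨Z₁, k₀, b, ⟨z₁, hz₁⟩, hb⟩ := surj_piece f g h e c F (U i) (V i) (a i) (ha i) (gi i) (ti i) (cT i) (hi i)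
      (ei i) (cY i) (hloc i) zU hzU (((EtDesc.pullSh e).obj F).obj.map ((EtCoh.bc h).map k).op t) z
    refine ⟨Z₁, k₀ ≫ k, b, ⟨z₁, ?_⟩, ?_⟩
    · refine (Scheme.Hom.comp_apply _ _ _).trans ?_
      exact (congrArg k.left hz₁).trans hz
    · rw [hb, mapF, ← CategoryTheory.Functor.map_comp]; rfl

end Groth.Agent.HenselConn.EtPiece
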