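import Groth.Agent.HenselConn.LocalIso
import Groth.Agent.HenselConn.Compat

/-!
# Inverse images along etale morphisms are restrictions
-/

set_option autoImplicit false

universe u

open CategoryTheory CategoryTheory.Limits AlgebraicGeometry Opposite TopologicalSpace
open Groth.Agent.BigSiteLib.DescSec

namespace Groth.Agent.HenselConn

set_option backward.isDefEq.respectTransparency.types false

variable {X : Scheme.{u}} (U : X.Etale) (G : EtDesc.Sh X)

/-- The diagonal section of an etale object pulled back to itself. -/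
noncomputable def diagSec : EtCoh.top U.left ⟶ (EtCoh.bc U.hom).obj U :=
  MorphismProperty.Over.homMk (pullback.lift (𝟙 U.left) (𝟙 U.left) rfl) (pullback.lift_snd _ _ _)

theorem pr_diagSec (t : U.left) : pr U.hom U ((diagSec U).left t) = t :=
  (Scheme.Hom.comp_apply _ _ _).symm.trans
    (congrArg (fun k : U.left ⟶ U.left => k t) (pullback.lift_fst (f := U.hom) (g := U.hom) (𝟙 U.left) (𝟙 U.left) rfl))

/-- A section over an etale object as a global section of the inverse image. -/
noncomputable def diagRes (x : G.obj.obj (op U)) :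
    ((EtDesc.pullSh U.hom).obj G).obj.obj (op (EtCoh.top U.left)) :=
  ((EtDesc.pullSh U.hom).obj G).obj.map (diagSec U).op (up U.hom G U x)

theorem diagRes_injective : Function.Injective (diagRes U G) := fun a b e => by
  refine eq_of_locEq G fun t => ?_
  rw [← pr_diagSec U t]
  refine locEq_of_up U.hom G (LocEq.of_map (diagSec U) ?_)
  exact (show ((EtDesc.pullSh U.hom).obj G).obj.map (diagSec U).op (up U.hom G U a) =
    ((EtDesc.pullSh U.hom).obj G).obj.map (diagSec U).op (up U.hom G U b) from e) ▸ LocEq.refl _ _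

theorem diagRes_surjective : Function.Surjective (diagRes U G) := fun σ => by
  let H := (EtDesc.pullSh U.hom).obj G
  choose U₁ x z m hz hzl using fun t : (EtCoh.top U.left).left => exists_locEq_up U.hom G σ t
  let N : ∀ t, ((EtCoh.bc U.hom).obj (U₁ t)).left.Opens := fun t =>
    ⟨{y | LocEq H.obj (up U.hom G (U₁ t) (x t)) (H.obj.map (m t).op σ) y}, isOpen_locEq _ _⟩
  haveI : Etale U.hom := U.prop
  let P : (EtCoh.top U.left).left → X.Etale := fun t => MorphismProperty.Over.mk ⊤
    ((N t).ι ≫ pullback.snd (U₁ t).hom U.hom ≫ U.hom) (by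
      haveI : Etale (U₁ t).hom := (U₁ t).prop
      haveI : Etale (pullback.snd (U₁ t).hom U.hom) := MorphismProperty.pullback_snd _ _ inferInstance
      exact MorphismProperty.comp_mem (W := @Etale) (N t).ι (pullback.snd (U₁ t).hom U.hom ≫ U.hom) inferInstance
        (MorphismProperty.comp_mem (W := @Etale) _ U.hom ‹Etale (pullback.snd (U₁ t).hom U.hom)› U.prop))
  let jU : ∀ t, P t ⟶ U := fun t =>
    MorphismProperty.Over.homMk ((N t).ι ≫ pullback.snd (U₁ t).hom U.hom) (Category.assoc _ _ _)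
  let j₁ : ∀ t, P t ⟶ U₁ t := fun t => MorphismProperty.Over.homMk ((N t).ι ≫ pullback.fst (U₁ t).hom U.hom)
    ((Category.assoc _ _ _).trans (congrArg ((N t).ι ≫ ·) pullback.condition))
  have hcov : Sieve.generate (Presieve.ofArrows P jU) ∈ X.smallEtaleTopology U := by
    rw [EtFound.mem_topology_iff]
    intro t
    refine ⟨P t, jU t, ⟨z t, hzl t⟩, ⟨P t, 𝟙 _, jU t, ⟨t⟩, Category.id_comp _⟩, ?_⟩
    exact (Scheme.Hom.comp_apply _ _ _).trans (hz t)
  have hcomp : ∀ i k (A : X.Etale) (a : A ⟶ P i) (b : A ⟶ P k), a ≫ jU i = b ≫ jU k →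
      G.obj.map a.op (G.obj.map (j₁ i).op (x i)) = G.obj.map b.op (G.obj.map (j₁ k).op (x k)) := fun i k A a b e => by
    refine eq_of_locEq G fun y => ?_
    rw [mapF, mapF]
    let l : A.left ⟶ ((EtCoh.bc U.hom).obj A).left := pullback.lift (𝟙 A.left) (a ≫ jU i).left
      ((Category.id_comp _).trans (MorphismProperty.Over.w (a ≫ jU i)).symm)
    have hl : ∀ (k' : (EtCoh.top U.left).left) (a' : A ⟶ P k'), a' ≫ jU k' = a ≫ jU i →
        LocEq H.obj (up U.hom G A (G.obj.map (a' ≫ j₁ k').op (x k')))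
          (H.obj.map (toTop ((EtCoh.bc U.hom).obj A)).op σ) (l y) := fun k' a' e' => by
      have hp : l ≫ ((EtCoh.bc U.hom).map (a' ≫ j₁ k')).left = a'.left ≫ (N k').ι := by
        refine pullback.hom_ext ?_ ?_
        · refine (Category.assoc _ _ _).trans ((congrArg (l ≫ ·) (EtCoh.isPullback_bc_map U.hom (a' ≫ j₁ k')).w).trans ?_)
          refine (Category.assoc _ _ _).symm.trans ((congrArg (· ≫ (a' ≫ j₁ k').left) (pullback.lift_fst _ _ _)).trans ?_)
          exact (Category.id_comp _).trans (Category.assoc _ _ _).symm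
        · refine (Category.assoc _ _ _).trans ((congrArg (l ≫ ·)
            (MorphismProperty.Over.w ((EtCoh.bc U.hom).map (a' ≫ j₁ k')))).trans ?_)
          refine (pullback.lift_snd _ _ _).trans ?_
          exact (congrArg (fun q : A ⟶ U => q.left) e'.symm).trans (Category.assoc _ _ _).symm
      have hmem : ((EtCoh.bc U.hom).map (a' ≫ j₁ k')).left (l y) ∈ N k' := by
        rw [← Scheme.Hom.comp_apply, hp, Scheme.Hom.comp_apply]
        exact (a'.left y).2
      have h := (show LocEq H.obj (up U.hom G (U₁ k') (x k')) (H.obj.map (m k').op σ) _ from hmem).map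
        ((EtCoh.bc U.hom).map (a' ≫ j₁ k'))
      rw [← up_map, mapF, (EtCore.topIsTerminal _).hom_ext ((EtCoh.bc U.hom).map (a' ≫ j₁ k') ≫ m k') (toTop _)] at h
      exact h
    have hy : pr U.hom A (l y) = y := (Scheme.Hom.comp_apply _ _ _).symm.trans
      (congrArg (fun q : A.left ⟶ A.left => q y) (pullback.lift_fst (f := A.hom) (g := U.hom) (𝟙 A.left) (a ≫ jU i).left _))
    rw [← hy]
    exact locEq_of_up U.hom G ((hl i a rfl).trans (hl k b e.symm).symm)
  obtain ⟨s, hs, -⟩ := (Presieve.isSheafFor_arrows_iff _ _).1 ((Presieve.isSheafFor_iff_generate _).2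
    (((isSheaf_iff_isSheaf_of_type _ _).1 G.property) _ hcov)) (fun t => G.obj.map (j₁ t).op (x t)) hcomp
  refine ⟨s, eq_of_locEq H fun t => ?_⟩
  haveI : Etale (U₁ t).hom := (U₁ t).prop
  haveI : Etale (pullback.snd (U₁ t).hom U.hom) := MorphismProperty.pullback_snd _ _ inferInstance
  let D : U.left.Etale := MorphismProperty.Over.mk ⊤ ((N t).ι ≫ pullback.snd (U₁ t).hom U.hom)
    (MorphismProperty.comp_mem (W := @Etale) (N t).ι _ inferInstance ‹Etale (pullback.snd (U₁ t).hom U.hom)›)
  let n : D ⟶ EtCoh.top U.left := toTop D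
  have hn : n.left = (N t).ι ≫ pullback.snd (U₁ t).hom U.hom :=
    (Category.comp_id _).symm.trans (MorphismProperty.Over.w n)
  have ht : n.left ⟨z t, hzl t⟩ = t := by
    rw [hn]; exact (Scheme.Hom.comp_apply _ _ _).trans (hz t)
  rw [← ht]
  refine LocEq.of_map n ?_
  let e₀ : D ⟶ (EtCoh.bc U.hom).obj (P t) := MorphismProperty.Over.homMk
    (pullback.lift (𝟙 (P t).left) ((N t).ι ≫ pullback.snd (U₁ t).hom U.hom)
      ((Category.id_comp _).trans (Category.assoc _ _ _).symm)) (pullback.lift_snd _ _ _)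
  let e₁ : D ⟶ (EtCoh.bc U.hom).obj (U₁ t) := MorphismProperty.Over.homMk (N t).ι rfl
  have h₁ : e₀ ≫ (EtCoh.bc U.hom).map (jU t) = n ≫ diagSec U := by
    refine MorphismProperty.Over.Hom.ext (pullback.hom_ext ?_ ?_)
    · refine (Category.assoc _ _ _).trans ((congrArg (e₀.left ≫ ·) (EtCoh.isPullback_bc_map U.hom (jU t)).w).trans ?_)
      refine (Category.assoc _ _ _).symm.trans ((congrArg (· ≫ (jU t).left) (pullback.lift_fst _ _ _)).trans ?_)
      refine Eq.trans ?_ ((Category.assoc _ _ _).trans (congrArg (n.left ≫ ·) (pullback.lift_fst _ _ _))).symm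
      exact (Category.id_comp _).trans (hn.symm.trans (Category.comp_id _).symm)
    · exact (MorphismProperty.Over.w (e₀ ≫ (EtCoh.bc U.hom).map (jU t))).trans
        (MorphismProperty.Over.w (n ≫ diagSec U)).symm
  have h₂ : e₀ ≫ (EtCoh.bc U.hom).map (j₁ t) = e₁ := by
    refine MorphismProperty.Over.Hom.ext (pullback.hom_ext ?_ ?_)
    · refine (Category.assoc _ _ _).trans ((congrArg (e₀.left ≫ ·) (EtCoh.isPullback_bc_map U.hom (j₁ t)).w).trans ?_)
      refine (Category.assoc _ _ _).symm.trans ((congrArg (· ≫ (j₁ t).left) (pullback.lift_fst _ _ _)).trans ?_)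
      exact Category.id_comp _
    · exact (MorphismProperty.Over.w (e₀ ≫ (EtCoh.bc U.hom).map (j₁ t))).trans (MorphismProperty.Over.w e₁).symm
  rw [diagRes, mapF, ← h₁, ← mapF, ← up_map, hs t, up_map, mapF, h₂]
  have h := (show LocEq H.obj (up U.hom G (U₁ t) (x t)) (H.obj.map (m t).op σ) (e₁.left ⟨z t, hzl t⟩) from hzl t).map e₁
  rw [mapF, (EtCore.topIsTerminal _).hom_ext (e₁ ≫ m t) n] at h
  exact h

end Groth.Agent.HenselConn
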