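import Groth.Agent.HenselConn.Retract
import Groth.Agent.HenselConn.SpecLoc
import Groth.Agent.Hensel.TensorStrict

/-!
# Geometric fibres of the maps of strict localizations of universally locally 0-acyclic morphisms
-/

set_option autoImplicit false

universe u

open CategoryTheory CategoryTheory.Limits AlgebraicGeometry IsLocalRing TensorProduct

namespace Groth.Agent.HenselConn

theorem closure_range_tensor {R B C : Type u} [CommRing R] [CommRing B] [CommRing C] [Algebra R B] [Algebra R C]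
    (z : B ⊗[R] C) : z ∈ Subring.closure (Set.range (Algebra.TensorProduct.includeLeftRingHom : B →+* B ⊗[R] C) ∪
      Set.range (Algebra.TensorProduct.includeRight : C →ₐ[R] B ⊗[R] C).toRingHom) := by
  induction z using TensorProduct.induction_on with
  | zero => exact zero_mem _
  | add p q hp hq => exact add_mem hp hq
  | tmul b c =>
    rw [show b ⊗ₜ[R] c = (b ⊗ₜ[R] (1 : C)) * ((1 : B) ⊗ₜ[R] c) by
      rw [Algebra.TensorProduct.tmul_mul_tmul, mul_one, one_mul]]
    exact mul_mem (Subring.subset_closure (Or.inl ⟨b, rfl⟩)) (Subring.subset_closure (Or.inr ⟨c, rfl⟩))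

theorem stalk_eq_of_spec {X Y X₁ : Scheme.{u}} (g : X ⟶ Y) (p : X₁ ⟶ X) {x : X} {x₁ : X₁} {B RY : Type u}
    [CommRing B] [CommRing RY] [Algebra (Y.presheaf.stalk (g.base x)) RY] (g₁ : X₁ ⟶ Spec (CommRingCat.of B)) (bY : RY →+* B)
    (σ : X.presheaf.stalk x →+* X₁.presheaf.stalk x₁)
    (hσ : Spec.map (CommRingCat.ofHom σ) ≫ X.fromSpecStalk x = X₁.fromSpecStalk x₁ ≫ p)
    (ν₀ : B →+* X₁.presheaf.stalk x₁) (hν : Spec.map (CommRingCat.ofHom ν₀) = X₁.fromSpecStalk x₁ ≫ g₁)
    (w : p ≫ g = g₁ ≫ Spec.map (CommRingCat.ofHom bY) ≫ Hens2.specOf Y (g.base x) RY) :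
    σ.comp (g.stalkMap x).hom = (ν₀.comp bY).comp (algebraMap (Y.presheaf.stalk (g.base x)) RY) := by
  apply eq_of_spec_fromSpecStalk
  have h1 : Spec.map (CommRingCat.ofHom (σ.comp (g.stalkMap x).hom)) ≫ Y.fromSpecStalk _ =
      (X₁.fromSpecStalk x₁ ≫ p) ≫ g := by
    rw [CommRingCat.ofHom_comp, CommRingCat.ofHom_hom, Spec.map_comp, Category.assoc, Scheme.SpecMap_stalkMap_fromSpecStalk g,
      ← Category.assoc, hσ]
  refine h1.trans ?_
  rw [Category.assoc, w, ← Category.assoc, ← hν, CommRingCat.ofHom_comp, CommRingCat.ofHom_comp, Spec.map_comp, Spec.map_comp,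
    Hens2.specOf]
  simp only [Category.assoc]

theorem spec_stalkMap_comp {X₁ : Scheme.{u}} {B : Type u} [CommRing B] (g₁ : X₁ ⟶ Spec (CommRingCat.of B)) (x₁ : X₁)
    (γ : B →+* (Spec (CommRingCat.of B)).presheaf.stalk (g₁ x₁)) (α : (Spec (CommRingCat.of B)).presheaf.stalk (g₁ x₁) →+* B)
    (hγα : γ.comp α = RingHom.id _)
    (hα : Spec.map (CommRingCat.ofHom α) ≫ (Spec (CommRingCat.of B)).fromSpecStalk (g₁ x₁) = 𝟙 _) :
    Spec.map (CommRingCat.ofHom ((g₁.stalkMap x₁).hom.comp γ)) = X₁.fromSpecStalk x₁ ≫ g₁ := by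
  have e : Spec.map (CommRingCat.ofHom γ) = (Spec (CommRingCat.of B)).fromSpecStalk (g₁ x₁) := by
    rw [← Category.comp_id (Spec.map (CommRingCat.ofHom γ)), ← hα, ← Category.assoc, ← Spec.map_comp,
      ← CommRingCat.ofHom_comp, hγα]
    exact (congrArg (· ≫ _) (Spec.map_id _)).trans (Category.id_comp _)
  rw [CommRingCat.ofHom_comp, Spec.map_comp, e, CommRingCat.ofHom_hom, Scheme.SpecMap_stalkMap_fromSpecStalk g₁]

/-- The stalk data of the base change along an integral extension of a strict localization. -/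
theorem exists_base_data {X Y : Scheme.{u}} (g : X ⟶ Y) (hg : EtAcyc.IsULocZeroAcyclic g)
    (x : X) (RY RX : Type u) [CommRing RY] [CommRing RX] [IsLocalRing RY] [IsLocalRing RX]
    [Algebra (Y.presheaf.stalk (g.base x)) RY] [IsLocalHom (algebraMap (Y.presheaf.stalk (g.base x)) RY)]
    [Algebra (X.presheaf.stalk x) RX] [IsLocalHom (algebraMap (X.presheaf.stalk x) RX)]
    [Algebra RY RX]
    (hsq : (algebraMap RY RX).comp (algebraMap (Y.presheaf.stalk (g.base x)) RY) =
      (algebraMap (X.presheaf.stalk x) RX).comp (g.stalkMap x).hom)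
    (B D : Type u) [CommRing B] [IsLocalRing B] [CommRing D] [IsLocalRing D] (hBh : HenselianLocalRing B)
    (hBs : IsSepClosed (ResidueField B)) (bY : RY →+* B)
    (incX : RX →+* D) [IsLocalHom incX] (incB : B →+* D) [IsLocalHom incB]
    (hinc : incX.comp (algebraMap RY RX) = incB.comp bY) :
    ∃ (O₁ : Type u) (_ : CommRing O₁) (_ : IsLocalRing O₁) (σ : X.presheaf.stalk x →+* O₁) (ν₀ : B →+* O₁)
      (Φ : O₁ →+* D),
      IsLocalHom σ ∧ IsLocalHom ν₀ ∧ IsLocalHom Φ ∧
      σ.comp (g.stalkMap x).hom = (ν₀.comp bY).comp (algebraMap (Y.presheaf.stalk (g.base x)) RY) ∧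
      Φ.comp ν₀ = incB ∧ Φ.comp σ = incX.comp (algebraMap (X.presheaf.stalk x) RX) ∧
      (letI : Algebra B (Hensel.StrictHenz O₁) := ((algebraMap O₁ (Hensel.StrictHenz O₁)).comp ν₀).toAlgebra
       EtAcyc.IsZeroAcyclic (Spec.map (CommRingCat.ofHom (algebraMap B (Hensel.StrictHenz O₁))))) := by
  let b : Spec (CommRingCat.of B) ⟶ Y := Spec.map (CommRingCat.ofHom bY) ≫ Hens2.specOf Y (g.base x) RY
  let g₁ : pullback g b ⟶ Spec (CommRingCat.of B) := pullback.snd g b
  let jX : Spec (CommRingCat.of D) ⟶ X := Spec.map (CommRingCat.ofHom incX) ≫ Hens2.specOf X x RX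
  let j : Spec (CommRingCat.of D) ⟶ pullback g b := pullback.lift jX (Spec.map (CommRingCat.ofHom incB)) (by
    rw [Category.assoc, specOf_comp g x RY RX hsq, ← Category.assoc, ← Spec.map_comp, ← Category.assoc, ← Spec.map_comp,
      ← CommRingCat.ofHom_comp, ← CommRingCat.ofHom_comp, hinc]
    simp only [b, Hens2.specOf, CommRingCat.ofHom_comp, Spec.map_comp, Category.assoc])
  let x₁ := j (closedPoint D)
  have hy₁ : g₁ x₁ = closedPoint B := by
    rw [← Scheme.Hom.comp_apply, show j ≫ g₁ = Spec.map (CommRingCat.ofHom incB) from pullback.lift_snd _ _ _]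
    exact IsLocalRing.comap_closedPoint incB
  have hx₁ : pullback.fst g b x₁ = x := by
    rw [← Scheme.Hom.comp_apply, show j ≫ pullback.fst g b = jX from pullback.lift_fst _ _ _, Scheme.Hom.comp_apply]
    exact (congrArg (Hens2.specOf X x RX) (IsLocalRing.comap_closedPoint incX)).trans (specOf_closedPoint X x RX)
  obtain ⟨Φ, hΦl, hΦ⟩ := exists_stalk_to j x₁ rfl
  obtain ⟨σ, hσl, hσ⟩ := exists_stalk_map (pullback.fst g b) x₁ x hx₁
  obtain ⟨γ, α, hαb, hαγ, hγα, hα⟩ := exists_stalk_equiv B (g₁ x₁) hy₁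
  haveI : IsLocalHom γ := ⟨fun z hz => by
    have := hz.map α
    rwa [← RingHom.comp_apply, hαγ] at this⟩
  let ν₀ : B →+* (pullback g b).presheaf.stalk x₁ := (g₁.stalkMap x₁).hom.comp γ
  haveI : IsLocalHom ν₀ := RingHom.isLocalHom_comp _ _
  have hspecν : Spec.map (CommRingCat.ofHom ν₀) = (pullback g b).fromSpecStalk x₁ ≫ g₁ :=
    spec_stalkMap_comp g₁ x₁ γ α hγα hα
  refine ⟨(pullback g b).presheaf.stalk x₁, inferInstance, inferInstance, σ, ν₀, Φ, hσl, ‹_›, hΦl, ?_, ?_, ?_, ?_⟩
  · exact stalk_eq_of_spec g (pullback.fst g b) g₁ bY σ hσ ν₀ hspecν pullback.condition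
  · have h1 : Spec.map (CommRingCat.ofHom (Φ.comp ν₀)) = Spec.map (CommRingCat.ofHom incB) := by
      rw [CommRingCat.ofHom_comp, Spec.map_comp, hspecν, ← Category.assoc, hΦ]
      exact pullback.lift_snd _ _ _
    exact congrArg CommRingCat.Hom.hom (Spec.map_injective h1)
  · apply eq_of_spec_fromSpecStalk
    rw [CommRingCat.ofHom_comp, CommRingCat.ofHom_comp, Spec.map_comp, Spec.map_comp, Category.assoc, Category.assoc, hσ,
      ← Category.assoc, hΦ]
    exact pullback.lift_fst _ _ _
  · letI : Algebra ((Spec (CommRingCat.of B)).presheaf.stalk (g₁ x₁)) B := α.toAlgebra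
    haveI : IsLocalHom (algebraMap ((Spec (CommRingCat.of B)).presheaf.stalk (g₁ x₁)) B) := ⟨fun z hz => by
      have := hz.map γ
      rwa [← RingHom.comp_apply, show γ.comp (algebraMap ((Spec (CommRingCat.of B)).presheaf.stalk (g₁ x₁)) B) = RingHom.id _ from hγα] at this⟩
    haveI : Hensel.IsStrictHenselization ((Spec (CommRingCat.of B)).presheaf.stalk (g₁ x₁)) B :=
      isStrictHenselization_of_bijective _ B hαb hBh hBs
    let R' := Hensel.StrictHenz ((pullback g b).presheaf.stalk x₁)
    let ν : B →+* R' := (algebraMap _ R').comp ν₀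
    letI : Algebra B R' := ν.toAlgebra
    haveI : IsLocalHom (algebraMap B R') := RingHom.isLocalHom_comp _ _
    exact hg g₁ (pullback.fst g b) b (IsPullback.of_hasPullback g b) x₁ B R' (by
      rw [RingHom.algebraMap_toAlgebra, RingHom.comp_assoc, RingHom.comp_assoc,
        show γ.comp (algebraMap ((Spec (CommRingCat.of B)).presheaf.stalk (g₁ x₁)) B) = RingHom.id _ from hγα]
      rfl)

/-- The geometric fibres of the maps of strict localizations of a universally locally 0-acyclic morphism are connected. -/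
theorem connectedSpace_of_uloc {X Y : Scheme.{u}} (g : X ⟶ Y) (hg : EtAcyc.IsULocZeroAcyclic g)
    (x : X) (RY RX : Type u) [CommRing RY] [CommRing RX] [IsLocalRing RY] [IsLocalRing RX]
    [Algebra (Y.presheaf.stalk (g.base x)) RY] [IsLocalHom (algebraMap (Y.presheaf.stalk (g.base x)) RY)]
    [Hensel.IsStrictHenselization (Y.presheaf.stalk (g.base x)) RY]
    [Algebra (X.presheaf.stalk x) RX] [IsLocalHom (algebraMap (X.presheaf.stalk x) RX)]
    [Hensel.IsStrictHenselization (X.presheaf.stalk x) RX]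
    [Algebra RY RX] [IsLocalHom (algebraMap RY RX)]
    (hsq : (algebraMap RY RX).comp (algebraMap (Y.presheaf.stalk (g.base x)) RY) =
      (algebraMap (X.presheaf.stalk x) RX).comp (g.stalkMap x).hom)
    (Ω : Type u) [Field Ω] [IsAlgClosed Ω] [Algebra RY Ω] : ConnectedSpace (PrimeSpectrum (Ω ⊗[RY] RX)) := by
  haveI : HenselianLocalRing RY := Hensel.IsStrictHenselization.henselian (Y.presheaf.stalk (g.base x))
  haveI : HenselianLocalRing RX := Hensel.IsStrictHenselization.henselian (X.presheaf.stalk x)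
  haveI : IsSepClosed (ResidueField RY) :=
    (Hensel.IsStrictHenselization.isSepClosure (R := Y.presheaf.stalk (g.base x)) (S := RY)).sep_closed
  haveI : IsSepClosed (ResidueField RX) :=
    (Hensel.IsStrictHenselization.isSepClosure (R := X.presheaf.stalk x) (S := RX)).sep_closed
  let B := integralClosure RY Ω
  haveI : Algebra.IsIntegral RY B := inferInstance
  haveI : IsLocalRing B := Hensel.isLocalRing_of_isIntegral_domain RY B
  haveI : IsLocalHom (algebraMap RY B) := Hensel.isLocalHom_of_isIntegral_local RY B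
  have hBh : HenselianLocalRing B := Hensel.henselianLocalRing_of_isIntegral_local RY B
  obtain ⟨hBs, hBp⟩ := Hensel.residueField_of_isIntegral RY B
  haveI : IsPurelyInseparable (ResidueField RY) (ResidueField B) :=
    by
      have e : (inferInstance : Algebra (ResidueField RY) (ResidueField B)) = (ResidueField.map (algebraMap RY B)).toAlgebra :=
        Algebra.algebra_ext _ _ fun z => by obtain ⟨z, rfl⟩ := residue_surjective z; rfl
      rw [← e] at hBp
      exact hBp
  let D := B ⊗[RY] RX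
  haveI : IsLocalRing D := Hensel.isLocalRing_tensor RY B RX
  let incX : RX →+* D := (Algebra.TensorProduct.includeRight : RX →ₐ[RY] D).toRingHom
  haveI : IsLocalHom incX := Hensel.isLocalHom_includeRight RY B RX
  obtain ⟨hDh, hDs⟩ : HenselianLocalRing D ∧ IsSepClosed (ResidueField D) := by
    letI : Algebra RX D := Algebra.TensorProduct.rightAlgebra
    haveI : Algebra.IsIntegral RX D := ⟨fun z => Hensel.isIntegral_includeRight RY B RX z⟩
    haveI : IsLocalHom (algebraMap RX D) := ‹IsLocalHom incX›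
    exact ⟨Hensel.henselianLocalRing_of_isIntegral_local RX D, (Hensel.residueField_of_isIntegral RX D).1⟩
  let incB : B →+* D := Algebra.TensorProduct.includeLeftRingHom
  haveI : IsLocalHom incB := ⟨fun b hb => by
    by_contra h
    exact (maximalIdeal.isMaximal D).ne_top (Ideal.eq_top_of_isUnit_mem _
      (Hensel.tensorMax_le RY B RX (maximalIdeal D) (Ideal.mem_sup_left (Ideal.mem_map_of_mem _ (show b ∈ maximalIdeal B from h)))) hb)⟩
  have hinc : incX.comp (algebraMap RY RX) = incB.comp (algebraMap RY B) := RingHom.ext fun r =>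
    (Algebra.TensorProduct.tmul_one_eq_one_tmul r).symm
  obtain ⟨O₁, _, _, σ, ν₀, Φ, hσl, hνl, hΦl, hbase, hΦB, hΦX, h0⟩ :=
    exists_base_data g hg x RY RX hsq B D hBh hBs (algebraMap RY B) incX incB hinc
  haveI : HenselianLocalRing D := hDh
  haveI := hDs
  obtain ⟨θ, μX, hμY, hθB, hθX⟩ := exists_retract (hD := hDh) (g.stalkMap x).hom (algebraMap RY RX) hsq (algebraMap RY B)
    σ ν₀ hbase incX incB hinc closure_range_tensor Φ hΦB hΦX
  let R' := Hensel.StrictHenz O₁
  letI : Algebra B R' := ((algebraMap O₁ R').comp ν₀).toAlgebra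
  letI : Algebra RY R' := ((algebraMap B R').comp (algebraMap RY B)).toAlgebra
  haveI : IsScalarTower RY B R' := IsScalarTower.of_algebraMap_eq' rfl
  let μ : D →ₐ[B] R' := Algebra.TensorProduct.lift (Algebra.ofId B R')
    ({ μX with commutes' := fun r => RingHom.congr_fun hμY r } : RX →ₐ[RY] R') fun _ _ => Commute.all _ _
  have hθμ : ∀ d, θ (μ d) = d := fun d => by
    induction d using TensorProduct.induction_on with
    | zero => rw [map_zero, map_zero]
    | add p q hp hq => rw [map_add, map_add, hp, hq]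
    | tmul c d =>
      refine (congrArg θ (Algebra.TensorProduct.lift_tmul _ _ _ c d)).trans ?_
      rw [map_mul]
      show θ (algebraMap O₁ R' (ν₀ c)) * θ (μX d) = _
      rw [hθB, ← RingHom.comp_apply θ, hθX]
      show (c ⊗ₜ[RY] (1 : RX)) * ((1 : B) ⊗ₜ[RY] d) = _
      rw [Algebra.TensorProduct.tmul_mul_tmul, mul_one, one_mul]
  haveI := connectedSpace_of_retract μ (fun a b h => by rw [← hθμ a, ← hθμ b, h]) h0 Ω fun z hz =>
    ⟨⟨z, (mem_integralClosure_iff RY Ω).2 (isIntegral_trans (R := RY) _ hz)⟩, rfl⟩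
  exact GeomSep.connectedSpace_of_equiv (Algebra.TensorProduct.cancelBaseChange RY B Ω Ω RX).symm.toRingEquiv

end Groth.Agent.HenselConn
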