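import Groth.Agent.HenselConn.Piece
import Groth.Agent.HenselConn.StrictPoint
import Groth.Agent.BigSiteLib.EtDescSec.Discrete

/-!
# Lifting germs of a descent datum to etale neighbourhoods
-/

set_option autoImplicit false

universe u

open CategoryTheory CategoryTheory.Limits AlgebraicGeometry Opposite TopologicalSpace
open Groth.Agent.BigSiteLib.DescSec

namespace Groth.Agent.HenselConn

set_option backward.isDefEq.respectTransparency.types false

variable {X' X : Scheme.{u}} {f : X' ⟶ X} {F' : EtDesc.Sh X'}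
  (φ : (EtDesc.pullSh (pullback.fst f f)).obj F' ≅ (EtDesc.pullSh (pullback.snd f f)).obj F')
  (hφ : EtDesc.IsCocycle F' φ) {S S' : Scheme.{u}} (π : S ⟶ X) (h : S' ⟶ S) (hh : EtDesc.IsUnivSubmersive h)
  {U : X'.Etale} (s₀ : ToType (F'.obj.obj (op U))) (u : S' ⟶ U.left) (hu : (u ≫ U.hom) ≫ f = h ≫ π)
  (hm : ∀ (Ω : Type u) [Field Ω] [IsSepClosed Ω] (ω₁ ω₂ : Spec (CommRingCat.of Ω) ⟶ S'), ω₁ ≫ h = ω₂ ≫ h →
    Rel φ s₀ (ω₁ ≫ u) s₀ (ω₂ ≫ u))
  {Ω : Type u} [Field Ω] [IsSepClosed Ω] {ξ₀ : Spec (CommRingCat.of Ω) ⟶ X'} (ω₀ : Spec (CommRingCat.of Ω) ⟶ S')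
  (hξ : (ω₀ ≫ u) ≫ U.hom = ξ₀)

/-- The conclusion: the given germ comes from a glued section near the base point. -/
def HasLift : Prop :=
  ∃ (V : X.Etale) (v : (Scheme.pointSmallEtale (ξ₀ ≫ f)).fiber.obj V) (s : ToType (F'.obj.obj (op ((EtCoh.bc f).obj V)))),
    lhs f (pullback.fst f f) (pullback.snd f f) (pullback.fst f f ≫ f) rfl φ.hom V s =
      side (pullback.fst f f ≫ f) (pullback.snd f f) f pullback.condition.symm F' V s ∧
    germ F' ξ₀ _ (EtFound.liftPt f rfl v) s = germ F' ξ₀ U (ptMk (ω₀ ≫ u) hξ) s₀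

include hu hξ in
omit hm in
theorem base_point {V : X.Etale} (ρ : Lift π V) : ((ω₀ ≫ h) ≫ ρ.1) ≫ V.hom = ξ₀ ≫ f := by
  rw [← hξ]
  refine (Category.assoc _ _ _).trans ((congrArg ((ω₀ ≫ h) ≫ ·) ρ.2).trans ?_)
  refine (Category.assoc _ _ _).trans ((congrArg (ω₀ ≫ ·) hu.symm).trans ?_)
  exact ((congrArg (ω₀ ≫ ·) (Category.assoc _ _ _)).trans (Category.assoc _ _ _).symm).trans (Category.assoc _ _ _).symm

include hφ hh hu hm in
/-- The universally open case. -/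
theorem hasLift_open [UniversallyOpen f] [Flat π] (hB : HasBasis π) : HasLift φ s₀ u ω₀ hξ := by
  have R₀ : Rel φ s₀ (ω₀ ≫ u) s₀ (ω₀ ≫ u) := (rel_self φ hφ (ptMk _ hξ) (ptMk _ hξ) rfl rfl).2 rfl
  have he : ((ω₀ ≫ u) ≫ U.hom) ≫ f = (ω₀ ≫ h) ≫ π :=
    (congrArg (· ≫ f) (Category.assoc _ _ _)).trans ((Category.assoc _ _ _).trans
      ((congrArg (ω₀ ≫ ·) hu).trans (Category.assoc _ _ _).symm))
  obtain ⟨V, ρ, P, l, hl, hlW⟩ := exists_piece φ hφ π h hh s₀ u hu hm hB s₀ (ω₀ ≫ u) ω₀ he R₀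
  haveI := flat_lift π ρ
  obtain ⟨O, hO, hR⟩ := exists_pairs_open φ hφ π h hh s₀ u ρ (fun _ : PUnit => P)
  let q : P.W.left ⟶ V.left := P.r.left ≫ pullback.fst V.hom f
  haveI : Etale P.r.left := EtFound.etale_left _
  have huo : UniversallyOpen (pullback.fst V.hom f) := MorphismProperty.pullback_fst (P := @UniversallyOpen) V.hom f ‹UniversallyOpen f›
  haveI : UniversallyOpen q := MorphismProperty.comp_mem (W := @UniversallyOpen) _ _ inferInstance huo
  let O' : V.left.Opens := O ⊓ ⟨Set.range q, (Scheme.Hom.isOpenMap q).isOpen_range⟩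
  let V' := EtFound.restrictEtale V O'
  let W' := EtFound.restrictEtale P.W (q ⁻¹ᵁ O')
  let q' : W'.left ⟶ V'.left := q ∣_ O'
  have hq' : q' ≫ O'.ι = (q ⁻¹ᵁ O').ι ≫ q := morphismRestrict_ι _ _
  haveI : UniversallyOpen q' := MorphismProperty.of_isPullback (P := @UniversallyOpen) (isPullback_morphismRestrict q O').flip inferInstance
  haveI : Surjective q' := ⟨fun y => by
    obtain ⟨x, hx⟩ := y.2.2
    exact ⟨⟨x, show q x ∈ O' from hx.symm ▸ y.2⟩, Subtype.ext ((morphismRestrict_base_coe q O' _).trans hx)⟩⟩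
  have hlq : l ≫ q = (ω₀ ≫ h) ≫ ρ.1 := (Category.assoc _ _ _).symm.trans hl
  obtain ⟨ω', hω'⟩ := exists_lift_opens l (q ⁻¹ᵁ O') (fun s => by
    show q (l s) ∈ O'
    refine ⟨?_, ⟨_, rfl⟩⟩
    rw [← Scheme.Hom.comp_apply, hlq, Scheme.Hom.comp_apply]
    exact hO _)
  let v : (Scheme.pointSmallEtale (ξ₀ ≫ f)).fiber.obj V' := ptMk (ω' ≫ q') (by
    show (ω' ≫ q') ≫ O'.ι ≫ V.hom = _
    refine (Category.assoc _ _ _).trans ((congrArg (ω' ≫ ·) ((Category.assoc _ _ _).symm.trans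
      ((congrArg (· ≫ V.hom) hq').trans (Category.assoc _ _ _)))).trans ?_)
    refine ((Category.assoc _ _ _).symm.trans (congrArg (· ≫ (q ≫ V.hom)) hω')).trans ?_
    exact ((Category.assoc _ _ _).symm.trans (congrArg (· ≫ V.hom) hlq)).trans (base_point π h u hu ω₀ hξ ρ))
  let ι' : W' ⟶ P.W := EtFound.restrictEtaleHom P.W (q ⁻¹ᵁ O')
  have h₁ : ((ω' ≫ 𝟙 W'.left) ≫ W'.hom) = ξ₀ := by
    show (ω' ≫ 𝟙 W'.left) ≫ ((q ⁻¹ᵁ O').ι ≫ P.W.hom) = ξ₀
    refine (congrArg (· ≫ _) (Category.comp_id ω')).trans ?_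
    exact ((Category.assoc _ _ _).symm.trans (congrArg (· ≫ P.W.hom) hω')).trans (hlW.trans hξ)
  obtain ⟨s, hs, hg⟩ := exists_lift_of_cover φ hφ ξ₀ (germ F' ξ₀ U (ptMk (ω₀ ≫ u) hξ) s₀) v q'
    (isUnivSubmersive_of_open q') (F'.obj.map ι'.op P.x) (𝟙 W'.left) (by
      show (𝟙 W'.left ≫ (q ⁻¹ᵁ O').ι ≫ P.W.hom) ≫ f = q' ≫ O'.ι ≫ V.hom
      refine (congrArg (· ≫ f) (Category.id_comp _)).trans ((Category.assoc _ _ _).trans (Eq.trans ?_
        ((Category.assoc _ _ _).symm.trans ((congrArg (· ≫ V.hom) hq').trans (Category.assoc _ _ _))).symm))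
      refine congrArg ((q ⁻¹ᵁ O').ι ≫ ·) ?_
      refine Eq.trans ?_ (Category.assoc _ _ _).symm
      refine Eq.trans ?_ (congrArg (P.r.left ≫ ·) pullback.condition.symm)
      refine Eq.trans ?_ (Category.assoc _ _ _)
      exact congrArg (· ≫ f) (MorphismProperty.Over.w P.r).symm)
    (fun Ω' _ _ ω₁ ω₂ e => by
      rw [Category.comp_id, Category.comp_id]
      have hι : ∀ ω : Spec (CommRingCat.of Ω') ⟶ W'.left, (ω ≫ ι'.left) ≫ q = (ω ≫ q') ≫ O'.ι := fun ω => by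
        rw [Category.assoc, Category.assoc]
        exact congrArg (ω ≫ ·) hq'.symm
      have := hR PUnit.unit PUnit.unit Ω' (ω₁ ≫ ι'.left) (ω₂ ≫ ι'.left)
        ((hι ω₁).trans ((congrArg (· ≫ O'.ι) e).trans (hι ω₂).symm)) (by
          show ((ω₁ ≫ ι'.left) ≫ q).base default ∈ O
          rw [hι, Scheme.Hom.comp_apply]
          exact ((ω₁ ≫ q').base default).2.1)
      exact ((rel_map_right ι' ω₁).2 (((rel_map_right ι' ω₂).2 this).symm hφ)).symm hφ)
    ω' rfl (congrArg (· ≫ f) h₁) (by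
      refine (rel_iff φ (ptMk (ω' ≫ 𝟙 W'.left) rfl) (ptMk (ω₀ ≫ u) hξ) rfl rfl (congrArg (· ≫ f) h₁)).1 ?_
      refine ((rel_map_right ι' (ω' ≫ 𝟙 W'.left)).2 ?_).symm hφ
      have e : (ω' ≫ 𝟙 W'.left) ≫ ι'.left = l := (congrArg (· ≫ ι'.left) (Category.comp_id ω')).trans hω'
      exact (congrArg (fun k => Rel φ s₀ (ω₀ ≫ u) P.x k) e).mpr (P.rel Ω ω₀ l hl))
  exact ⟨V', v, s, hs, hg⟩

include hφ hu in
omit hm in
/-- Pieces which cover and agree glue to a lift. -/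
theorem hasLift_glue {V : X.Etale} (ρ : Lift π V) {ι : Type} (P : ι → Piece φ π h s₀ u ρ)
    (hcov : ∀ z : ((EtCoh.bc f).obj V).left, ∃ i, z ∈ Set.range (P i).r.left)
    (hR : ∀ i j (Ω : Type u) [Field Ω] [IsSepClosed Ω]
      (li : Spec (CommRingCat.of Ω) ⟶ (P i).W.left) (lj : Spec (CommRingCat.of Ω) ⟶ (P j).W.left),
      li ≫ (P i).r.left ≫ pullback.fst V.hom f = lj ≫ (P j).r.left ≫ pullback.fst V.hom f →
      Rel φ (P i).x li (P j).x lj) : HasLift φ s₀ u ω₀ hξ := by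
  have hcov' : Sieve.generate (Presieve.ofArrows (fun i => (P i).W) (fun i => (P i).r)) ∈
      X'.smallEtaleTopology ((EtCoh.bc f).obj V) := by
    rw [EtFound.mem_topology_iff]
    intro z
    obtain ⟨i, w, hw⟩ := hcov z
    exact ⟨(P i).W, (P i).r, w, ⟨_, 𝟙 _, (P i).r, ⟨i⟩, Category.id_comp _⟩, hw⟩
  have hcomp : ∀ i j (A : X'.Etale) (a : A ⟶ (P i).W) (b : A ⟶ (P j).W), a ≫ (P i).r = b ≫ (P j).r →
      F'.obj.map a.op (P i).x = F'.obj.map b.op (P j).x := fun i j A a b e => by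
    refine eq_of_locEq F' fun y => ?_
    obtain ⟨Ω', _, _, l, hl⟩ := exists_geometric y
    have e' : a.left ≫ (P i).r.left = b.left ≫ (P j).r.left := congrArg (fun k : A ⟶ _ => k.left) e
    have R := hR i j Ω' (l ≫ a.left) (l ≫ b.left) (by
      rw [Category.assoc, Category.assoc, ← Category.assoc a.left, ← Category.assoc b.left]
      exact congrArg (fun k : A.left ⟶ ((EtCoh.bc f).obj V).left => l ≫ k ≫ pullback.fst V.hom f) e')
    have R' := ((rel_map_right a l).2 (((rel_map_right b l).2 R).symm hφ)).symm hφ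
    exact locEq_of_germ (l ≫ A.hom) (ptMk l rfl) ((rel_self φ hφ (ptMk l rfl) (ptMk l rfl) rfl rfl).1 R') y hl
  obtain ⟨s, hs, -⟩ := (Presieve.isSheafFor_arrows_iff _ _).1 ((Presieve.isSheafFor_iff_generate _).2
    (((isSheaf_iff_isSheaf_of_type _ _).1 F'.property) _ hcov')) (fun i => (P i).x) hcomp
  have hlift : ∀ {Ω' : Type u} [Field Ω'] [IsSepClosed Ω'] (k : Spec (CommRingCat.of Ω') ⟶ ((EtCoh.bc f).obj V).left),
      ∃ i, ∃ l : Spec (CommRingCat.of Ω') ⟶ (P i).W.left, l ≫ (P i).r.left = k := fun {Ω'} _ _ k => by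
    obtain ⟨i, w, hw⟩ := hcov (k.base (default : Spec (CommRingCat.of Ω')))
    obtain ⟨l, hl, -⟩ := EtFound.exists_lift_point (P i).r (ptMk k rfl) w hw
    exact ⟨i, l.left, congrArg (fun t : (Scheme.pointSmallEtale (k ≫ ((EtCoh.bc f).obj V).hom)).fiber.obj _ =>
      (t.left : Spec (CommRingCat.of Ω') ⟶ _)) hl⟩
  let v : (Scheme.pointSmallEtale (ξ₀ ≫ f)).fiber.obj V := ptMk ((ω₀ ≫ h) ≫ ρ.1) (base_point π h u hu ω₀ hξ ρ)
  refine ⟨V, v, s, lhs_eq_side φ hφ s fun z => ?_, ?_⟩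
  · obtain ⟨Ω', _, _, k, hk⟩ := exists_geometric z
    obtain ⟨i, li, hli⟩ := hlift (k ≫ side₁ f V)
    obtain ⟨j, lj, hlj⟩ := hlift (k ≫ side₂ f V)
    have R := hR i j Ω' li lj (by
      rw [← Category.assoc, ← Category.assoc, hli, hlj, Category.assoc, Category.assoc]
      exact congrArg (k ≫ ·) ((pullback.lift_fst _ _ _).trans (pullback.lift_fst _ _ _).symm))
    rw [← hs i, ← hs j] at R
    have R' := (rel_map_right (P j).r lj).1 R
    have R'' := ((rel_map_right (P i).r li).1 (R'.symm hφ)).symm hφ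
    rw [hli, hlj] at R''
    exact ⟨Ω', inferInstance, inferInstance, k, hk, R''⟩
  · let t := EtFound.liftPt f (η := ξ₀ ≫ f) rfl v
    obtain ⟨i, l, hl⟩ := hlift (t.left : Spec (CommRingCat.of Ω) ⟶ ((EtCoh.bc f).obj V).left)
    have e : (l ≫ (P i).r.left) ≫ pullback.fst V.hom f = (ω₀ ≫ h) ≫ ρ.1 := by
      rw [hl]; exact EtFound.liftPt_fst f rfl v
    have R := (P i).rel Ω ω₀ l e
    rw [← hs i, rel_map_right] at R
    exact ((rel_self φ hφ (ptMk (ω₀ ≫ u) hξ) t rfl hl.symm).1 R).symm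

include hφ hh hu hm in
/-- The quasi-compact case. -/
theorem hasLift_qc [QuasiCompact f] [Flat π] [CompactSpace S] (hB : HasBasis π) : HasLift φ s₀ u ω₀ hξ := by
  haveI : CompactSpace ↥(pullback f π) := QuasiCompact.compactSpace_of_compactSpace (pullback.snd f π)
  let Q : Set ↥(pullback f π) → Prop := fun K =>
    ∃ (V : X.Etale) (ρ : Lift π V) (ι : Type) (_ : Finite ι) (P : ι → Piece φ π h s₀ u ρ),
      ∀ t ∈ K, ∃ i, toXV f π ρ t ∈ Set.range (P i).r.left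
  obtain ⟨V, ρ, ι, _, P, hP⟩ : Q Set.univ := by
    refine IsCompact.induction_on (p := Q) isCompact_univ ?_ ?_ ?_ ?_
    · refine ⟨MorphismProperty.Over.mk ⊤ (𝟙 X) (inferInstanceAs (Etale (𝟙 X))), ⟨π, Category.comp_id _⟩, PEmpty,
        inferInstance, fun i => i.elim, fun t ht => ht.elim⟩
    · rintro A B hAB ⟨V, ρ, ι, hι, P, hP⟩
      exact ⟨V, ρ, ι, hι, P, fun t ht => hP t (hAB ht)⟩
    · rintro A B ⟨V₁, ρ₁, ι₁, hι₁, P₁, hP₁⟩ ⟨V₂, ρ₂, ι₂, hι₂, P₂, hP₂⟩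
      haveI : Etale V₁.hom := V₁.prop
      haveI : Etale V₂.hom := V₂.prop
      let V : X.Etale := MorphismProperty.Over.mk ⊤ (pullback.fst V₁.hom V₂.hom ≫ V₁.hom) (by
        haveI : Etale (pullback.fst V₁.hom V₂.hom) := MorphismProperty.pullback_fst _ _ inferInstance
        exact inferInstanceAs (Etale (pullback.fst V₁.hom V₂.hom ≫ V₁.hom)))
      let m₁ : V ⟶ V₁ := MorphismProperty.Over.homMk (pullback.fst V₁.hom V₂.hom) rfl
      let m₂ : V ⟶ V₂ := MorphismProperty.Over.homMk (pullback.snd V₁.hom V₂.hom) pullback.condition.symm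
      let ρ : Lift π V := ⟨pullback.lift ρ₁.1 ρ₂.1 (ρ₁.2.trans ρ₂.2.symm),
        ((Category.assoc _ _ _).symm.trans (congrArg (· ≫ V₁.hom) (pullback.lift_fst _ _ _))).trans ρ₁.2⟩
      choose R₁ j₁ _ _ _ hc₁ using fun i => (P₁ i).exists_map φ π h s₀ u m₁ ρ (pullback.lift_fst _ _ _)
      choose R₂ j₂ _ _ _ hc₂ using fun i => (P₂ i).exists_map φ π h s₀ u m₂ ρ (pullback.lift_snd _ _ _)
      refine ⟨V, ρ, ι₁ ⊕ ι₂, inferInstance, Sum.elim R₁ R₂, ?_⟩
      rintro t (ht | ht)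
      · obtain ⟨i, hi⟩ := hP₁ t ht
        exact ⟨Sum.inl i, (hc₁ i t).2 hi⟩
      · obtain ⟨i, hi⟩ := hP₂ t ht
        exact ⟨Sum.inr i, (hc₂ i t).2 hi⟩
    · intro t _
      obtain ⟨p, hp⟩ := (fst_surjective_isQuotientMap h hh (pullback.snd f π)).1 t
      obtain ⟨Ω', _, _, τ, hτ⟩ := exists_geometric p
      let τ₀ : Spec (CommRingCat.of Ω') ⟶ pullback f π := τ ≫ pullback.fst (pullback.snd f π) h
      let ω : Spec (CommRingCat.of Ω') ⟶ S' := τ ≫ pullback.snd (pullback.snd f π) h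
      have hτ₀ : τ₀.base (default : Spec (CommRingCat.of Ω')) = t :=
        (Scheme.Hom.comp_apply _ _ _).trans ((congrArg _ hτ).trans hp)
      have hωh : τ₀ ≫ pullback.snd f π = ω ≫ h := by simp only [τ₀, ω, Category.assoc, pullback.condition]
      let k₁ : Spec (CommRingCat.of Ω') ⟶ X' := τ₀ ≫ pullback.fst f π
      have hk₁ : k₁ ≫ f = (ω ≫ h) ≫ π := by
        simp only [k₁, Category.assoc, pullback.condition]
        rw [← Category.assoc τ₀, hωh, Category.assoc]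
      have hξ' : ((ω ≫ u) ≫ U.hom) ≫ f = k₁ ≫ f :=
        ((congrArg (· ≫ f) (Category.assoc _ _ _)).trans ((Category.assoc _ _ _).trans
          ((congrArg (ω ≫ ·) hu).trans (Category.assoc _ _ _).symm))).trans hk₁.symm
      obtain ⟨U₁, t₁, x₁, hx₁⟩ := germ_surjective F' k₁
        (Phi φ.hom (IsPullback.of_hasPullback f f) ((ω ≫ u) ≫ U.hom) k₁ hξ' (germ F' _ U (ptMk (ω ≫ u) rfl) s₀))
      have R : Rel φ s₀ (ω ≫ u) x₁ t₁.left := (rel_iff φ (ptMk (ω ≫ u) rfl) t₁ rfl rfl hξ').2 hx₁.symm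
      obtain ⟨V, ρ, P, l, hl, hlW⟩ := exists_piece φ hφ π h hh s₀ u hu hm hB x₁ t₁.left ω
        ((congrArg (· ≫ f) (CategoryTheory.Over.w t₁)).trans hk₁) R
      have hkey : τ₀ ≫ toXV f π ρ = l ≫ P.r.left := by
        refine pullback.hom_ext ?_ ?_
        · exact ((Category.assoc τ₀ _ _).trans ((congrArg (τ₀ ≫ ·) (toXV_fst f π ρ)).trans
            ((Category.assoc τ₀ _ _).symm.trans (congrArg (· ≫ ρ.1) hωh)))).trans hl.symm
        · refine (Category.assoc τ₀ _ _).trans ((congrArg (τ₀ ≫ ·) (toXV_snd f π ρ)).trans ?_)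
          refine Eq.trans ?_ ((Category.assoc _ _ _).trans (congrArg (l ≫ ·) (MorphismProperty.Over.w P.r))).symm
          exact (hlW.trans (CategoryTheory.Over.w t₁)).symm
      have hop : IsOpen (toXV f π ρ ⁻¹' Set.range P.r.left) := by
        haveI := EtFound.etale_left P.r
        exact (Scheme.Hom.isOpenMap _).isOpen_range.preimage (toXV f π ρ).continuous
      refine ⟨_, mem_nhdsWithin_of_mem_nhds (hop.mem_nhds ?_), V, ρ, PUnit, inferInstance, fun _ => P,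
        fun t ht => ⟨PUnit.unit, ht⟩⟩
      show toXV f π ρ t ∈ Set.range P.r.left
      rw [← hτ₀, ← Scheme.Hom.comp_apply, hkey, Scheme.Hom.comp_apply]
      exact ⟨_, rfl⟩
  haveI := flat_lift π ρ
  obtain ⟨O₁, hO₁, hR⟩ := exists_pairs_open φ hφ π h hh s₀ u ρ P
  haveI : QuasiCompact (pullback.fst V.hom f) := MorphismProperty.pullback_fst (P := @QuasiCompact) V.hom f ‹_›
  obtain ⟨O₀, hO₀, hC₀⟩ := exists_shrink (pullback.fst V.hom f) ρ.1 (C := (⋃ i, Set.range (P i).r.left)ᶜ)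
    ((isOpen_iUnion fun i => by
      haveI := EtFound.etale_left (P i).r
      exact (Scheme.Hom.isOpenMap _).isOpen_range).isClosed_compl) (fun c hc s hcs => by
      obtain ⟨t, rfl⟩ := exists_point_over f π ρ c s hcs
      exact hc (Set.mem_iUnion.2 (hP t (Set.mem_univ _))))
  let O := O₀ ⊓ O₁
  let V' := EtFound.restrictEtale V O
  let m : V' ⟶ V := EtFound.restrictEtaleHom V O
  obtain ⟨ρl, hρl⟩ := exists_lift_opens ρ.1 O (fun s => ⟨hO₀ s, hO₁ s⟩)
  let ρ' : Lift π V' := ⟨ρl, by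
    show ρl ≫ O.ι ≫ V.hom = π
    rw [← Category.assoc, hρl]; exact ρ.2⟩
  choose P' j hx hsq hbig _ using fun i => (P i).exists_map φ π h s₀ u m ρ' hρl
  have hover : ∀ z : ((EtCoh.bc f).obj V').left, pullback.fst V.hom f (((EtCoh.bc f).map m).left z) ∈ O := fun z => by
    have e := congrArg (fun k : ((EtCoh.bc f).obj V').left ⟶ V.left => k z) (EtCoh.isPullback_bc_map f m).w
    exact (((Scheme.Hom.comp_apply _ _ _).symm.trans e).trans (Scheme.Hom.comp_apply _ _ _)) ▸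
      (pullback.fst V'.hom f z).2
  refine hasLift_glue φ hφ π h s₀ u hu ω₀ hξ ρ' P' (fun z => ?_) (fun i k Ω' _ _ li lk e => ?_)
  · obtain ⟨i, w, hw⟩ : ∃ i, ((EtCoh.bc f).map m).left z ∈ Set.range (P i).r.left :=
      Set.mem_iUnion.1 (by_contra fun hn => hC₀ _ hn (hover z).1)
    obtain ⟨w', -, hw'⟩ := Scheme.exists_preimage_of_isPullback (hsq i) w z hw
    exact ⟨i, w', hw'⟩
  · have hq : ∀ (i) (l : Spec (CommRingCat.of Ω') ⟶ (P' i).W.left),
        (l ≫ (j i).left) ≫ (P i).r.left ≫ pullback.fst V.hom f = (l ≫ (P' i).r.left ≫ pullback.fst V'.hom f) ≫ m.left :=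
      fun i l => (Category.assoc _ _ _).trans ((congrArg (l ≫ ·) (hbig i).w).trans (Category.assoc _ _ _).symm)
    have R := hR i k Ω' (li ≫ (j i).left) (lk ≫ (j k).left) ((hq i li).trans ((congrArg (· ≫ m.left) e).trans (hq k lk).symm)) (by
      rw [hq i li, Scheme.Hom.comp_apply]
      exact ((li ≫ (P' i).r.left ≫ pullback.fst V'.hom f).base default).2.2)
    rw [hx i, hx k]
    exact ((rel_map_right (j i) li).2 (((rel_map_right (j k) lk).2 R).symm hφ)).symm hφ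

end Groth.Agent.HenselConn
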