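import Groth.Agent.HenselConn.Basic

/-!
# Geometrically connected fibres over henselian and strictly henselian bases
-/

set_option autoImplicit false

universe u

open TensorProduct IsLocalRing

namespace Groth.Agent.HenselConn

variable (A B : Type u) [CommRing A] [IsNoetherianRing A] [HenselianLocalRing A] [CommRing B] [IsLocalRing B]
  [Algebra A B] [IsLocalHom (algebraMap A B)] [Module.Flat A B]

/-- Over a strictly henselian base the fibres are geometrically connected. -/
theorem connectedSpace_fibre_strict [IsSepClosed (ResidueField A)]
    (hgeo : ∀ (L : Type u) [Field L] [Algebra A L], IsReduced (L ⊗[A] B))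
    (K : Type u) [Field K] [Algebra A K] : ConnectedSpace (PrimeSpectrum (K ⊗[A] B)) := by
  refine connectedSpace_fibre A B hgeo (fun S _ _ _ _ => ?_)
    (fun S _ _ _ _ => FormCat.isLocalRing_of_finite_domain A S) K
  haveI := FormCat.isLocalRing_of_finite_domain A S
  haveI := Hensel.isLocalHom_of_isIntegral_local A S
  haveI : IsPurelyInseparable (ResidueField A) (ResidueField S) := by
    convert (Hensel.residueField_of_isIntegral A S).2
    refine Algebra.algebra_ext _ _ fun c => ?_
    obtain ⟨a, rfl⟩ := residue_surjective c
    rfl
  exact Hensel.isLocalRing_tensor A S B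

/-- Over a henselian base, without residue extension, the fibres are geometrically connected. -/
theorem connectedSpace_fibre_residue
    (hgeo : ∀ (L : Type u) [Field L] [Algebra A L], IsReduced (L ⊗[A] B))
    (hres : Function.Bijective (ResidueField.map (algebraMap A B)))
    (K : Type u) [Field K] [Algebra A K] : ConnectedSpace (PrimeSpectrum (K ⊗[A] B)) := by
  refine connectedSpace_fibre A B hgeo (fun S _ _ _ _ => ?_)
    (fun S _ _ _ _ => FormCat.isLocalRing_of_finite_domain A S) K
  haveI := FormCat.isLocalRing_of_finite_domain A S
  haveI := Hensel.isLocalHom_of_isIntegral_local A S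
  exact isLocalRing_tensor_of_residue A B hres S

end Groth.Agent.HenselConn
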