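import Groth.Agent.HenselConn.RadicialModel

/-!
# Generically connected geometric fibres of strict localizations
-/

set_option autoImplicit false

universe u

open CategoryTheory AlgebraicGeometry IsLocalRing TensorProduct Limits

namespace Groth.Agent.HenselConn.Radicial

attribute [local instance] IsAffineOpen.isOpenImmersion_fromSpec

set_option backward.isDefEq.respectTransparency.types false

/-- The localization of a radicial extension is radicial. -/
theorem isRad_away {A K : Type u} [CommRing A] [CommRing K] [Algebra A K] (q : ℕ) (hq : q = 1 ∨ q.Prime ∧ (q : K) = 0)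
    (hpow : ∀ x : K, ∃ n : ℕ, x ^ q ^ n ∈ (algebraMap A K).range) (hker : RingHom.ker (algebraMap A K) ≤ nilradical A)
    (a : A) (R K' : Type u) [CommRing R] [CommRing K'] [Algebra A R] [IsLocalization.Away a R] [Algebra K K']
    [IsLocalization.Away (algebraMap A K a) K'] [Algebra R K']
    (hsq : ∀ x, algebraMap R K' (algebraMap A R x) = algebraMap K K' (algebraMap A K x)) : IsRad R K' := by
  have hq' : q = 1 ∨ q.Prime ∧ (q : K') = 0 := hq.imp id fun h => ⟨h.1, by rw [← map_natCast (algebraMap K K'), h.2, map_zero]⟩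
  refine isRad_of_pow q hq' (fun x => ?_) fun r hr => ?_
  · obtain ⟨⟨k, _, m, rfl⟩, hk⟩ := IsLocalization.surj (Submonoid.powers (algebraMap A K a)) x
    obtain ⟨n, c, hc⟩ := hpow k
    obtain ⟨v, hv⟩ := (IsLocalization.Away.algebraMap_isUnit (S := R) a).exists_right_inv
    refine ⟨n, algebraMap A R c * v ^ (m * q ^ n), ?_⟩
    have hv' : algebraMap K K' (algebraMap A K a) * algebraMap R K' v = 1 := by rw [← hsq, ← map_mul, hv, map_one]
    dsimp only at hk
    rw [map_pow] at hk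
    rw [map_mul, map_pow, hsq, hc, map_pow, ← hk, mul_pow, ← pow_mul, mul_assoc, ← mul_pow, hv', one_pow, mul_one]
  · obtain ⟨⟨c, _, m, rfl⟩, hc⟩ := IsLocalization.surj (Submonoid.powers a) r
    have h0 : algebraMap K K' (algebraMap A K c) = 0 := by
      rw [← hsq, ← hc, map_mul, show algebraMap R K' r = 0 from hr, zero_mul]
    obtain ⟨⟨_, j, rfl⟩, hj⟩ := (IsLocalization.map_eq_zero_iff (Submonoid.powers (algebraMap A K a)) K' _).1 h0
    have hn : IsNilpotent (a ^ j * c) := mem_nilradical.1 (hker (by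
      show algebraMap A K (a ^ j * c) = 0
      rw [map_mul, map_pow]; exact hj))
    have h1 : IsNilpotent (algebraMap A R (a ^ j * c)) := hn.map _
    rw [map_mul, ← hc, ← mul_assoc, mul_comm (algebraMap A R (a ^ j)) r, mul_assoc, ← map_mul, ← pow_add, mul_comm] at h1
    obtain ⟨v, hv⟩ := ((IsLocalization.Away.algebraMap_isUnit (S := R) a).pow (j + m)).exists_left_inv
    refine mem_nilradical.2 ?_
    have h2 := (Commute.all v _).isNilpotent_mul_left h1
    rwa [← mul_assoc, map_pow, hv, one_mul] at h2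

/-- Near the generic point the geometric fibres of strict localizations are connected. -/
theorem exists_connected_away (A : Type u) [CommRing A] [IsNoetherianRing A] [(nilradical A).IsPrime] (B : Type u)
    [CommRing B] [Algebra A B] [Algebra.FiniteType A B] :
    ∃ a ∉ nilradical A, ∀ (a' : A), a ∣ a' → ∀ (R' RY RX : Type u) [CommRing R'] [Algebra A R'],
      IsUnit (algebraMap A R' a') → ∀ [CommRing RY] [Algebra R' RY] [HenselianLocalRing RY] [IsSepClosed (ResidueField RY)]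
        [CommRing RX] [IsLocalRing RX] [Algebra RY RX] [IsLocalHom (algebraMap RY RX)]
        [Algebra (B ⊗[A] R') RX] [Module.Flat (B ⊗[A] R') RX],
        HasEtLift R' RY → HasEtLift (B ⊗[A] R') RX →
        (∀ r : R', algebraMap (B ⊗[A] R') RX ((1 : B) ⊗ₜ[A] r) = algebraMap RY RX (algebraMap R' RY r)) →
        ∀ (Ω : Type u) [Field Ω] [IsAlgClosed Ω] (s : Spec (CommRingCat.of Ω) ⟶ Spec (CommRingCat.of RY)),
          ConnectedSpace ↥(pullback (Spec.map (CommRingCat.ofHom (algebraMap RY RX))) s) := by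
  obtain ⟨K, _, _, _, q, hq, hpow, hker, a, ha, hgood⟩ := exists_away A B
  refine ⟨a, ha, fun a' haa' R' RY RX _ _ hu _ _ _ _ _ _ _ _ _ _ hY hX hc => ?_⟩
  let R := Localization.Away a'
  let K' := Localization.Away (algebraMap A K a')
  let φ : R →+* K' := IsLocalization.Away.map R K' (algebraMap A K) a'
  letI : Algebra R K' := φ.toAlgebra
  have hsq : ∀ x, algebraMap R K' (algebraMap A R x) = algebraMap K K' (algebraMap A K x) := fun x =>
    IsLocalization.map_eq (M := Submonoid.powers a') (S := R) (Q := K') (g := algebraMap A K)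
      (T := Submonoid.powers (algebraMap A K a')) (by rintro _ ⟨n, rfl⟩; exact ⟨n, (map_pow _ _ _).symm⟩) x
  haveI : IsScalarTower A R K' := IsScalarTower.of_algebraMap_eq fun x =>
    (IsScalarTower.algebraMap_apply A K K' x).trans (hsq x).symm
  have hrad := isRad_away q hq hpow hker a' R K' hsq
  obtain ⟨hflat, hgeo⟩ := hgood a' haa' K'
  let ψ : R →+* R' := IsLocalization.Away.lift a' hu
  letI : Algebra R R' := ψ.toAlgebra
  haveI : IsScalarTower A R R' := IsScalarTower.of_algebraMap_eq fun x => (IsLocalization.Away.lift_eq a' hu x).symm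
  letI : Algebra R RY := ((algebraMap R' RY).comp (algebraMap R R')).toAlgebra
  haveI : IsScalarTower R R' RY := IsScalarTower.of_algebraMap_eq' rfl
  -- the model
  let C := (K ⊗[A] B) ⧸ nilradical (K ⊗[A] B)
  let C' := K' ⊗[K] C
  haveI : Module.Flat K' C' := hflat
  let A₁ := R ⊗[A] B
  haveI : SMulCommClass R K K' := ⟨fun r k z => by simp only [Algebra.smul_def]; exact mul_left_comm _ _ _⟩
  haveI : IsScalarTower R K' C' := IsScalarTower.of_algebraMap_eq (R := R) (S := K') (A := C') fun r => rfl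
  let mk : K ⊗[A] B →+* C := Ideal.Quotient.mk _
  let fB : B →+* C' := (Algebra.TensorProduct.includeRight : C →ₐ[K] C').toRingHom.comp
    (mk.comp (Algebra.TensorProduct.includeRight : B →ₐ[A] K ⊗[A] B).toRingHom)
  obtain ⟨g₁, hg₁R, hg₁B⟩ := exists_pair (R := A) (A := R) (B := B) (C := C') (algebraMap R C') fB fun x => by
    show algebraMap K' C' (algebraMap R K' (algebraMap A R x)) =
      (1 : K') ⊗ₜ[K] mk ((1 : K) ⊗ₜ[A] algebraMap A B x)
    rw [hsq, ← Algebra.TensorProduct.tmul_one_eq_one_tmul (R := A)]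
    exact Algebra.TensorProduct.tmul_one_eq_one_tmul (R := K) (A := K') (B := C) (algebraMap A K x)
  let g₁' : A₁ →ₐ[R] C' := { g₁ with commutes' := fun r => hg₁R r }
  let qA : K' ⊗[R] A₁ →ₐ[K'] C' := Algebra.TensorProduct.lift (Algebra.ofId K' C') g₁' fun _ _ => Commute.all (S := C') _ _
  have hqA : ∀ k z, qA (k ⊗ₜ[R] z) = algebraMap K' C' k * g₁ z := fun k z => Algebra.TensorProduct.lift_tmul _ _ _ k z
  have hqB : ∀ b, qA ((1 : K') ⊗ₜ[R] ((1 : R) ⊗ₜ[A] b)) = fB b := fun b => by rw [hqA, map_one, one_mul, hg₁B]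
  have hqK : ∀ k, qA (k ⊗ₜ[R] (1 : A₁)) = algebraMap K' C' k := fun k => by rw [hqA, map_one, mul_one]
  have hqs : Function.Surjective qA := fun z => by
    induction z using TensorProduct.induction_on with
    | zero => exact ⟨0, map_zero _⟩
    | add x y hx hy =>
      obtain ⟨x', rfl⟩ := hx
      obtain ⟨y', rfl⟩ := hy
      exact ⟨x' + y', map_add _ _ _⟩
    | tmul k' c =>
      obtain ⟨w, rfl⟩ := Ideal.Quotient.mk_surjective c
      induction w using TensorProduct.induction_on with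
      | zero => exact ⟨0, by rw [map_zero, map_zero, TensorProduct.tmul_zero]⟩
      | add x y hx hy =>
        obtain ⟨x', hx'⟩ := hx
        obtain ⟨y', hy'⟩ := hy
        exact ⟨x' + y', by rw [map_add, map_add, hx', hy', TensorProduct.tmul_add]⟩
      | tmul k b =>
        refine ⟨(k' * algebraMap K K' k) ⊗ₜ[R] ((1 : R) ⊗ₜ[A] b), ?_⟩
        rw [hqA, hg₁B]
        show ((k' * algebraMap K K' k) ⊗ₜ[K] (1 : C)) * ((1 : K') ⊗ₜ[K] mk ((1 : K) ⊗ₜ[A] b)) = k' ⊗ₜ[K] mk (k ⊗ₜ[A] b)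
        rw [Algebra.TensorProduct.tmul_mul_tmul, mul_one, one_mul, mul_comm k', ← Algebra.smul_def, TensorProduct.smul_tmul,
          show k ⊗ₜ[A] b = algebraMap K (K ⊗[A] B) k * ((1 : K) ⊗ₜ b) by
            rw [Algebra.TensorProduct.algebraMap_apply, Algebra.TensorProduct.tmul_mul_tmul, mul_one, one_mul]
            rfl,
          map_mul, Algebra.smul_def]
        rfl
  have hqL : ∀ (L : Type u) [Field L] (g : K' ⊗[R] A₁ →+* L), ∃ h : C' →+* L, ∀ z, h (qA z) = g z := by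
    intro L _ g
    let gK : K' →+* L := g.comp Algebra.TensorProduct.includeLeftRingHom
    let gA : A₁ →+* L := g.comp (Algebra.TensorProduct.includeRight : A₁ →ₐ[R] K' ⊗[R] A₁).toRingHom
    let gB : B →+* L := gA.comp (Algebra.TensorProduct.includeRight : B →ₐ[A] A₁).toRingHom
    obtain ⟨g₀, hg₀K, hg₀B⟩ := exists_pair (R := A) (A := K) (B := B) (C := L) (gK.comp (algebraMap K K')) gB fun x => by
      show g (algebraMap K K' (algebraMap A K x) ⊗ₜ[R] (1 : A₁)) = g ((1 : K') ⊗ₜ[R] ((1 : R) ⊗ₜ[A] algebraMap A B x))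
      rw [← hsq, Algebra.TensorProduct.tmul_one_eq_one_tmul (R := R), ← Algebra.TensorProduct.tmul_one_eq_one_tmul (R := A)]
      rfl
    let gC : C →+* L := Ideal.Quotient.lift _ g₀ fun x hx => IsNilpotent.eq_zero ((mem_nilradical.1 hx).map g₀)
    obtain ⟨h, hK, hC⟩ := exists_pair (R := K) (A := K') (B := C) (C := L) gK gC fun k => (hg₀K k).symm
    refine ⟨h, fun z => RingHom.congr_fun (f := h.comp qA.toRingHom) (g := g)
      (Algebra.TensorProduct.ringHom_ext (RingHom.ext fun k => ?_) (RingHom.ext fun y => ?_)) z⟩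
    · exact (congrArg h (hqK k)).trans (hK k)
    · show h (qA ((1 : K') ⊗ₜ[R] y)) = gA y
      refine RingHom.congr_fun (f := (h.comp qA.toRingHom).comp (Algebra.TensorProduct.includeRight : A₁ →ₐ[R] K' ⊗[R] A₁).toRingHom)
        (g := gA) (Algebra.TensorProduct.ringHom_ext (RingHom.ext fun r => ?_) (RingHom.ext fun b => ?_)) y
      · show h (qA ((1 : K') ⊗ₜ[R] algebraMap R A₁ r)) = g ((1 : K') ⊗ₜ[R] algebraMap R A₁ r)
        rw [← Algebra.TensorProduct.tmul_one_eq_one_tmul (R := R)]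
        exact (congrArg h (hqK _)).trans (hK _)
      · exact (congrArg h (hqB b)).trans ((hC _).trans (hg₀B b))
  -- the chart
  let eP : A₁ ⊗[R] R' ≃+* B ⊗[A] R' := (Algebra.TensorProduct.comm R A₁ R').toRingEquiv.trans
    ((Algebra.TensorProduct.cancelBaseChange A R R' R' B).toRingEquiv.trans (Algebra.TensorProduct.comm A R' B).toRingEquiv)
  letI : Algebra (A₁ ⊗[R] R') RX := ((algebraMap (B ⊗[A] R') RX).comp eP.toRingHom).toAlgebra
  haveI : Module.Flat (A₁ ⊗[R] R') RX := (RingHom.flat_algebraMap_iff (R := A₁ ⊗[R] R') (S := RX)).1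
    ((RingHom.Flat.of_bijective eP.bijective).comp ((RingHom.flat_algebraMap_iff (R := B ⊗[A] R') (S := RX)).2 ‹_›))
  letI : Algebra (B ⊗[A] R') (A₁ ⊗[R] R') := @RingHom.toAlgebra (B ⊗[A] R') (A₁ ⊗[R] R') _ _ eP.symm.toRingHom
  haveI : IsScalarTower (B ⊗[A] R') (A₁ ⊗[R] R') RX := IsScalarTower.of_algebraMap_eq fun z =>
    (congrArg (algebraMap (B ⊗[A] R') RX) (eP.apply_symm_apply z)).symm
  refine connected_of_model (K := K') hrad A₁ R' RY C' hgeo qA hqs hqL RX hY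
    (HasEtLift.baseChange (P := B ⊗[A] R') hX) fun r => ?_
  show algebraMap (B ⊗[A] R') RX (eP ((1 : A₁) ⊗ₜ[R] r)) = _
  rw [← hc r]
  refine congrArg _ ?_
  show Algebra.TensorProduct.comm A R' B (Algebra.TensorProduct.cancelBaseChange A R R' R' B
    (Algebra.TensorProduct.comm R A₁ R' ((1 : A₁) ⊗ₜ[R] r))) = _
  rw [Algebra.TensorProduct.comm_tmul, show (1 : A₁) = (1 : R) ⊗ₜ[A] (1 : B) from rfl,
    Algebra.TensorProduct.cancelBaseChange_tmul, one_smul, Algebra.TensorProduct.comm_tmul]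

/-- Subschemes over which strict localizations have connected geometric fibres are dense. -/
theorem exists_good_basicOpen {X S : Scheme.{u}} (f : X ⟶ S) [IsNoetherian S] [LocallyOfFiniteType f] [QuasiCompact f]
    {V : S.Opens} (hV : IsAffineOpen V) [(nilradical Γ(S, V)).IsPrime] :
    ∃ a : Γ(S, V), (S.basicOpen a : Set S).Nonempty ∧
      ∀ ⦃X₁ S₁ : Scheme.{u}⦄ (b : S₁ ⟶ S) (g₁ : X₁ ⟶ S₁) (b' : X₁ ⟶ X), IsPullback b' g₁ f b →
        ∀ (x : X₁), b (g₁ x) ∈ S.basicOpen a →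
        ∀ (RY RX : Type u) [CommRing RY] [CommRing RX] [IsLocalRing RY] [IsLocalRing RX]
          [Algebra (S₁.presheaf.stalk (g₁ x)) RY] [IsLocalHom (algebraMap (S₁.presheaf.stalk (g₁ x)) RY)]
          [Hensel.IsStrictHenselization (S₁.presheaf.stalk (g₁ x)) RY]
          [Algebra (X₁.presheaf.stalk x) RX] [IsLocalHom (algebraMap (X₁.presheaf.stalk x) RX)]
          [Hensel.IsStrictHenselization (X₁.presheaf.stalk x) RX]
          [Algebra RY RX] [IsLocalHom (algebraMap RY RX)],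
          (algebraMap RY RX).comp (algebraMap (S₁.presheaf.stalk (g₁ x)) RY) =
              (algebraMap (X₁.presheaf.stalk x) RX).comp (g₁.stalkMap x).hom →
          ∀ (Ω : Type u) [Field Ω] [IsAlgClosed Ω] (s : Spec (CommRingCat.of Ω) ⟶ Spec (CommRingCat.of RY)),
            ConnectedSpace ↥(pullback (Spec.map (CommRingCat.ofHom (algebraMap RY RX))) s) := by
  classical
  haveI : IsNoetherianRing Γ(S, V) := IsLocallyNoetherian.component_noetherian ⟨V, hV⟩
  obtain ⟨𝒰, h𝒰, hfin, hcov'⟩ := (QuasiCompact.isCompact_preimage (f := f) V V.2 hV.isCompact).elim_finite_subcover_image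
    (b := {U : X.Opens | IsAffineOpen U ∧ U ≤ f ⁻¹ᵁ V}) (c := fun U => (U : Set X)) (fun U _ => U.2) (fun x hx => by
      obtain ⟨U, hU, hxU, hUV⟩ := exists_isAffineOpen_mem_and_subset (x := x) (U := f ⁻¹ᵁ V) hx
      exact Set.mem_iUnion₂.2 ⟨U, ⟨hU, hUV⟩, hxU⟩)
  have hcover : (∀ {U}, U ∈ 𝒰 → IsAffineOpen U ∧ U ≤ f ⁻¹ᵁ V) ∧ ((f ⁻¹ᵁ V : X.Opens) : Set X) ⊆ ⋃ U ∈ 𝒰, (U : Set X) :=
    ⟨fun h => h𝒰 h, hcov'⟩
  have hA : ∀ U : 𝒰, ∃ a ∉ nilradical Γ(S, V),
      letI := (f.appLE V U (hcover.1 U.2).2).hom.toAlgebra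
      ∀ (a' : Γ(S, V)), a ∣ a' → ∀ (R' RY RX : Type u) [CommRing R'] [Algebra Γ(S, V) R'],
        IsUnit (algebraMap Γ(S, V) R' a') → ∀ [CommRing RY] [Algebra R' RY] [HenselianLocalRing RY] [IsSepClosed (ResidueField RY)]
          [CommRing RX] [IsLocalRing RX] [Algebra RY RX] [IsLocalHom (algebraMap RY RX)]
          [Algebra (Γ(X, U) ⊗[Γ(S, V)] R') RX] [Module.Flat (Γ(X, U) ⊗[Γ(S, V)] R') RX],
          HasEtLift R' RY → HasEtLift (Γ(X, U) ⊗[Γ(S, V)] R') RX →
          (∀ r : R', algebraMap (Γ(X, U) ⊗[Γ(S, V)] R') RX ((1 : Γ(X, U)) ⊗ₜ[Γ(S, V)] r) = algebraMap RY RX (algebraMap R' RY r)) →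
          ∀ (Ω : Type u) [Field Ω] [IsAlgClosed Ω] (s : Spec (CommRingCat.of Ω) ⟶ Spec (CommRingCat.of RY)),
            ConnectedSpace ↥(pullback (Spec.map (CommRingCat.ofHom (algebraMap RY RX))) s) := fun U => by
    letI := (f.appLE V U (hcover.1 U.2).2).hom.toAlgebra
    haveI : Algebra.FiniteType Γ(S, V) Γ(X, U) := f.finiteType_appLE hV (hcover.1 U.2).1 (hcover.1 U.2).2
    exact exists_connected_away Γ(S, V) Γ(X, U)
  choose a ha hgood using hA
  haveI : Fintype 𝒰 := hfin.fintype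
  let a₀ := ∏ U : 𝒰, a U
  have ha₀ : ¬ IsNilpotent a₀ := fun h => by
    obtain ⟨U, -, hU⟩ := Ideal.IsPrime.prod_mem_iff.1 (mem_nilradical.2 h)
    exact ha U hU
  refine ⟨a₀, ?_, fun X₁ S₁ b g₁ b' H x hxa RY RX _ _ _ _ _ _ _ _ _ _ _ _ hsq => ?_⟩
  · by_contra hemp
    refine ha₀ ((PrimeSpectrum.basicOpen_eq_bot_iff a₀).1 (TopologicalSpace.Opens.ext (Set.eq_empty_iff_forall_notMem.2 fun p hp => hemp ?_)))
    refine ⟨hV.fromSpec p, ?_⟩
    rw [← hV.fromSpec_image_basicOpen a₀]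
    exact ⟨p, hp, rfl⟩
  have hxV : b (g₁ x) ∈ V := S.basicOpen_le a₀ hxa
  have hbx : b' x ∈ f ⁻¹ᵁ V := by
    show f (b' x) ∈ V
    rw [← Scheme.Hom.comp_apply, H.w, Scheme.Hom.comp_apply]
    exact hxV
  obtain ⟨U, hU𝒰, hxU⟩ : ∃ U ∈ 𝒰, b' x ∈ U := by
    simpa using hcover.2 hbx
  obtain ⟨hU, hUV⟩ := hcover.1 hU𝒰
  obtain ⟨_, ⟨V₁, hV₁, rfl⟩, hy₁V, hV₁a⟩ :=
    S₁.isBasis_affineOpens.exists_subset_of_mem_open (show g₁ x ∈ b ⁻¹ᵁ S.basicOpen a₀ from hxa) (b ⁻¹ᵁ S.basicOpen a₀).2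
  replace hV₁a : V₁ ≤ b ⁻¹ᵁ S.basicOpen a₀ := hV₁a
  have hV₁V : V₁ ≤ b ⁻¹ᵁ V := hV₁a.trans fun z hz => S.basicOpen_le a₀ hz
  replace hV₁ : IsAffineOpen V₁ := hV₁
  haveI : IsAffine _ := hV
  haveI : IsAffine _ := hU
  haveI : IsAffine _ := hV₁
  let W : X₁.Opens := b' ⁻¹ᵁ U ⊓ g₁ ⁻¹ᵁ V₁
  have hW : IsAffineOpen W := .of_isIso (Scheme.Hom.isPullback_resLE H hV₁V hUV rfl).isoPullback.hom
  have hx : x ∈ W := ⟨hxU, hy₁V⟩
  haveI := isIso_pushoutSection_of_isAffineOpen H hV₁V hUV (UY := W) rfl hV hV₁ hU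
  have hpo := (isIso_pushoutSection_iff H hV₁V hUV rfl).1 inferInstance
  let φ := f.appLE V U hUV
  let ψ := b.appLE V V₁ hV₁V
  let χ := b'.appLE U W inf_le_left
  letI : Algebra Γ(S, V) Γ(X, U) := φ.hom.toAlgebra
  letI : Algebra Γ(S, V) Γ(S₁, V₁) := ψ.hom.toAlgebra
  letI : Algebra Γ(X, U) Γ(X₁, W) := χ.hom.toAlgebra
  letI : Algebra Γ(S₁, V₁) Γ(X₁, W) := (g₁.appLE V₁ W inf_le_right).hom.toAlgebra
  letI : Algebra Γ(S, V) Γ(X₁, W) := (φ ≫ χ).hom.toAlgebra
  haveI : IsScalarTower Γ(S, V) Γ(X, U) Γ(X₁, W) := IsScalarTower.of_algebraMap_eq' rfl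
  haveI : IsScalarTower Γ(S, V) Γ(S₁, V₁) Γ(X₁, W) := IsScalarTower.of_algebraMap_eq' (congrArg CommRingCat.Hom.hom hpo.w)
  haveI : Algebra.IsPushout Γ(S, V) Γ(X, U) Γ(S₁, V₁) Γ(X₁, W) := CommRingCat.isPushout_iff_isPushout.1 hpo
  let e := Algebra.IsPushout.equiv Γ(S, V) Γ(X, U) Γ(S₁, V₁) Γ(X₁, W)
  haveI : HenselianLocalRing RY := Hensel.IsStrictHenselization.henselian (S₁.presheaf.stalk (g₁ x))
  haveI : IsSepClosed (ResidueField RY) :=
    (Hensel.IsStrictHenselization.isSepClosure (R := S₁.presheaf.stalk (g₁ x)) (S := RY)).sep_closed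
  letI : Algebra Γ(S₁, V₁) RY :=
    ((algebraMap (S₁.presheaf.stalk (g₁ x)) RY).comp (S₁.presheaf.germ V₁ (g₁ x) hy₁V).hom).toAlgebra
  letI : Algebra (Γ(X, U) ⊗[Γ(S, V)] Γ(S₁, V₁)) RX :=
    (((algebraMap (X₁.presheaf.stalk x) RX).comp (X₁.presheaf.germ W x hx).hom).comp e.toAlgHom.toRingHom).toAlgebra
  obtain ⟨hX, hXf⟩ := hasEtLift_of_isAffineOpen hW hx RX (P := Γ(X, U) ⊗[Γ(S, V)] Γ(S₁, V₁))
    e.toAlgHom.toRingHom e.bijective fun _ => rfl
  obtain ⟨hY, -⟩ := hasEtLift_of_isAffineOpen hV₁ hy₁V RY (P := Γ(S₁, V₁)) (RingHom.id _) Function.bijective_id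
    fun _ => rfl
  haveI := hXf
  refine hgood ⟨U, hU𝒰⟩ a₀ (Finset.dvd_prod_of_mem _ (Finset.mem_univ _)) Γ(S₁, V₁) RY RX ?_ hY hX fun r => ?_
  · have h1 := RingedSpace.isUnit_res_basicOpen S.toRingedSpace a₀
    have h2 : IsUnit (b.appLE (S.basicOpen a₀) V₁ hV₁a (S.presheaf.map (homOfLE (S.basicOpen_le a₀)).op a₀)) :=
      h1.map (b.appLE (S.basicOpen a₀) V₁ hV₁a).hom
    rwa [← CommRingCat.comp_apply, Scheme.Hom.map_appLE] at h2
  show algebraMap (X₁.presheaf.stalk x) RX (X₁.presheaf.germ W x hx (e ((1 : Γ(X, U)) ⊗ₜ r))) =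
    algebraMap RY RX (algebraMap (S₁.presheaf.stalk (g₁ x)) RY (S₁.presheaf.germ V₁ (g₁ x) hy₁V r))
  rw [Algebra.IsPushout.equiv_tmul, map_one, one_mul]
  refine Eq.trans ?_ (RingHom.congr_fun hsq _).symm
  refine congrArg (algebraMap (X₁.presheaf.stalk x) RX) ?_
  show X₁.presheaf.germ W x hx ((g₁.appLE V₁ W inf_le_right).hom r) = g₁.stalkMap x (S₁.presheaf.germ V₁ (g₁ x) hy₁V r)
  rw [Scheme.Hom.germ_stalkMap_apply]
  exact X₁.presheaf.germ_res_apply (homOfLE inf_le_right) x hx (g₁.app V₁ r)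

end Groth.Agent.HenselConn.Radicial
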