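import Mathlib

/-!
# Finitely generated models of etale algebras over a flat base change
-/

set_option autoImplicit false

universe u

open scoped TensorProduct

namespace Groth.Agent.HenselConn

variable (R A K : Type u) [CommRing R] [CommRing A] [Algebra R A] [Module.Flat R A] [CommRing K] [Algebra R K]

omit [Module.Flat R A] in
theorem exists_fg_range (x : A ⊗[R] K) : ∃ F : Finset K, ∀ Q : Subalgebra R K, ↑F ⊆ (Q : Set K) →
    x ∈ (Algebra.TensorProduct.map (AlgHom.id A A) Q.val).range := by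
  classical
  induction x using TensorProduct.induction_on with
  | zero => exact ⟨∅, fun Q _ => zero_mem _⟩
  | tmul r y => exact ⟨{y}, fun Q h => ⟨r ⊗ₜ ⟨y, h (Finset.mem_singleton_self y)⟩, by simp⟩⟩
  | add x y hx hy =>
    obtain ⟨F, hF⟩ := hx
    obtain ⟨G, hG⟩ := hy
    exact ⟨F ∪ G, fun Q h => add_mem (hF Q (subset_trans (by simp) h)) (hG Q (subset_trans (by simp) h))⟩

/-- An etale algebra over `A ⊗ K` comes from one over `A ⊗ Q` for a finitely generated subalgebra `Q`. -/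
theorem exists_etale_model (B : Type u) [CommRing B] [Algebra (A ⊗[R] K) B] [Algebra.Etale (A ⊗[R] K) B]
    (S : Finset B) :
    ∃ (Q : Subalgebra R K) (_ : Q.FG) (BQ : Type u) (_ : CommRing BQ) (ρ : A ⊗[R] Q →+* BQ) (π : BQ →+* B),
      ρ.Etale ∧ π.comp ρ = (algebraMap (A ⊗[R] K) B).comp (Algebra.TensorProduct.map (AlgHom.id A A) Q.val).toRingHom ∧
      (∀ s ∈ S, s ∈ π.range) := by
  classical
  obtain ⟨C₀, B₀, _, _, ⟨G, hG⟩, hB₀, ⟨e⟩⟩ := Algebra.Etale.exists_subalgebra_fg (R := A) (A := A ⊗[R] K) (B := B)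
  haveI := hB₀
  have hdec : ∀ x : (A ⊗[R] K) ⊗[C₀] B₀, ∃ F : Finset (A ⊗[R] K),
      ∀ T : Subalgebra A (A ⊗[R] K), ↑F ⊆ (T : Set (A ⊗[R] K)) → x ∈ Submodule.span ℤ
        {z | ∃ c ∈ T, ∃ b : B₀, c ⊗ₜ[C₀] b = z} := fun x => by
    induction x using TensorProduct.induction_on with
    | zero => exact ⟨∅, fun T _ => zero_mem _⟩
    | tmul c b => exact ⟨{c}, fun T h => Submodule.subset_span ⟨c, h (Finset.mem_singleton_self c), b, rfl⟩⟩
    | add x y hx hy =>
      obtain ⟨F, hF⟩ := hx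
      obtain ⟨F', hF'⟩ := hy
      exact ⟨F ∪ F', fun T h => add_mem (hF T (subset_trans (by simp) h)) (hF' T (subset_trans (by simp) h))⟩
  choose Fs hFs using hdec
  let C : Finset (A ⊗[R] K) := G ∪ S.biUnion fun s => Fs (e s)
  choose Fc hFc using exists_fg_range R A K
  let F : Finset K := C.biUnion Fc
  let Q : Subalgebra R K := Algebra.adjoin R (F : Set K)
  let φ := Algebra.TensorProduct.map (AlgHom.id A A) Q.val
  have hC : ∀ c ∈ C, c ∈ φ.range := fun c hc => hFc c Q ((subset_trans (by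
    intro y hy; exact Finset.mem_biUnion.2 ⟨c, hc, hy⟩) (Algebra.subset_adjoin (R := R) (s := (F : Set K)))))
  have hC₀ : C₀ ≤ φ.range := hG ▸ Algebra.adjoin_le fun c hc => hC c (Finset.mem_union_left _ hc)
  have hinj : Function.Injective φ := by
    show Function.Injective (fun x => φ x)
    exact Module.Flat.lTensor_preserves_injective_linearMap (M := A) Q.val.toLinearMap Subtype.val_injective
  let γ : C₀ →ₐ[A] A ⊗[R] Q := (AlgEquiv.ofInjective φ hinj).symm.toAlgHom.comp (Subalgebra.inclusion hC₀)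
  have hγ : ∀ c, φ (γ c) = (c : A ⊗[R] K) := fun c =>
    congrArg Subtype.val ((AlgEquiv.ofInjective φ hinj).apply_symm_apply (Subalgebra.inclusion hC₀ c))
  letI : Algebra C₀ (A ⊗[R] Q) := γ.toRingHom.toAlgebra
  let BQ := (A ⊗[R] Q) ⊗[C₀] B₀
  let φ' : A ⊗[R] Q →ₐ[C₀] A ⊗[R] K := { φ.toRingHom with commutes' := hγ }
  let π : BQ →+* B := (e.symm.toAlgHom.toRingHom).comp (Algebra.TensorProduct.map φ' (AlgHom.id C₀ B₀)).toRingHom
  refine ⟨Q, ⟨F, rfl⟩, BQ, inferInstance, Algebra.TensorProduct.includeLeftRingHom, π, ?_, ?_, fun s hs => ?_⟩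
  · show RingHom.Etale (algebraMap (A ⊗[R] Q) BQ)
    exact RingHom.etale_algebraMap.2 inferInstance
  · refine RingHom.ext fun x => ?_
    show e.symm (φ x ⊗ₜ[C₀] (1 : B₀)) = algebraMap (A ⊗[R] K) B (φ x)
    exact e.symm.commutes (φ x)
  · have h := hFs (e s) φ.range fun c hc => hC c (Finset.mem_union_right _ (Finset.mem_biUnion.2 ⟨s, hs, hc⟩))
    have h' : ∀ x ∈ Submodule.span ℤ {z : (A ⊗[R] K) ⊗[C₀] B₀ | ∃ c ∈ φ.range, ∃ b : B₀, c ⊗ₜ[C₀] b = z},
        ∃ b : BQ, π b = e.symm x := by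
      intro x hx
      induction hx using Submodule.span_induction with
      | mem x hx =>
        obtain ⟨_, ⟨c, rfl⟩, b, rfl⟩ := hx
        exact ⟨c ⊗ₜ b, by simp [π, φ']; rfl⟩
      | zero => exact ⟨0, by rw [map_zero, map_zero]⟩
      | add x y _ _ hx hy =>
        obtain ⟨b, hb⟩ := hx
        obtain ⟨b', hb'⟩ := hy
        exact ⟨b + b', by rw [map_add, map_add, hb, hb']⟩
      | smul n x _ hx =>
        obtain ⟨b, hb⟩ := hx
        exact ⟨n • b, by rw [map_zsmul, map_zsmul, hb]⟩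
    obtain ⟨b, hb⟩ := h' (e s) h
    exact ⟨b, hb.trans (e.symm_apply_apply s)⟩

end Groth.Agent.HenselConn
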