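import Groth.Agent.BigSiteLib.EtDescSec.Criterion
import Groth.Agent.HenselConn.Cont2

/-!
# Germs of a descent datum near a limit of etale neighbourhoods
-/

set_option autoImplicit false

universe u

open CategoryTheory CategoryTheory.Limits AlgebraicGeometry Opposite TopologicalSpace
open Groth.Agent.BigSiteLib.DescSec

namespace Groth.Agent.HenselConn

set_option backward.isDefEq.respectTransparency.types false

variable {X' X : Scheme.{u}} {f : X' ⟶ X} {F' : EtDesc.Sh X'}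
  (φ : (EtDesc.pullSh (pullback.fst f f)).obj F' ≅ (EtDesc.pullSh (pullback.snd f f)).obj F')
  (hφ : EtDesc.IsCocycle F' φ) {S S' : Scheme.{u}} (π : S ⟶ X) (h : S' ⟶ S) (hh : EtDesc.IsUnivSubmersive h)
  {U : X'.Etale} (s₀ : ToType (F'.obj.obj (op U))) (u : S' ⟶ U.left) (hu : (u ≫ U.hom) ≫ f = h ≫ π)
  (hm : ∀ (Ω : Type u) [Field Ω] [IsSepClosed Ω] (ω₁ ω₂ : Spec (CommRingCat.of Ω) ⟶ S'), ω₁ ≫ h = ω₂ ≫ h →
    Rel φ s₀ (ω₁ ≫ u) s₀ (ω₂ ≫ u))

include hφ hh hu hm in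
/-- The locus over the limit where a section carries the transported germs is open. -/
theorem exists_relNbhd {U₁ : X'.Etale} (x₁ : ToType (F'.obj.obj (op U₁))) :
    ∃ G : (pullback (U₁.hom ≫ f) π).Opens, ∀ (Ω : Type u) [Field Ω] [IsSepClosed Ω]
      (k : Spec (CommRingCat.of Ω) ⟶ pullback (U₁.hom ≫ f) π) (ω : Spec (CommRingCat.of Ω) ⟶ S'),
      ω ≫ h = k ≫ pullback.snd (U₁.hom ≫ f) π →
      (k.base (default : Spec (CommRingCat.of Ω)) ∈ G ↔ Rel φ s₀ (ω ≫ u) x₁ (k ≫ pullback.fst (U₁.hom ≫ f) π)) := by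
  let pQ : pullback (U₁.hom ≫ f) π ⟶ S := pullback.snd _ _
  let b : pullback pQ h ⟶ pullback (U₁.hom ≫ f) π := pullback.fst pQ h
  let a : pullback pQ h ⟶ U.left := pullback.snd pQ h ≫ u
  obtain ⟨E, hE⟩ := exists_relOpen f φ s₀ x₁ a (b ≫ pullback.fst (U₁.hom ≫ f) π) (by
    show ((pullback.snd pQ h ≫ u) ≫ U.hom) ≫ f = ((b ≫ pullback.fst (U₁.hom ≫ f) π) ≫ U₁.hom) ≫ f
    simp only [Category.assoc] at hu ⊢
    rw [hu, pullback.condition, ← pullback.condition_assoc])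
  have hsat : ∀ r₁ r₂ : ↥(pullback pQ h), b r₁ = b r₂ → r₁ ∈ E → r₂ ∈ E := by
    intro r₁ r₂ e h₁
    obtain ⟨o, ho₁, ho₂⟩ := Scheme.Pullback.exists_preimage_pullback (f := b) (g := b) r₁ r₂ e
    obtain ⟨Ω', _, _, ρ, hρ⟩ := exists_geometric o
    have h1 : (ρ ≫ pullback.fst b b).base (default : Spec (CommRingCat.of Ω')) = r₁ :=
      (Scheme.Hom.comp_apply _ _ _).trans ((congrArg _ hρ).trans ho₁)
    have h2 : (ρ ≫ pullback.snd b b).base (default : Spec (CommRingCat.of Ω')) = r₂ :=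
      (Scheme.Hom.comp_apply _ _ _).trans ((congrArg _ hρ).trans ho₂)
    have R₁ := (hE Ω' (ρ ≫ pullback.fst b b)).1 (h1.symm ▸ h₁)
    rw [← h2]
    refine (hE Ω' (ρ ≫ pullback.snd b b)).2 ?_
    have eb : (ρ ≫ pullback.fst b b) ≫ b = (ρ ≫ pullback.snd b b) ≫ b := by simp only [Category.assoc, pullback.condition]
    have eq' : ((ρ ≫ pullback.snd b b) ≫ pullback.snd pQ h) ≫ h = ((ρ ≫ pullback.fst b b) ≫ pullback.snd pQ h) ≫ h := by
      rw [Category.assoc _ (pullback.snd pQ h) h, Category.assoc _ (pullback.snd pQ h) h, ← pullback.condition]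
      exact ((Category.assoc _ _ _).symm.trans (congrArg (· ≫ pQ) eb.symm)).trans (Category.assoc _ _ _)
    have R₂ : Rel φ s₀ ((ρ ≫ pullback.snd b b) ≫ a) s₀ ((ρ ≫ pullback.fst b b) ≫ a) := by
      simp only [a, ← Category.assoc]
      exact hm Ω' _ _ eq'
    have := R₂.trans hφ R₁
    exact (congrArg (fun q => Rel φ s₀ ((ρ ≫ pullback.snd b b) ≫ a) x₁ q)
      (((Category.assoc _ _ _).symm.trans (congrArg (· ≫ pullback.fst (U₁.hom ≫ f) π) eb)).trans
        (Category.assoc _ _ _))).mp this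
  have hpre : b ⁻¹' (b '' (E : Set ↥(pullback pQ h))) = E := Set.ext fun r =>
    ⟨fun ⟨r', h', e⟩ => hsat r' r e h', fun h => ⟨r, h, rfl⟩⟩
  refine ⟨⟨b '' E, (fst_surjective_isQuotientMap h hh pQ).2.isOpen_preimage.1 (by
    show IsOpen (b ⁻¹' (b '' (E : Set ↥(pullback pQ h))))
    rw [hpre]; exact E.2)⟩, fun Ω _ _ k ω e => ?_⟩
  let r : Spec (CommRingCat.of Ω) ⟶ pullback pQ h := pullback.lift k ω e.symm
  have hr₁ : r ≫ b = k := pullback.lift_fst _ _ _
  have hr₂ : r ≫ a = ω ≫ u := (Category.assoc _ _ _).symm.trans (congrArg (· ≫ u) (pullback.lift_snd _ _ _))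
  have hb : b (r.base default) = k.base (default : Spec (CommRingCat.of Ω)) :=
    (Scheme.Hom.comp_apply _ _ _).symm.trans (congrArg (fun j : Spec (CommRingCat.of Ω) ⟶ _ => j.base default) hr₁)
  have hE' : r.base default ∈ E ↔ Rel φ s₀ (ω ≫ u) x₁ (k ≫ pullback.fst (U₁.hom ≫ f) π) := by
    rw [hE Ω r, hr₂, ← Category.assoc r b, hr₁]
  constructor
  · rintro ⟨r', hr', e'⟩
    exact hE'.1 (hsat r' _ (e'.trans hb.symm) hr')
  · exact fun hR => ⟨_, hE'.2 hR, hb⟩

/-- A piece of a section near the limit. -/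
structure Piece {V : X.Etale} (ρ : Lift π V) where
  W : X'.Etale
  r : W ⟶ (EtCoh.bc f).obj V
  x : ToType (F'.obj.obj (op W))
  qc : QuasiCompact (r.left ≫ pullback.fst V.hom f)
  rel : ∀ (Ω : Type u) [Field Ω] [IsSepClosed Ω] (ω : Spec (CommRingCat.of Ω) ⟶ S') (l : Spec (CommRingCat.of Ω) ⟶ W.left),
    (l ≫ r.left) ≫ pullback.fst V.hom f = (ω ≫ h) ≫ ρ.1 → Rel φ s₀ (ω ≫ u) x l

include hφ hh hu hm in
/-- Germs related to the given one spread to pieces. -/
theorem exists_piece (hB : HasBasis π) {Ω : Type u} [Field Ω] [IsSepClosed Ω] {U₁ : X'.Etale}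
    (x₁ : ToType (F'.obj.obj (op U₁))) (k : Spec (CommRingCat.of Ω) ⟶ U₁.left) (ω : Spec (CommRingCat.of Ω) ⟶ S')
    (e : (k ≫ U₁.hom) ≫ f = (ω ≫ h) ≫ π) (R : Rel φ s₀ (ω ≫ u) x₁ k) :
    ∃ (V : X.Etale) (ρ : Lift π V) (P : Piece φ π h s₀ u ρ) (l : Spec (CommRingCat.of Ω) ⟶ P.W.left),
      (l ≫ P.r.left) ≫ pullback.fst V.hom f = (ω ≫ h) ≫ ρ.1 ∧ l ≫ P.W.hom = k ≫ U₁.hom := by
  obtain ⟨G, hG⟩ := exists_relNbhd φ hφ π h hh s₀ u hu hm x₁
  let κ : Spec (CommRingCat.of Ω) ⟶ pullback (U₁.hom ≫ f) π := pullback.lift k (ω ≫ h) ((Category.assoc _ _ _).symm.trans e)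
  have hκ : κ.base (default : Spec (CommRingCat.of Ω)) ∈ G :=
    (hG Ω κ ω (pullback.lift_snd _ _ _).symm).2 (by rw [pullback.lift_fst]; exact R)
  obtain ⟨V, hV, ρ, O, hzO, hOG⟩ := hB (U₁.hom ≫ f) _ G G.2 hκ
  let Φ : pullback (U₁.hom ≫ f) π ⟶ pullback (U₁.hom ≫ f) V.hom :=
    pullback.lift (pullback.fst _ _) (pullback.snd _ _ ≫ ρ.1)
      (pullback.condition.trans ((congrArg (pullback.snd (U₁.hom ≫ f) π ≫ ·) ρ.2.symm).trans (Category.assoc _ _ _).symm))
  obtain ⟨_, ⟨(O₀ : (pullback (U₁.hom ≫ f) V.hom).Opens), hO₀, rfl⟩, hzO₀, hO₀O⟩ :=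
    (pullback (U₁.hom ≫ f) V.hom).isBasis_affineOpens.exists_subset_of_mem_open hzO O.2
  replace hO₀ : IsAffineOpen O₀ := hO₀
  haveI : Etale V.hom := V.prop
  haveI : Etale U₁.hom := U₁.prop
  let W : X'.Etale := MorphismProperty.Over.mk ⊤ (O₀.ι ≫ pullback.fst (U₁.hom ≫ f) V.hom ≫ U₁.hom) (by
    haveI : Etale (pullback.fst (U₁.hom ≫ f) V.hom) := MorphismProperty.pullback_fst _ _ inferInstance
    exact inferInstanceAs (Etale (O₀.ι ≫ pullback.fst (U₁.hom ≫ f) V.hom ≫ U₁.hom)))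
  let jU : W ⟶ U₁ := MorphismProperty.Over.homMk (O₀.ι ≫ pullback.fst (U₁.hom ≫ f) V.hom) (Category.assoc _ _ _)
  let r : W ⟶ (EtCoh.bc f).obj V := MorphismProperty.Over.homMk
    (pullback.lift (O₀.ι ≫ pullback.snd (U₁.hom ≫ f) V.hom) W.hom (by
      show (_ ≫ _) ≫ _ = (_ ≫ _ ≫ _) ≫ _
      simp only [Category.assoc, ← pullback.condition]))
    (pullback.lift_snd _ _ _)
  have hrfst : r.left ≫ pullback.fst V.hom f = O₀.ι ≫ pullback.snd (U₁.hom ≫ f) V.hom := pullback.lift_fst _ _ _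
  have hqc : QuasiCompact (r.left ≫ pullback.fst V.hom f) := by
    rw [hrfst]
    haveI : IsAffine O₀.toScheme := hO₀
    haveI : IsAffine ((𝟭 Scheme.{u}).obj V.left) := hV
    have h₁ : IsAffineHom (O₀.ι ≫ pullback.snd (U₁.hom ≫ f) V.hom) := isAffineHom_of_isAffine _
    exact quasiCompact_iff_forall_isAffineOpen.mpr fun _ hU => (@IsAffineOpen.preimage _ _ _ hU _ h₁).isCompact
  have hrel : ∀ (Ω' : Type u) [Field Ω'] [IsSepClosed Ω'] (ω' : Spec (CommRingCat.of Ω') ⟶ S')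
      (l : Spec (CommRingCat.of Ω') ⟶ W.left),
      (l ≫ r.left) ≫ pullback.fst V.hom f = (ω' ≫ h) ≫ ρ.1 → Rel φ s₀ (ω' ≫ u) (F'.obj.map jU.op x₁) l := by
    intro Ω' _ _ ω' l hl
    refine (rel_map_right jU l).2 ?_
    have hl' : (l ≫ O₀.ι) ≫ pullback.snd (U₁.hom ≫ f) V.hom = (ω' ≫ h) ≫ ρ.1 :=
      (Category.assoc _ _ _).trans ((congrArg (l ≫ ·) hrfst.symm).trans ((Category.assoc _ _ _).symm.trans hl))
    let κ' : Spec (CommRingCat.of Ω') ⟶ pullback (U₁.hom ≫ f) π :=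
      pullback.lift ((l ≫ O₀.ι) ≫ pullback.fst (U₁.hom ≫ f) V.hom) (ω' ≫ h) (by
        rw [Category.assoc, pullback.condition, ← Category.assoc, hl', Category.assoc, ρ.2])
    have hΦ : κ' ≫ Φ = l ≫ O₀.ι := pullback.hom_ext
      ((Category.assoc _ _ _).trans ((congrArg (κ' ≫ ·) (pullback.lift_fst _ _ _)).trans (pullback.lift_fst _ _ _)))
      ((Category.assoc _ _ _).trans ((congrArg (κ' ≫ ·) (pullback.lift_snd _ _ _)).trans
        ((Category.assoc _ _ _).symm.trans ((congrArg (· ≫ ρ.1) (pullback.lift_snd _ _ _)).trans hl'.symm))))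
    have hmem : κ'.base (default : Spec (CommRingCat.of Ω')) ∈ G := hOG (hO₀O (by
      show Φ (κ'.base default) ∈ O₀
      rw [← Scheme.Hom.comp_apply, hΦ, Scheme.Hom.comp_apply]
      exact (l.base default).2))
    have := (hG Ω' κ' ω' (pullback.lift_snd _ _ _).symm).1 hmem
    have e₁ : κ' ≫ pullback.fst (U₁.hom ≫ f) π = l ≫ jU.left :=
      (pullback.lift_fst _ _ _).trans (Category.assoc _ _ _)
    rwa [e₁] at this
  obtain ⟨l, hl⟩ := exists_lift_opens (κ ≫ Φ) O₀ (fun s => by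
    rw [Subsingleton.elim s default, Scheme.Hom.comp_apply]; exact hzO₀)
  refine ⟨V, ρ, ⟨W, r, F'.obj.map jU.op x₁, hqc, hrel⟩, l, ?_, ?_⟩
  · refine (Category.assoc _ _ _).trans ((congrArg (l ≫ ·) hrfst).trans ((Category.assoc _ _ _).symm.trans ?_))
    rw [hl, Category.assoc, pullback.lift_snd, ← Category.assoc, pullback.lift_snd]
  · show l ≫ O₀.ι ≫ pullback.fst (U₁.hom ≫ f) V.hom ≫ U₁.hom = k ≫ U₁.hom
    rw [← Category.assoc l, hl, ← Category.assoc, Category.assoc κ, pullback.lift_fst, pullback.lift_fst]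

/-- Pieces pull back along maps of neighbourhoods. -/
theorem Piece.exists_map {V V' : X.Etale} (m : V' ⟶ V) {ρ : Lift π V} (ρ' : Lift π V') (hm' : ρ'.1 ≫ m.left = ρ.1)
    (P : Piece φ π h s₀ u ρ) : ∃ (P' : Piece φ π h s₀ u ρ') (j : P'.W ⟶ P.W),
      P'.x = F'.obj.map j.op P.x ∧ IsPullback j.left P'.r.left P.r.left ((EtCoh.bc f).map m).left ∧
      IsPullback j.left (P'.r.left ≫ pullback.fst V'.hom f) (P.r.left ≫ pullback.fst V.hom f) m.left ∧
      ∀ t, (toXV f π ρ' t ∈ Set.range P'.r.left ↔ toXV f π ρ t ∈ Set.range P.r.left) := by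
  let W' := pullback ((EtCoh.bc f).map m) P.r
  let r' : W' ⟶ (EtCoh.bc f).obj V' := pullback.fst _ _
  let j : W' ⟶ P.W := pullback.snd _ _
  have hsq := (IsPullback.of_hasPullback ((EtCoh.bc f).map m) P.r).map (Scheme.Etale.forget X' ⋙ Over.forget X')
  have hbig : IsPullback j.left (r'.left ≫ pullback.fst V'.hom f) (P.r.left ≫ pullback.fst V.hom f) m.left :=
    IsPullback.paste_vert (show IsPullback j.left r'.left P.r.left ((EtCoh.bc f).map m).left from hsq.flip)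
      (EtCoh.isPullback_bc_map f m)
  have hqc : QuasiCompact (r'.left ≫ pullback.fst V'.hom f) := by
    haveI := P.qc
    exact MorphismProperty.of_isPullback (P := @QuasiCompact) hbig ‹_›
  refine ⟨⟨W', r', F'.obj.map j.op P.x, hqc, fun Ω _ _ ω l hl => (rel_map_right j l).2 (P.rel Ω ω _ ?_)⟩, j, rfl, hsq.flip, hbig, fun t => ?_⟩
  · have hw : (l ≫ j.left) ≫ P.r.left ≫ pullback.fst V.hom f = (l ≫ r'.left ≫ pullback.fst V'.hom f) ≫ m.left :=
      (Category.assoc _ _ _).trans ((congrArg (l ≫ ·) hbig.w).trans (Category.assoc _ _ _).symm)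
    refine (Category.assoc _ _ _).trans (hw.trans ?_)
    rw [← Category.assoc l, hl, Category.assoc, hm']
  · have hm'' : ((EtCoh.bc f).map m).left (toXV f π ρ' t) = toXV f π ρ t := by
      refine (Scheme.Hom.comp_apply _ _ _).symm.trans (congrArg (fun k : pullback f π ⟶ _ => k t) ?_)
      refine pullback.hom_ext ?_ ?_
      · refine (Category.assoc _ _ _).trans ((congrArg (toXV f π ρ' ≫ ·) (EtCoh.isPullback_bc_map f m).w).trans ?_)
        refine (Category.assoc _ _ _).symm.trans ((congrArg (· ≫ m.left) (toXV_fst f π ρ')).trans ?_)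
        exact ((Category.assoc _ _ _).trans (congrArg (pullback.snd f π ≫ ·) hm')).trans (toXV_fst f π ρ).symm
      · refine (Category.assoc _ _ _).trans ((congrArg (toXV f π ρ' ≫ ·) (MorphismProperty.Over.w ((EtCoh.bc f).map m))).trans ?_)
        exact (toXV_snd f π ρ').trans (toXV_snd f π ρ).symm
    constructor
    · rintro ⟨w, hw⟩
      refine ⟨j.left w, ?_⟩
      rw [← hm'', ← hw, ← Scheme.Hom.comp_apply, ← Scheme.Hom.comp_apply]
      exact congrArg (fun k : W'.left ⟶ _ => k w) hsq.w.symm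
    · rintro ⟨w, hw⟩
      obtain ⟨w', hw', -⟩ := Scheme.exists_preimage_of_isPullback hsq (toXV f π ρ' t) w (hm''.trans hw.symm)
      exact ⟨w', hw'⟩

include hφ hh in
/-- Finitely many pieces agree near the limit. -/
theorem exists_pairs_open {V : X.Etale} (ρ : Lift π V) [Flat ρ.1] {ι : Type} [Finite ι] (P : ι → Piece φ π h s₀ u ρ) :
    ∃ O : V.left.Opens, (∀ s, ρ.1 s ∈ O) ∧ ∀ i j (Ω : Type u) [Field Ω] [IsSepClosed Ω]
      (li : Spec (CommRingCat.of Ω) ⟶ (P i).W.left) (lj : Spec (CommRingCat.of Ω) ⟶ (P j).W.left),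
      li ≫ (P i).r.left ≫ pullback.fst V.hom f = lj ≫ (P j).r.left ≫ pullback.fst V.hom f →
      (li ≫ (P i).r.left ≫ pullback.fst V.hom f).base (default : Spec (CommRingCat.of Ω)) ∈ O →
      Rel φ (P i).x li (P j).x lj := by
  have hpair : ∀ q : ι × ι, ∃ O : V.left.Opens, (∀ s, ρ.1 s ∈ O) ∧ ∀ (Ω : Type u) [Field Ω] [IsSepClosed Ω]
      (li : Spec (CommRingCat.of Ω) ⟶ (P q.1).W.left) (lj : Spec (CommRingCat.of Ω) ⟶ (P q.2).W.left),
      li ≫ (P q.1).r.left ≫ pullback.fst V.hom f = lj ≫ (P q.2).r.left ≫ pullback.fst V.hom f →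
      (li ≫ (P q.1).r.left ≫ pullback.fst V.hom f).base (default : Spec (CommRingCat.of Ω)) ∈ O →
      Rel φ (P q.1).x li (P q.2).x lj := by
    rintro ⟨i, j⟩
    dsimp only
    let qi : (P i).W.left ⟶ V.left := (P i).r.left ≫ pullback.fst V.hom f
    let qj : (P j).W.left ⟶ V.left := (P j).r.left ≫ pullback.fst V.hom f
    haveI : QuasiCompact qi := (P i).qc
    haveI : QuasiCompact qj := (P j).qc
    have hW : ∀ i, (P i).W.hom ≫ f = ((P i).r.left ≫ pullback.fst V.hom f) ≫ V.hom := fun i => by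
      refine Eq.trans ?_ (Category.assoc _ _ _).symm
      refine Eq.trans ?_ (congrArg ((P i).r.left ≫ ·) pullback.condition.symm)
      refine Eq.trans ?_ (Category.assoc _ _ _)
      exact congrArg (· ≫ f) (MorphismProperty.Over.w (P i).r).symm
    obtain ⟨E, hE⟩ := exists_relOpen f φ (P i).x (P j).x (pullback.fst qi qj) (pullback.snd qi qj) (by
      rw [Category.assoc, Category.assoc, hW, hW, ← Category.assoc, ← Category.assoc (pullback.snd qi qj)]
      exact congrArg (· ≫ V.hom) pullback.condition)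
    haveI : QuasiCompact (pullback.fst qi qj ≫ qi) := inferInstance
    obtain ⟨O, hO, hC⟩ := exists_shrink (pullback.fst qi qj ≫ qi) ρ.1 (C := ((E : Set ↥(pullback qi qj)))ᶜ)
      E.2.isClosed_compl (fun w hw s hws => by
        obtain ⟨p, hp⟩ := (fst_surjective_isQuotientMap h hh (𝟙 S)).1 s
        have hs' : h (pullback.snd (𝟙 S) h p) = s := by
          rw [← Scheme.Hom.comp_apply, ← pullback.condition, Category.comp_id]; exact hp
        obtain ⟨o, ho, -⟩ := Scheme.exists_preimage_of_isPullback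
          (IsPullback.of_hasPullback (pullback.fst qi qj ≫ qi) (h ≫ ρ.1)) w (pullback.snd (𝟙 S) h p)
          (hws.trans ((congrArg ρ.1 hs'.symm).trans (Scheme.Hom.comp_apply _ _ _).symm))
        obtain ⟨Ω, _, _, τ, hτ⟩ := exists_geometric o
        let τ₁ := τ ≫ pullback.fst (pullback.fst qi qj ≫ qi) (h ≫ ρ.1)
        let ω := τ ≫ pullback.snd (pullback.fst qi qj ≫ qi) (h ≫ ρ.1)
        have hτ₁ : τ₁.base (default : Spec (CommRingCat.of Ω)) = w :=
          (Scheme.Hom.comp_apply _ _ _).trans ((congrArg _ hτ).trans ho)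
        refine hw ?_
        rw [← hτ₁]
        have e₁ : ((τ₁ ≫ pullback.fst qi qj) ≫ (P i).r.left) ≫ pullback.fst V.hom f = (ω ≫ h) ≫ ρ.1 := by
          simp only [τ₁, ω, Category.assoc]
          exact congrArg (τ ≫ ·) pullback.condition
        have e₂ : ((τ₁ ≫ pullback.snd qi qj) ≫ (P j).r.left) ≫ pullback.fst V.hom f = (ω ≫ h) ≫ ρ.1 := by
          refine Eq.trans ?_ e₁
          simp only [Category.assoc]
          exact congrArg (τ₁ ≫ ·) pullback.condition.symm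
        exact (hE Ω τ₁).2 ((((P i).rel Ω ω _ e₁).symm hφ).trans hφ ((P j).rel Ω ω _ e₂)))
    refine ⟨O, hO, fun Ω _ _ li lj e hmem => ?_⟩
    let τ : Spec (CommRingCat.of Ω) ⟶ pullback qi qj := pullback.lift li lj e
    have hτE : τ.base (default : Spec (CommRingCat.of Ω)) ∈ E := by
      by_contra hn
      refine hC _ hn ?_
      rw [← Scheme.Hom.comp_apply, ← Category.assoc, pullback.lift_fst]
      exact hmem
    have := (hE Ω τ).1 hτE
    rwa [pullback.lift_fst, pullback.lift_snd] at this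
  choose O hO hR using hpair
  haveI : Fintype (ι × ι) := Fintype.ofFinite _
  refine ⟨Finset.univ.inf O, fun s => ?_, fun i j Ω _ _ li lj e hmem =>
    hR (i, j) Ω li lj e ((Finset.inf_le (f := O) (Finset.mem_univ (i, j))) hmem)⟩
  rw [← SetLike.mem_coe, TopologicalSpace.Opens.coe_finset_inf]
  simp only [Finset.inf_eq_iInf, Set.iInf_eq_iInter, Set.mem_iInter]
  exact fun q _ => hO q s

end Groth.Agent.HenselConn
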