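import Groth.Agent.HenselConn.Discrete

/-!
# Connected fibres of strict localizations after a radicial base extension
-/

set_option autoImplicit false

universe u

open CategoryTheory AlgebraicGeometry IsLocalRing TensorProduct Limits

namespace Groth.Agent.HenselConn.Radicial

set_option backward.isDefEq.respectTransparency.types false

variable (R K : Type u) [CommRing R] [CommRing K] [Algebra R K]

/-- A radicial integral extension, through which maps to algebraically closed fields extend. -/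
structure IsRad : Prop where
  bij : ∀ (T : Type u) [CommRing T] [Algebra R T],
    Function.Bijective (PrimeSpectrum.comap (Algebra.TensorProduct.includeRight : T →ₐ[R] K ⊗[R] T).toRingHom)
  ext : ∀ (L : Type u) [Field L] [IsAlgClosed L] (f : R →+* L), ∃ j : K →+* L, ∀ r, j (algebraMap R K r) = f r
  int : Algebra.IsIntegral R K

variable {R K} (hR : IsRad R K)

include hR in
/-- A base change along a radicial extension of algebras. -/
theorem tensor_spec {P M X : Type u} [CommRing P] [CommRing M] [CommRing X] [Algebra R P] [Algebra K M] [Algebra P M]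
    [Algebra P X] (hcomm : ∀ r, algebraMap K M (algebraMap R K r) = algebraMap P M (algebraMap R P r))
    (hgen : Subring.closure (Set.range (algebraMap K M) ∪ Set.range (algebraMap P M)) = ⊤)
    (hext : ∀ (L : Type u) [Field L] (f : P →+* L) (j : K →+* L), (∀ r, j (algebraMap R K r) = f (algebraMap R P r)) →
      ∃ g : M →+* L, g.comp (algebraMap P M) = f ∧ g.comp (algebraMap K M) = j) :
    Function.Bijective (PrimeSpectrum.comap (Algebra.TensorProduct.includeRight : X →ₐ[P] M ⊗[P] X).toRingHom) ∧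
      (Algebra.TensorProduct.includeRight : X →ₐ[P] M ⊗[P] X).toRingHom.IsIntegral := by
  let ι : X →+* M ⊗[P] X := (Algebra.TensorProduct.includeRight : X →ₐ[P] M ⊗[P] X).toRingHom
  let inM : M →+* M ⊗[P] X := Algebra.TensorProduct.includeLeftRingHom
  letI : Algebra R X := ((algebraMap P X).comp (algebraMap R P)).toAlgebra
  letI : Algebra R (M ⊗[P] X) := (ι.comp (algebraMap R X)).toAlgebra
  have hj : ∀ r, inM (algebraMap K M (algebraMap R K r)) = ι (algebraMap R X r) := fun r => by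
    rw [hcomm]
    exact Algebra.TensorProduct.tmul_one_eq_one_tmul (algebraMap R P r)
  let jK : K →ₐ[R] M ⊗[P] X := { inM.comp (algebraMap K M) with commutes' := hj }
  let ιR : X →ₐ[R] M ⊗[P] X := { ι with commutes' := fun _ => rfl }
  let s : K ⊗[R] X →ₐ[R] M ⊗[P] X := Algebra.TensorProduct.lift jK ιR fun _ _ => Commute.all _ _
  have hs : ∀ c x, s (c ⊗ₜ x) = jK c * ι x := fun c x => Algebra.TensorProduct.lift_tmul _ _ _ c x
  have hsx : ∀ x, s ((1 : K) ⊗ₜ x) = ι x := fun x => by rw [hs, map_one, one_mul]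
  have hm : ∀ m, inM m ∈ s.range := by
    intro m
    have : Subring.closure (Set.range (algebraMap K M) ∪ Set.range (algebraMap P M)) ≤ s.range.toSubring.comap inM := by
      refine Subring.closure_le.2 ?_
      rintro _ (⟨c, rfl⟩ | ⟨q, rfl⟩)
      · exact ⟨c ⊗ₜ 1, by show s (c ⊗ₜ 1) = _; rw [hs, map_one, mul_one]; rfl⟩
      · exact ⟨1 ⊗ₜ algebraMap P X q, (hsx _).trans (Algebra.TensorProduct.tmul_one_eq_one_tmul q).symm⟩
    rw [hgen] at this
    exact this (Subring.mem_top m)
  have hsurj : Function.Surjective s := fun z => by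
    induction z using TensorProduct.induction_on with
    | zero => exact ⟨0, map_zero _⟩
    | add a b ha hb =>
      obtain ⟨a', rfl⟩ := ha
      obtain ⟨b', rfl⟩ := hb
      exact ⟨a' + b', map_add _ _ _⟩
    | tmul m x =>
      obtain ⟨c, hc⟩ := hm m
      refine ⟨c * ((1 : K) ⊗ₜ x), ?_⟩
      rw [map_mul, hsx, show s c = inM m from hc]
      show (m ⊗ₜ[P] (1 : X)) * ((1 : M) ⊗ₜ[P] x) = _
      rw [Algebra.TensorProduct.tmul_mul_tmul, mul_one, one_mul]
  have hfac : ι = s.toRingHom.comp (Algebra.TensorProduct.includeRight : X →ₐ[R] K ⊗[R] X).toRingHom :=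
    RingHom.ext fun x => (hsx x).symm
  refine ⟨⟨?_, fun p => ?_⟩, fun z => ?_⟩
  · show Function.Injective (PrimeSpectrum.comap ι)
    rw [hfac, PrimeSpectrum.comap_comp]
    exact (hR.bij X).1.comp (PrimeSpectrum.comap_injective_of_surjective _ hsurj)
  · let L := AlgebraicClosure p.asIdeal.ResidueField
    let f : X →+* L := (algebraMap p.asIdeal.ResidueField L).comp (algebraMap X p.asIdeal.ResidueField)
    obtain ⟨j, hj'⟩ := hR.ext L (f.comp (algebraMap R X))
    obtain ⟨g, hgP, -⟩ := hext L (f.comp (algebraMap P X)) j hj'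
    obtain ⟨Φ, -, hΦ⟩ := exists_pair g f (RingHom.congr_fun hgP)
    refine ⟨⟨RingHom.ker Φ, RingHom.ker_isPrime _⟩, PrimeSpectrum.ext (Ideal.ext fun x => ?_)⟩
    show Φ ((1 : M) ⊗ₜ x) = 0 ↔ x ∈ p.asIdeal
    rw [hΦ]
    show algebraMap p.asIdeal.ResidueField L (algebraMap X p.asIdeal.ResidueField x) = 0 ↔ _
    rw [map_eq_zero]
    exact Ideal.algebraMap_residueField_eq_zero
  · obtain ⟨w, rfl⟩ := hsurj z
    letI : Algebra X (M ⊗[P] X) := ι.toAlgebra
    haveI : IsScalarTower R X (M ⊗[P] X) := IsScalarTower.of_algebraMap_eq' rfl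
    haveI : Algebra.IsIntegral R K := hR.int
    show IsIntegral X (s w)
    induction w using TensorProduct.induction_on with
    | zero => rw [map_zero]; exact isIntegral_zero
    | add a b ha hb => rw [map_add]; exact ha.add hb
    | tmul c x =>
      rw [hs]
      exact (((Algebra.IsIntegral.isIntegral (R := R) c).map jK).tower_top).mul (isIntegral_algebraMap (x := x))

theorem gen_base (R' : Type u) [CommRing R'] [Algebra R R'] :
    letI : Algebra R' (K ⊗[R] R') := Algebra.TensorProduct.rightAlgebra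
    Subring.closure (Set.range (algebraMap K (K ⊗[R] R')) ∪ Set.range (algebraMap R' (K ⊗[R] R'))) = ⊤ := by
  letI : Algebra R' (K ⊗[R] R') := Algebra.TensorProduct.rightAlgebra
  refine eq_top_iff.2 fun z hz => ?_
  clear hz
  induction z using TensorProduct.induction_on with
  | zero => exact zero_mem _
  | add a b ha hb => exact add_mem ha hb
  | tmul c r =>
    rw [show c ⊗ₜ[R] r = (c ⊗ₜ[R] (1 : R')) * ((1 : K) ⊗ₜ r) by rw [Algebra.TensorProduct.tmul_mul_tmul, mul_one, one_mul]]
    exact mul_mem (Subring.subset_closure (Or.inl ⟨c, rfl⟩)) (Subring.subset_closure (Or.inr ⟨r, rfl⟩))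

theorem ext_base (R' : Type u) [CommRing R'] [Algebra R R'] :
    letI : Algebra R' (K ⊗[R] R') := Algebra.TensorProduct.rightAlgebra
    ∀ (L : Type u) [Field L] (f : R' →+* L) (j : K →+* L),
      (∀ r, j (algebraMap R K r) = f (algebraMap R R' r)) →
      ∃ g : K ⊗[R] R' →+* L, g.comp (algebraMap R' (K ⊗[R] R')) = f ∧ g.comp (algebraMap K (K ⊗[R] R')) = j := by
  intro L _ f j hjf
  obtain ⟨g, hgK, hgR⟩ := exists_pair j f hjf
  exact ⟨g, RingHom.ext hgR, RingHom.ext hgK⟩


/-- The model of a base change through a quotient by nilpotents. -/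
theorem exists_model (A R' A'' : Type u) [CommRing A] [Algebra R A] [CommRing R'] [Algebra R R'] [CommRing A'']
    [Algebra K A''] (qA : K ⊗[R] A →ₐ[K] A'') (hqs : Function.Surjective qA)
    (hqL : ∀ (L : Type u) [Field L] (g : K ⊗[R] A →+* L), ∃ h : A'' →+* L, ∀ z, h (qA z) = g z) :
    ∃ (θ : A ⊗[R] R' →+* A'' ⊗[K] (K ⊗[R] R')),
      (∀ r, θ ((1 : A) ⊗ₜ[R] r) = (1 : A'') ⊗ₜ[K] ((1 : K) ⊗ₜ[R] r)) ∧
      (∀ r, algebraMap K (A'' ⊗[K] (K ⊗[R] R')) (algebraMap R K r) = θ (algebraMap R (A ⊗[R] R') r)) ∧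
      Subring.closure (Set.range (algebraMap K (A'' ⊗[K] (K ⊗[R] R'))) ∪ Set.range θ) = ⊤ ∧
      ∀ (L : Type u) [Field L] (f : A ⊗[R] R' →+* L) (j : K →+* L),
        (∀ r, j (algebraMap R K r) = f (algebraMap R (A ⊗[R] R') r)) →
        ∃ g : A'' ⊗[K] (K ⊗[R] R') →+* L, g.comp θ = f ∧ g.comp (algebraMap K (A'' ⊗[K] (K ⊗[R] R'))) = j := by
  let A₁ := K ⊗[R] A
  let R'' := K ⊗[R] R'
  let tA : A →+* A'' ⊗[K] R'' := (Algebra.TensorProduct.includeLeftRingHom : A'' →+* A'' ⊗[K] R'').comp
    (qA.toRingHom.comp (Algebra.TensorProduct.includeRight : A →ₐ[R] A₁).toRingHom)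
  let tR : R' →+* A'' ⊗[K] R'' := (Algebra.TensorProduct.includeRight : R'' →ₐ[K] A'' ⊗[K] R'').toRingHom.comp
    (Algebra.TensorProduct.includeRight : R' →ₐ[R] R'').toRingHom
  have htA : ∀ r, tA (algebraMap R A r) = algebraMap K (A'' ⊗[K] R'') (algebraMap R K r) := fun r => by
    show qA ((1 : K) ⊗ₜ[R] algebraMap R A r) ⊗ₜ[K] (1 : R'') = _
    rw [← Algebra.TensorProduct.tmul_one_eq_one_tmul]
    exact congrArg (fun a => a ⊗ₜ[K] (1 : R'')) (qA.commutes (algebraMap R K r))
  have htR : ∀ r, tR (algebraMap R R' r) = algebraMap K (A'' ⊗[K] R'') (algebraMap R K r) := fun r => by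
    show (1 : A'') ⊗ₜ[K] ((1 : K) ⊗ₜ[R] algebraMap R R' r) = _
    rw [← Algebra.TensorProduct.tmul_one_eq_one_tmul]
    exact (Algebra.TensorProduct.tmul_one_eq_one_tmul (R := K) (A := A'') (B := R'') (algebraMap R K r)).symm
  obtain ⟨θ, hθA, hθR⟩ := exists_pair (R := R) (A := A) (B := R') (C := A'' ⊗[K] R'') tA tR
    fun r => (htA r).trans (htR r).symm
  refine ⟨θ, hθR, fun r => ((hθA _).trans (htA r)).symm, ?_, ?_⟩
  · let C := Subring.closure (Set.range (algebraMap K (A'' ⊗[K] R'')) ∪ Set.range θ)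
    have hA : ∀ a : A₁, qA a ⊗ₜ[K] (1 : R'') ∈ C := fun a => by
      induction a using TensorProduct.induction_on with
      | zero => rw [map_zero, TensorProduct.zero_tmul]; exact zero_mem _
      | add a b ha hb => rw [map_add, TensorProduct.add_tmul]; exact add_mem ha hb
      | tmul c a =>
        rw [show c ⊗ₜ[R] a = (c ⊗ₜ[R] (1 : A)) * ((1 : K) ⊗ₜ a) by rw [Algebra.TensorProduct.tmul_mul_tmul, mul_one, one_mul],
          map_mul, ← mul_one (1 : R''), ← Algebra.TensorProduct.tmul_mul_tmul]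
        exact mul_mem (Subring.subset_closure (Or.inl ⟨c, (congrArg (fun a => a ⊗ₜ[K] (1 : R'')) (qA.commutes c)).symm⟩)) (Subring.subset_closure (Or.inr ⟨a ⊗ₜ 1, hθA a⟩))
    have hB : ∀ b : R'', (1 : A'') ⊗ₜ[K] b ∈ C := fun b => by
      induction b using TensorProduct.induction_on with
      | zero => rw [TensorProduct.tmul_zero]; exact zero_mem _
      | add a b ha hb => rw [TensorProduct.tmul_add]; exact add_mem ha hb
      | tmul c r =>
        rw [show c ⊗ₜ[R] r = (c ⊗ₜ[R] (1 : R')) * ((1 : K) ⊗ₜ r) by rw [Algebra.TensorProduct.tmul_mul_tmul, mul_one, one_mul],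
          ← mul_one (1 : A''), ← Algebra.TensorProduct.tmul_mul_tmul]
        exact mul_mem (Subring.subset_closure (Or.inl ⟨c, (Algebra.TensorProduct.tmul_one_eq_one_tmul c)⟩))
          (Subring.subset_closure (Or.inr ⟨1 ⊗ₜ r, hθR r⟩))
    refine eq_top_iff.2 fun z hz => ?_
    clear hz
    induction z using TensorProduct.induction_on with
    | zero => exact zero_mem _
    | add a b ha hb => exact add_mem ha hb
    | tmul a b =>
      obtain ⟨a, rfl⟩ := hqs a
      rw [← mul_one (qA a), ← one_mul b, ← Algebra.TensorProduct.tmul_mul_tmul]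
      exact mul_mem (hA a) (hB b)
  · intro L _ f j hjf
    let fA : A →+* L := f.comp Algebra.TensorProduct.includeLeftRingHom
    let fR : R' →+* L := f.comp (Algebra.TensorProduct.includeRight : R' →ₐ[R] A ⊗[R] R').toRingHom
    obtain ⟨gR, hgR, hgK⟩ := exists_pair (R := R) j fR fun r => by
      rw [hjf]
      exact congrArg f (Algebra.TensorProduct.tmul_one_eq_one_tmul r)
    obtain ⟨gA₁, hA₁K, hA₁A⟩ := exists_pair (R := R) j fA hjf
    obtain ⟨gA, hgA'⟩ := hqL L gA₁
    obtain ⟨g, hgA, hgR'⟩ := exists_pair (R := K) gA gR fun c => by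
      rw [← qA.commutes, hgA']
      exact (hA₁K c).trans (hgR c).symm
    refine ⟨g, Algebra.TensorProduct.ringHom_ext (RingHom.ext fun a => ?_) (RingHom.ext fun r => ?_),
      RingHom.ext fun c => ?_⟩
    · show g (θ (a ⊗ₜ 1)) = f (a ⊗ₜ 1)
      rw [hθA]
      exact (hgA _).trans ((hgA' _).trans (hA₁A a))
    · show g (θ (1 ⊗ₜ r)) = f (1 ⊗ₜ r)
      rw [hθR]
      exact (hgR' _).trans (hgK r)
    · refine (hgA _).trans ?_
      rw [← qA.commutes, hgA']
      exact hA₁K c

include hR in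
/-- The geometric fibres of strict localizations over a radicial extension with a good model are connected. -/
theorem connected_of_model [IsNoetherianRing K] (A R' RY A'' : Type u) [CommRing A] [Algebra R A] [CommRing R'] [Algebra R R']
    [CommRing A''] [Algebra K A''] [Module.Flat K A''] (hgeo : ∀ (L : Type u) [Field L] [Algebra K L], _root_.IsReduced (L ⊗[K] A''))
    (qA : K ⊗[R] A →ₐ[K] A'') (hqs : Function.Surjective qA)
    (hqL : ∀ (L : Type u) [Field L] (g : K ⊗[R] A →+* L), ∃ h : A'' →+* L, ∀ z, h (qA z) = g z)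
    [CommRing RY] [Algebra R RY] [Algebra R' RY] [IsScalarTower R R' RY] [HenselianLocalRing RY]
    [IsSepClosed (ResidueField RY)]
    (RX : Type u) [CommRing RX] [IsLocalRing RX] [Algebra RY RX] [IsLocalHom (algebraMap RY RX)]
    [Algebra (A ⊗[R] R') RX] [Module.Flat (A ⊗[R] R') RX]
    (hY : HasEtLift R' RY) (hX : HasEtLift (A ⊗[R] R') RX)
    (hc : ∀ r : R', algebraMap (A ⊗[R] R') RX ((1 : A) ⊗ₜ[R] r) = algebraMap RY RX (algebraMap R' RY r)) :
    ∀ (Ω : Type u) [Field Ω] [IsAlgClosed Ω] (s : Spec (CommRingCat.of Ω) ⟶ Spec (CommRingCat.of RY)),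
      ConnectedSpace ↥(pullback (Spec.map (CommRingCat.ofHom (algebraMap RY RX))) s) := by
  intro Ω _ _ s
  obtain ⟨θ, hθR, hθK, hgenM, hextM⟩ := exists_model (K := K) A R' A'' qA hqs hqL
  letI : Algebra R' (K ⊗[R] R') := Algebra.TensorProduct.rightAlgebra
  let R'' := K ⊗[R] R'
  let P := A ⊗[R] R'
  letI : Algebra P (A'' ⊗[K] R'') := θ.toAlgebra
  let Y := R'' ⊗[R'] RY
  let X := (A'' ⊗[K] R'') ⊗[P] RX
  obtain ⟨hbY, hiY⟩ := tensor_spec hR (P := R') (M := R'') (X := RY)
    (fun r => Algebra.TensorProduct.tmul_one_eq_one_tmul r) (Radicial.gen_base R') (Radicial.ext_base R')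
  obtain ⟨hbX, hiX⟩ := tensor_spec hR (P := P) (M := A'' ⊗[K] R'') (X := RX) hθK hgenM hextM
  let ιY : RY →+* Y := (Algebra.TensorProduct.includeRight : RY →ₐ[R'] Y).toRingHom
  let ιX : RX →+* X := (Algebra.TensorProduct.includeRight : RX →ₐ[P] X).toRingHom
  letI : Algebra RY Y := ιY.toAlgebra
  haveI : Algebra.IsIntegral RY Y := ⟨hiY⟩
  letI : Algebra RX X := Algebra.TensorProduct.rightAlgebra
  haveI : Algebra.IsIntegral RX X := ⟨hiX⟩
  haveI : IsLocalRing Y := isLocalRing_of_comap hbY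
  haveI : IsLocalRing X := isLocalRing_of_comap hbX
  haveI : IsLocalHom (algebraMap RY Y) := Hensel.isLocalHom_of_isIntegral_local RY Y
  haveI : IsLocalHom (algebraMap RX X) := Hensel.isLocalHom_of_isIntegral_local RX X
  haveI : HenselianLocalRing Y := Hensel.henselianLocalRing_of_isIntegral_local RY Y
  haveI : Algebra.IsIntegral (ResidueField RY) (ResidueField Y) := ⟨fun y => by
    obtain ⟨z, rfl⟩ := IsLocalRing.residue_surjective y
    exact ((Algebra.IsIntegral.isIntegral (R := RY) z).map (IsScalarTower.toAlgHom RY Y (ResidueField Y))).tower_top⟩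
  haveI : IsSepClosed (ResidueField Y) := isSepClosed_of_algebraic (ResidueField RY) _
  let inR : R'' →+* X := (Algebra.TensorProduct.includeLeftRingHom : (A'' ⊗[K] R'') →+* X).comp
    (Algebra.TensorProduct.includeRight : R'' →ₐ[K] A'' ⊗[K] R'').toRingHom
  obtain ⟨φ, hφR, hφY⟩ := exists_pair (R := R') (A := R'') (B := RY) (C := X) inR (ιX.comp (algebraMap RY RX)) fun r => by
    show ((1 : A'') ⊗ₜ[K] ((1 : K) ⊗ₜ[R] r)) ⊗ₜ[P] (1 : RX) = (1 : A'' ⊗[K] R'') ⊗ₜ[P] algebraMap RY RX (algebraMap R' RY r)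
    rw [← hc, ← hθR]
    exact Algebra.TensorProduct.tmul_one_eq_one_tmul ((1 : A) ⊗ₜ[R] r)
  letI : Algebra Y X := φ.toAlgebra
  have e1 : algebraMap Y X = φ := rfl
  have hsq : ∀ y, (algebraMap Y X) (ιY y) = ιX (algebraMap RY RX y) := fun y => by
    rw [e1]
    exact hφY y
  have hsq' : (algebraMap Y X).comp ιY = (algebraMap RX X).comp (algebraMap RY RX) := RingHom.ext hsq
  letI : CommRing X := inferInstance
  haveI : IsLocalHom (algebraMap Y X) := ⟨fun y hy => by
    by_contra hn
    have hmem : y ∈ maximalIdeal Y := hn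
    have h2 : PrimeSpectrum.comap (algebraMap Y X) (closedPoint X) = closedPoint Y := hbY.1 (by
      show PrimeSpectrum.comap ιY _ = PrimeSpectrum.comap (algebraMap RY Y) _
      rw [← PrimeSpectrum.comap_comp_apply, hsq', PrimeSpectrum.comap_comp_apply]
      show PrimeSpectrum.comap (algebraMap RY RX) (PrimeSpectrum.comap (algebraMap RX X) (closedPoint X)) = _
      rw [comap_closedPoint, comap_closedPoint, comap_closedPoint])
    exact (congrArg PrimeSpectrum.asIdeal h2).ge hmem hy⟩
  obtain ⟨hff, hconn⟩ := connected_strict (R := K) (A := A'') (R' := R'') (RY := Y) X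
    hgeo (hasEtLift_tensor hY) (hasEtLift_tensor hX) (fun r => (hφR r).symm)
  obtain ⟨ψ, rfl⟩ := Spec.map_surjective s
  algebraize [ψ.hom]
  obtain ⟨j, hj⟩ := hR.ext Ω (((algebraMap RY Ω).comp (algebraMap R' RY)).comp (algebraMap R R'))
  obtain ⟨gR, hgR, -⟩ := Radicial.ext_base R' Ω ((algebraMap RY Ω).comp (algebraMap R' RY)) j hj
  obtain ⟨gY, -, hgY⟩ := exists_pair gR (algebraMap RY Ω) (RingHom.congr_fun hgR)
  letI : Algebra Y Ω := gY.toAlgebra
  haveI := hconn Ω
  haveI : ConnectedSpace (PrimeSpectrum (Ω ⊗[RY] RX)) := by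
    refine connected_descend ιY (algebraMap RX X) hsq' (fun L _ g π hgπ => ?_) Ω hgY
    let gK : R'' →+* L := g.comp Algebra.TensorProduct.includeLeftRingHom
    have hgr : ∀ r, gK ((1 : K) ⊗ₜ[R] r) = π (algebraMap P RX ((1 : A) ⊗ₜ[R] r)) := fun r => by
      rw [hc, ← hgπ]
      exact congrArg g (Algebra.TensorProduct.tmul_one_eq_one_tmul r)
    obtain ⟨gM, hgM, hgMK⟩ := hextM L (π.comp (algebraMap P RX)) (gK.comp (algebraMap K R'')) fun r => by
      show gK (algebraMap R K r ⊗ₜ[R] (1 : R')) = π (algebraMap P RX (algebraMap R A r ⊗ₜ[R] (1 : R')))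
      rw [Algebra.TensorProduct.tmul_one_eq_one_tmul, Algebra.TensorProduct.tmul_one_eq_one_tmul]
      exact hgr _
    obtain ⟨gX, hgXM, hgX⟩ := exists_pair gM π (RingHom.congr_fun hgM)
    refine ⟨gX, RingHom.ext hgX, Algebra.TensorProduct.ringHom_ext ?_ (RingHom.ext fun y => ?_)⟩
    · refine Algebra.TensorProduct.ringHom_ext (RingHom.ext fun c => ?_) (RingHom.ext fun r => ?_)
      · refine (congrArg gX (hφR _)).trans ((hgXM _).trans (Eq.trans (congrArg gM ?_) (RingHom.congr_fun hgMK c)))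
        exact (Algebra.TensorProduct.tmul_one_eq_one_tmul (R := K) c).symm
      · refine (congrArg gX (hφR _)).trans ((hgXM _).trans ((congrArg gM (hθR r).symm).trans
          ((RingHom.congr_fun hgM _).trans (hgr r).symm)))
    · exact (congrArg gX (hφY y)).trans ((hgX _).trans (hgπ y).symm)
  haveI : ConnectedSpace (PrimeSpectrum (RX ⊗[RY] Ω)) :=
    (PrimeSpectrum.homeomorphOfRingEquiv (Algebra.TensorProduct.comm RY Ω RX).toRingEquiv).surjective.connectedSpace
      (PrimeSpectrum.homeomorphOfRingEquiv (Algebra.TensorProduct.comm RY Ω RX).toRingEquiv).continuous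
  have φ' := Scheme.homeoOfIso (pullbackSpecIso RY RX Ω).symm
  haveI : ConnectedSpace ↥(Spec (CommRingCat.of (RX ⊗[RY] Ω))) := inferInstanceAs (ConnectedSpace (PrimeSpectrum (RX ⊗[RY] Ω)))
  exact φ'.surjective.connectedSpace φ'.continuous


end Groth.Agent.HenselConn.Radicial
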