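import Groth.Agent.HenselConn.Radicial
import Groth.Agent.GeomRedFlat5.Nhd
import Groth.Agent.HenselConn.Geom
import Mathlib.FieldTheory.PurelyInseparable.PerfectClosure
import Mathlib.RingTheory.EssentialFiniteness

/-!
# Generic geometric reducedness after a radicial extension of the base
-/

set_option autoImplicit false

universe u

open CategoryTheory AlgebraicGeometry IsLocalRing TensorProduct Limits

namespace Groth.Agent.HenselConn.Radicial

set_option backward.isDefEq.respectTransparency.types false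

section pow

variable {R K : Type u} [CommRing R] [CommRing K] [Algebra R K] (q : ℕ)
  (hq : q = 1 ∨ q.Prime ∧ (q : K) = 0) (hpow : ∀ x : K, ∃ n : ℕ, x ^ q ^ n ∈ (algebraMap R K).range)

include hq in
theorem q_pos : 0 < q := by
  rcases hq with rfl | ⟨h, -⟩
  · exact Nat.one_pos
  · exact h.pos

include hq hpow in
theorem exists_pow_mem_range (T : Type u) [CommRing T] [Algebra R T] (z : K ⊗[R] T) :
    ∃ n : ℕ, z ^ q ^ n ∈ (Algebra.TensorProduct.includeRight : T →ₐ[R] K ⊗[R] T).toRingHom.range := by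
  induction z using TensorProduct.induction_on with
  | zero => exact ⟨0, ⟨0, by simp⟩⟩
  | tmul c t =>
    obtain ⟨n, r, hr⟩ := hpow c
    refine ⟨n, ⟨r • t ^ q ^ n, ?_⟩⟩
    show (1 : K) ⊗ₜ[R] (r • t ^ q ^ n) = _
    rw [Algebra.TensorProduct.tmul_pow, ← hr, ← TensorProduct.smul_tmul (R := R), ← Algebra.algebraMap_eq_smul_one]
  | add a b ha hb =>
    obtain ⟨n, hn⟩ := ha
    obtain ⟨m, hm⟩ := hb
    have up : ∀ (z : K ⊗[R] T) (n m : ℕ), z ^ q ^ n ∈ (Algebra.TensorProduct.includeRight : T →ₐ[R] K ⊗[R] T).toRingHom.range →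
        z ^ q ^ (n + m) ∈ (Algebra.TensorProduct.includeRight : T →ₐ[R] K ⊗[R] T).toRingHom.range := fun z n m h => by
      rw [pow_add, pow_mul]
      exact pow_mem h _
    rcases hq with rfl | ⟨hp, h0⟩
    · have ha' : a ∈ (Algebra.TensorProduct.includeRight : T →ₐ[R] K ⊗[R] T).toRingHom.range := by simpa using hn
      have hb' : b ∈ (Algebra.TensorProduct.includeRight : T →ₐ[R] K ⊗[R] T).toRingHom.range := by simpa using hm
      exact ⟨0, by simpa using add_mem ha' hb'⟩
    · refine ⟨n + m, ?_⟩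
      obtain ⟨c, hc⟩ := exists_add_pow_prime_pow_eq hp a b (n + m)
      have h0' : (q : K ⊗[R] T) = 0 := by
        rw [← map_natCast (Algebra.TensorProduct.includeLeftRingHom : K →+* K ⊗[R] T), h0, map_zero]
      rw [hc, h0', zero_mul, zero_mul, zero_mul, add_zero]
      exact add_mem (up a n m hn) (Nat.add_comm m n ▸ up b m n hm)

include hq hpow in
/-- Purely inseparable extensions by nilpotent thickenings are radicial. -/
theorem isRad_of_pow (hker : RingHom.ker (algebraMap R K) ≤ nilradical R) : IsRad R K := by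
  have hint : Algebra.IsIntegral R K := ⟨fun x => by
    obtain ⟨n, r, hr⟩ := hpow x
    exact IsIntegral.of_pow (pow_pos (q_pos q hq) n) (hr ▸ isIntegral_algebraMap)⟩
  have hext : ∀ (L : Type u) [Field L] [IsAlgClosed L] (f : R →+* L), ∃ j : K →+* L, ∀ r, j (algebraMap R K r) = f r := by
    intro L _ _ f
    let P := RingHom.ker f
    haveI : P.IsPrime := RingHom.ker_isPrime _
    obtain ⟨Q, -, hQ, hQP⟩ := Ideal.exists_ideal_over_prime_of_isIntegral (S := K) P ⊥
      (hker.trans (nilradical_le_prime P))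
    haveI := hQ
    let κ := P.ResidueField
    let e : κ →+* Q.ResidueField := Ideal.ResidueField.map P Q (algebraMap R K) hQP.symm
    letI : Algebra κ Q.ResidueField := e.toAlgebra
    letI : Algebra κ L := (Ideal.ResidueField.lift P f le_rfl fun a ha => isUnit_iff_ne_zero.2 fun h => ha h).toAlgebra
    have hK : ∀ x : K, IsIntegral κ (algebraMap K Q.ResidueField x) := fun x => by
      obtain ⟨n, r, hr⟩ := hpow x
      refine IsIntegral.of_pow (pow_pos (q_pos q hq) n) ?_
      rw [← map_pow, ← hr]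
      have : e (algebraMap R κ r) = algebraMap K Q.ResidueField (algebraMap R K r) := by
        simp [e, κ]
      rw [← this]
      exact isIntegral_algebraMap
    haveI : Algebra.IsIntegral κ Q.ResidueField := ⟨fun y => by
      obtain ⟨⟨a, b⟩, hab⟩ := IsLocalization.surj (nonZeroDivisors (K ⧸ Q)) y
      obtain ⟨a, rfl⟩ := Ideal.Quotient.mk_surjective a
      obtain ⟨b', hb'⟩ := Ideal.Quotient.mk_surjective (b : K ⧸ Q)
      dsimp only at hab
      rw [← hb'] at hab
      have hb0 : algebraMap (K ⧸ Q) Q.ResidueField (Ideal.Quotient.mk Q b') ≠ 0 := by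
        rw [hb']
        exact IsFractionRing.to_map_ne_zero_of_mem_nonZeroDivisors b.2
      rw [show y = algebraMap (K ⧸ Q) Q.ResidueField (Ideal.Quotient.mk Q a) *
        (algebraMap (K ⧸ Q) Q.ResidueField (Ideal.Quotient.mk Q b'))⁻¹ from by rw [← hab, mul_inv_cancel_right₀ hb0]]
      exact (hK a).mul (hK b').inv⟩
    let j : Q.ResidueField →ₐ[κ] L := IsAlgClosed.lift
    refine ⟨j.toRingHom.comp (algebraMap K Q.ResidueField), fun r => ?_⟩
    show j (algebraMap K Q.ResidueField (algebraMap R K r)) = f r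
    rw [show algebraMap K Q.ResidueField (algebraMap R K r) = algebraMap κ Q.ResidueField (algebraMap R κ r) by
      show _ = e (algebraMap R κ r)
      simp [e, κ], AlgHom.commutes]
    exact Ideal.ResidueField.lift_algebraMap P _ _ _ r
  refine ⟨fun T _ _ => ⟨fun p₁ p₂ h => ?_, fun p => ?_⟩, hext, hint⟩
  · refine PrimeSpectrum.ext (Ideal.ext fun z => ?_)
    obtain ⟨n, t, ht⟩ := exists_pow_mem_range q hq hpow T z
    have key : ∀ p' : PrimeSpectrum (K ⊗[R] T), z ∈ p'.asIdeal ↔ t ∈ (PrimeSpectrum.comap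
        (Algebra.TensorProduct.includeRight : T →ₐ[R] K ⊗[R] T).toRingHom p').asIdeal := fun p' => by
      rw [PrimeSpectrum.comap_asIdeal, Ideal.mem_comap, ht]
      exact ⟨fun hz => Ideal.pow_mem_of_mem _ hz _ (pow_pos (q_pos q hq) n), fun hz => p'.isPrime.mem_of_pow_mem _ hz⟩
    rw [key p₁, key p₂, h]
  · let L := AlgebraicClosure p.asIdeal.ResidueField
    let f : T →+* L := (algebraMap p.asIdeal.ResidueField L).comp (algebraMap T p.asIdeal.ResidueField)
    obtain ⟨j, hj⟩ := hext L (f.comp (algebraMap R T))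
    obtain ⟨Φ, -, hΦ⟩ := exists_pair (R := R) j f hj
    refine ⟨⟨RingHom.ker Φ, RingHom.ker_isPrime _⟩, PrimeSpectrum.ext (Ideal.ext fun t => ?_)⟩
    show Φ ((1 : K) ⊗ₜ t) = 0 ↔ t ∈ p.asIdeal
    rw [hΦ]
    show algebraMap p.asIdeal.ResidueField L (algebraMap T p.asIdeal.ResidueField t) = 0 ↔ _
    rw [map_eq_zero]
    exact Ideal.algebraMap_residueField_eq_zero

end pow

/-- The generic fibre of the quotient by nilpotents is reduced when nilpotents are defined upstairs. -/
theorem isReduced_fibre_quotient {A K F B : Type u} [CommRing A] [CommRing K] [Field F] [CommRing B] [Algebra A K]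
    [Algebra K F] [Algebra A F] [IsScalarTower A K F] [Algebra A B] (s : Set (F ⊗[A] B))
    (hs : Ideal.span s = nilradical (F ⊗[A] B))
    (h : ∀ g ∈ s, ∃ u : A, algebraMap A F u ≠ 0 ∧ ∃ G : K ⊗[A] B, IsNilpotent G ∧
      Algebra.TensorProduct.map (IsScalarTower.toAlgHom A K F) (AlgHom.id A B) G = u • g) :
    _root_.IsReduced (F ⊗[K] ((K ⊗[A] B) ⧸ nilradical (K ⊗[A] B))) := by
  let M := K ⊗[A] B
  let val : M →ₐ[A] F ⊗[A] B := Algebra.TensorProduct.map (IsScalarTower.toAlgHom A K F) (AlgHom.id A B)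
  -- the quotient of the generic fibre
  let qM : M →+* M ⧸ nilradical M := Ideal.Quotient.mk _
  let T := F ⊗[K] (M ⧸ nilradical M)
  obtain ⟨Ψ, hΨK, hΨB⟩ := exists_pair (R := A) (A := F) (B := B) (C := T) (Algebra.TensorProduct.includeLeftRingHom : F →+* T)
    ((Algebra.TensorProduct.includeRight : M ⧸ nilradical M →ₐ[K] T).toRingHom.comp
      (qM.comp (Algebra.TensorProduct.includeRight : B →ₐ[A] M).toRingHom)) fun a => by
    show algebraMap A F a ⊗ₜ[K] (1 : M ⧸ nilradical M) = (1 : F) ⊗ₜ[K] qM ((1 : K) ⊗ₜ[A] algebraMap A B a)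
    rw [← Algebra.TensorProduct.tmul_one_eq_one_tmul (R := A)]
    rw [IsScalarTower.algebraMap_apply A K F]
    exact Algebra.TensorProduct.tmul_one_eq_one_tmul (R := K) (A := F) (B := M ⧸ nilradical M) (algebraMap A K a)
  have hΨval : ∀ G : M, Ψ (val G) = (1 : F) ⊗ₜ[K] qM G := fun G => by
    refine RingHom.congr_fun (f := Ψ.comp val.toRingHom)
      (g := (Algebra.TensorProduct.includeRight : M ⧸ nilradical M →ₐ[K] T).toRingHom.comp qM)
      (Algebra.TensorProduct.ringHom_ext (RingHom.ext fun c => ?_) (RingHom.ext fun b => ?_)) G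
    · show Ψ (val (c ⊗ₜ[A] (1 : B))) = (1 : F) ⊗ₜ[K] qM (c ⊗ₜ 1)
      rw [Algebra.TensorProduct.map_tmul]
      exact (hΨK _).trans (Algebra.TensorProduct.tmul_one_eq_one_tmul (R := K) (A := F) (B := M ⧸ nilradical M) c)
    · show Ψ (val ((1 : K) ⊗ₜ[A] b)) = (1 : F) ⊗ₜ[K] qM (1 ⊗ₜ b)
      rw [Algebra.TensorProduct.map_tmul]
      exact (congrArg Ψ (by simp)).trans (hΨB b)
  have hnil : nilradical (F ⊗[A] B) ≤ RingHom.ker Ψ := by
    rw [← hs, Ideal.span_le]
    intro g hg
    obtain ⟨u, hu0, G, hGn, hG⟩ := h g hg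
    have h1 : Ψ (val G) = 0 := by
      rw [hΨval, show qM G = 0 from Ideal.Quotient.eq_zero_iff_mem.2 (mem_nilradical.2 hGn), TensorProduct.tmul_zero]
    rw [hG, Algebra.smul_def, map_mul] at h1
    have hu : IsUnit (Ψ (algebraMap A (F ⊗[A] B) u)) := by
      rw [show algebraMap A (F ⊗[A] B) u = algebraMap A F u ⊗ₜ[A] (1 : B) from rfl, hΨK]
      exact (isUnit_iff_ne_zero.2 hu0).map _
    exact hu.mul_right_eq_zero.1 h1
  let Red := (F ⊗[A] B) ⧸ nilradical (F ⊗[A] B)
  haveI : _root_.IsReduced Red := (Ideal.isRadical_iff_quotient_reduced _).1 (Ideal.radical_isRadical _)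
  let Ψ' : Red →+* T := Ideal.Quotient.lift _ Ψ hnil
  let qI : F ⊗[A] B →+* Red := Ideal.Quotient.mk _
  let γ : M ⧸ nilradical M →+* Red := Ideal.Quotient.lift _ (qI.comp val.toRingHom) fun x hx =>
    Ideal.Quotient.eq_zero_iff_mem.2 (mem_nilradical.2 ((mem_nilradical.1 hx).map val))
  obtain ⟨Γ, hΓK, hΓM⟩ := exists_pair (R := K) (qI.comp (Algebra.TensorProduct.includeLeftRingHom : F →+* F ⊗[A] B)) γ
    fun c => by
      show qI (algebraMap K F c ⊗ₜ[A] (1 : B)) = γ (qM (c ⊗ₜ 1))
      show _ = qI (val (c ⊗ₜ 1))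
      rw [Algebra.TensorProduct.map_tmul]
      simp
  have hid : Ψ'.comp Γ = RingHom.id T := by
    refine Algebra.TensorProduct.ringHom_ext (RingHom.ext fun c => ?_) (RingHom.ext fun m => ?_)
    · exact (congrArg Ψ' (hΓK c)).trans (hΨK c)
    · obtain ⟨G, rfl⟩ := Ideal.Quotient.mk_surjective m
      exact (congrArg Ψ' (hΓM _)).trans (hΨval G)
  exact isReduced_of_injective Γ (Function.LeftInverse.injective fun z => RingHom.congr_fun hid z)



section generic

variable (A : Type u) [CommRing A] [(nilradical A).IsPrime] (B : Type u) [CommRing B] [Algebra A B]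


local notation "kk" => Ideal.ResidueField (nilradical A)

variable (F : Type u) [Field F] [Algebra (Ideal.ResidueField (nilradical A)) F] [Algebra A F]
  [IsScalarTower A (Ideal.ResidueField (nilradical A)) F] [IsPurelyInseparable (Ideal.ResidueField (nilradical A)) F]

theorem algebraMap_eq_zero_iff' (a : A) : algebraMap A F a = 0 ↔ a ∈ nilradical A := by
  rw [IsScalarTower.algebraMap_apply A kk F, map_eq_zero]
  exact Ideal.algebraMap_residueField_eq_zero

theorem expChar_cases {R : Type u} [CommRing R] (m : ℕ) [h : ExpChar R m] : m = 1 ∨ m.Prime ∧ (m : R) = 0 := by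
  cases h with
  | zero => exact Or.inl rfl
  | prime hp => exact Or.inr ⟨hp, CharP.cast_eq_zero R m⟩

/-- Elements of the generic fibre are defined over finitely generated radicial extensions, up to scalars. -/
theorem exists_def (z : F ⊗[A] B) :
    ∃ S : Finset F, (∀ c ∈ S, ∃ n : ℕ, c ^ ringExpChar kk ^ n ∈ (algebraMap A F).range) ∧
    ∀ K : Subalgebra A F, (S : Set F) ⊆ K → ∃ d ∉ nilradical A,
      d • z ∈ (Algebra.TensorProduct.map K.val (AlgHom.id A B)).range := by
  classical
  let P := nilradical A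
  let k := P.ResidueField
  let q := ringExpChar k
  haveI : ExpChar k q := inferInstance
  induction z using TensorProduct.induction_on with
  | zero => exact ⟨∅, by simp, fun K _ => ⟨1, fun h => (Ideal.IsPrime.ne_top ‹_›) ((Ideal.eq_top_iff_one _).2 h), by
      rw [smul_zero]; exact zero_mem _⟩⟩
  | tmul c b =>
    obtain ⟨n, y, hy⟩ := IsPurelyInseparable.pow_mem k q c
    obtain ⟨⟨a, s⟩, hs⟩ := IsLocalization.surj (nonZeroDivisors (A ⧸ P)) y
    obtain ⟨a, rfl⟩ := Ideal.Quotient.mk_surjective a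
    obtain ⟨d, hd⟩ := Ideal.Quotient.mk_surjective (s : A ⧸ P)
    have hdP : d ∉ P := fun h => nonZeroDivisors.ne_zero s.2 (hd ▸ Ideal.Quotient.eq_zero_iff_mem.2 h)
    refine ⟨{algebraMap A F d * c}, fun c' hc' => ?_, fun K hK => ⟨d, hdP, ?_⟩⟩
    · obtain rfl := Finset.mem_singleton.1 hc'
      refine ⟨n, ⟨d ^ (q ^ n - 1) * a, ?_⟩⟩
      have hs' : y * algebraMap A k d = algebraMap A k a := by
        dsimp only at hs
        rw [← hd] at hs
        exact hs
      rw [mul_pow, ← hy, map_mul, map_pow, IsScalarTower.algebraMap_apply A k F d,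
        IsScalarTower.algebraMap_apply A k F a, ← hs', map_mul]
      obtain ⟨m, hm⟩ : ∃ m, q ^ n = m + 1 :=
        ⟨q ^ n - 1, (Nat.succ_pred_eq_of_pos (pow_pos (expChar_pos k q) n)).symm⟩
      rw [hm, Nat.add_sub_cancel, pow_succ]
      ring
    · refine ⟨⟨algebraMap A F d * c, hK (Finset.mem_singleton_self _)⟩ ⊗ₜ[A] b, ?_⟩
      refine (Algebra.TensorProduct.map_tmul _ _ _ _).trans ?_
      show (algebraMap A F d * c) ⊗ₜ[A] b = d • (c ⊗ₜ[A] b)
      rw [TensorProduct.smul_tmul', Algebra.smul_def]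
  | add x y hx hy =>
    obtain ⟨S, hS, hx⟩ := hx
    obtain ⟨T, hT, hy⟩ := hy
    refine ⟨S ∪ T, fun c hc => (Finset.mem_union.1 hc).elim (hS c) (hT c), fun K hK => ?_⟩
    obtain ⟨d, hd, hxd⟩ := hx K ((Finset.coe_subset.2 Finset.subset_union_left).trans hK)
    obtain ⟨e, he, hye⟩ := hy K ((Finset.coe_subset.2 Finset.subset_union_right).trans hK)
    refine ⟨d * e, fun h => (Ideal.IsPrime.mem_or_mem ‹_› h).elim hd he, ?_⟩
    rw [smul_add, mul_smul d e y, mul_comm d e, mul_smul e d x]
    exact add_mem (Subalgebra.smul_mem _ hxd e) (Subalgebra.smul_mem _ hye d)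

/-- Nilpotents of the generic fibre come from nilpotents over a radicial extension. -/
theorem exists_smul_nilpotent (K : Subalgebra A F)
    (hpow : ∀ x : K, ∃ n : ℕ, x ^ ringExpChar kk ^ n ∈ (algebraMap A K).range) (G : K ⊗[A] B)
    (hG : IsNilpotent (Algebra.TensorProduct.map K.val (AlgHom.id A B) G)) :
    ∃ t ∉ nilradical A, IsNilpotent (t • G) := by
  let P := nilradical A
  let k := P.ResidueField
  let q := ringExpChar k
  haveI : ExpChar k q := inferInstance
  let M := K ⊗[A] B
  let val : M →ₐ[A] F ⊗[A] B := Algebra.TensorProduct.map K.val (AlgHom.id A B)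
  by_contra hcon
  push Not at hcon
  obtain ⟨Q, hQ, -, hdisj⟩ := Ideal.exists_le_prime_disjoint (⊥ : Ideal M)
    (Submonoid.map (algebraMap A M).toMonoidHom P.primeCompl ⊔ Submonoid.powers G)
    (Set.disjoint_left.2 fun r hr hr' => by
      obtain ⟨_, ⟨t, ht, rfl⟩, _, ⟨n, rfl⟩, e⟩ := Submonoid.mem_sup.1 hr'
      refine hcon t ht ⟨n + 1, ?_⟩
      have e' : algebraMap A M t * G ^ n = 0 := e.trans (Ideal.mem_bot.1 hr)
      rw [show t • G = algebraMap A M t * G from Algebra.smul_def t G, mul_pow, pow_succ (algebraMap A M t), pow_succ G,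
        show algebraMap A M t ^ n * algebraMap A M t * (G ^ n * G) =
          algebraMap A M t ^ n * (algebraMap A M t * G ^ n) * G by ring, e', mul_zero, zero_mul])
  let L := AlgebraicClosure Q.ResidueField
  let g : M →+* L := (algebraMap Q.ResidueField L).comp (algebraMap M Q.ResidueField)
  have hg0 : ∀ m, g m = 0 ↔ m ∈ Q := fun m => by
    show algebraMap Q.ResidueField L (algebraMap M Q.ResidueField m) = 0 ↔ _
    rw [map_eq_zero]
    exact Ideal.algebraMap_residueField_eq_zero
  letI : Algebra k L := (Ideal.ResidueField.lift P (g.comp (algebraMap A M))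
    (fun a ha => IsNilpotent.eq_zero ((mem_nilradical.1 ha).map _))
    (fun a ha => isUnit_iff_ne_zero.2 fun h => Set.disjoint_left.1 hdisj ((hg0 _).1 h)
      (Submonoid.mem_sup_left ⟨a, ha, rfl⟩))).toAlgebra
  haveI : ExpChar L q := expChar_of_injective_algebraMap (algebraMap k L).injective q
  let j : F →ₐ[k] L := IsAlgClosed.lift
  have hjA : ∀ a, j (algebraMap A F a) = g (algebraMap A M a) := fun a => by
    rw [IsScalarTower.algebraMap_apply A k F, AlgHom.commutes]
    exact Ideal.ResidueField.lift_algebraMap P _ _ _ a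
  let gB : B →+* L := g.comp (Algebra.TensorProduct.includeRight : B →ₐ[A] M).toRingHom
  obtain ⟨Φ, hΦK, hΦB⟩ := exists_pair (R := A) j.toRingHom gB fun a => by
    refine (hjA a).trans (congrArg g ?_)
    exact Algebra.TensorProduct.tmul_one_eq_one_tmul a
  have hjK : ∀ c : K, j (c : F) = g (c ⊗ₜ[A] (1 : B)) := fun c => by
    obtain ⟨n, r, hr⟩ := hpow c
    refine iterateFrobenius_inj L q n ?_
    rw [iterateFrobenius_def, iterateFrobenius_def, ← map_pow, ← map_pow,
      show (c : F) ^ q ^ n = algebraMap A F r from (congrArg Subtype.val hr).symm.trans (by simp), hjA]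
    refine congrArg g ?_
    rw [Algebra.TensorProduct.tmul_pow, one_pow, ← hr]
    rfl
  have hΦv : Φ.comp val.toRingHom = g := by
    refine Algebra.TensorProduct.ringHom_ext (RingHom.ext fun c => ?_) (RingHom.ext fun b => ?_)
    · show Φ (val (c ⊗ₜ[A] (1 : B))) = g (c ⊗ₜ 1)
      rw [← hjK, Algebra.TensorProduct.map_tmul]
      exact hΦK _
    · show Φ (val ((1 : K) ⊗ₜ[A] b)) = g (1 ⊗ₜ b)
      rw [Algebra.TensorProduct.map_tmul]
      exact (congrArg Φ (by simp)).trans (hΦB b)
  have : g G = 0 := (RingHom.congr_fun hΦv G).symm.trans (IsNilpotent.eq_zero (hG.map Φ))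
  exact Set.disjoint_left.1 hdisj ((hg0 G).1 this) (Submonoid.mem_sup_right ⟨1, pow_one G⟩)

/-- A finitely generated radicial extension over which the nilradical of the generic fibre is defined. -/
theorem exists_radicial_of [PerfectField F] [IsNoetherianRing A] [Algebra.FiniteType A B] :
    ∃ (K : Type u) (_ : CommRing K) (_ : IsDomain K) (_ : IsNoetherianRing K) (_ : Algebra A K) (q : ℕ),
      (q = 1 ∨ q.Prime ∧ (q : K) = 0) ∧ (∀ x : K, ∃ n : ℕ, x ^ q ^ n ∈ (algebraMap A K).range) ∧
      RingHom.ker (algebraMap A K) ≤ nilradical A ∧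
      ∃ (E : Type u) (_ : Field E) (_ : PerfectField E) (_ : Algebra K E),
        Function.Injective (algebraMap K E) ∧
        _root_.IsReduced (E ⊗[K] ((K ⊗[A] B) ⧸ nilradical (K ⊗[A] B))) := by
  classical
  let P := nilradical A
  let k := P.ResidueField
  let q := ringExpChar k
  haveI : ExpChar k q := inferInstance
  haveI : ExpChar F q := expChar_of_injective_algebraMap (algebraMap k F).injective q
  haveI : IsScalarTower A k F := inferInstance
  have hAker : ∀ a, algebraMap A F a = 0 ↔ a ∈ P := algebraMap_eq_zero_iff' A F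
  have hPr := exists_def A B F
  haveI : IsNoetherianRing (F ⊗[A] B) := Algebra.EssFiniteType.isNoetherianRing F _
  obtain ⟨gs, hgs⟩ := (IsNoetherian.noetherian (nilradical (F ⊗[A] B)) : (nilradical (F ⊗[A] B)).FG)
  choose S hS hdef using hPr
  let K : Subalgebra A F := Algebra.adjoin A ((gs.biUnion S : Finset F) : Set F)
  haveI : Algebra.FiniteType A K := (Subalgebra.fg_iff_finiteType K).1 (Subalgebra.fg_adjoin_finset _)
  haveI : IsNoetherianRing K := Algebra.FiniteType.isNoetherianRing A K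
  have hqK : q = 1 ∨ q.Prime ∧ (q : K) = 0 := by
    rcases expChar_cases (R := F) q with h | h
    · exact Or.inl h
    · exact Or.inr ⟨h.1, Subtype.ext (by simpa using h.2)⟩
  have hpowK : ∀ x : F, x ∈ K → ∃ n : ℕ, x ^ q ^ n ∈ (algebraMap A F).range := fun x hx => by
    induction hx using Algebra.adjoin_induction with
    | mem c hc => exact (Finset.mem_biUnion.1 hc).elim fun g hg => hS g c hg.2
    | algebraMap r => exact ⟨0, ⟨r, by simp⟩⟩
    | add x y _ _ hx hy =>
      obtain ⟨n, hn⟩ := hx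
      obtain ⟨m, hm⟩ := hy
      refine ⟨n + m, ?_⟩
      rw [add_pow_expChar_pow, pow_add, pow_mul, mul_comm, pow_mul y]
      exact add_mem (pow_mem hn _) (pow_mem hm _)
    | mul x y _ _ hx hy =>
      obtain ⟨n, hn⟩ := hx
      obtain ⟨m, hm⟩ := hy
      refine ⟨n + m, ?_⟩
      rw [mul_pow, pow_add, pow_mul, mul_comm (q ^ n), pow_mul y]
      exact mul_mem (pow_mem hn _) (pow_mem hm _)
  have hpow : ∀ x : K, ∃ n : ℕ, x ^ q ^ n ∈ (algebraMap A K).range := fun x => by
    obtain ⟨n, r, hr⟩ := hpowK x x.2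
    exact ⟨n, r, Subtype.ext (hr.trans (by simp))⟩
  have hkerK : RingHom.ker (algebraMap A K) ≤ nilradical A := fun a ha =>
    (hAker a).1 (congrArg Subtype.val (show algebraMap A K a = 0 from ha))
  refine ⟨K, inferInstance, inferInstance, inferInstance, inferInstance, q, hqK, hpow, hkerK, F, inferInstance, inferInstance,
    inferInstance, Subtype.val_injective, ?_⟩
  refine isReduced_fibre_quotient (A := A) (K := K) (B := B) (F := F) (gs : Set (F ⊗[A] B)) hgs fun g hg => ?_
  have hgn : IsNilpotent g := mem_nilradical.1 (hgs ▸ Ideal.subset_span hg)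
  obtain ⟨d, hd, G, hG⟩ := hdef g K (Set.Subset.trans (Finset.coe_subset.2 (Finset.subset_biUnion_of_mem S hg)) Algebra.subset_adjoin)
  replace hG : Algebra.TensorProduct.map K.val (AlgHom.id A B) G = d • g := hG
  obtain ⟨t, ht, htG⟩ := exists_smul_nilpotent A B F K hpow G
    (hG ▸ by rw [Algebra.smul_def]; exact (Commute.all _ _).isNilpotent_mul_left hgn)
  refine ⟨t * d, fun h => (Ideal.IsPrime.mem_or_mem ‹_› ((hAker _).1 h)).elim ht hd, t • G, htG, ?_⟩
  show Algebra.TensorProduct.map K.val (AlgHom.id A B) (t • G) = (t * d) • g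
  rw [map_smul, hG, mul_smul]

theorem exists_radicial [IsNoetherianRing A] [Algebra.FiniteType A B] :
    ∃ (K : Type u) (_ : CommRing K) (_ : IsDomain K) (_ : IsNoetherianRing K) (_ : Algebra A K) (q : ℕ),
      (q = 1 ∨ q.Prime ∧ (q : K) = 0) ∧ (∀ x : K, ∃ n : ℕ, x ^ q ^ n ∈ (algebraMap A K).range) ∧
      RingHom.ker (algebraMap A K) ≤ nilradical A ∧
      ∃ (Kinf : Type u) (_ : Field Kinf) (_ : PerfectField Kinf) (_ : Algebra K Kinf),
        Function.Injective (algebraMap K Kinf) ∧
        _root_.IsReduced (Kinf ⊗[K] ((K ⊗[A] B) ⧸ nilradical (K ⊗[A] B))) :=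
  exists_radicial_of A B (perfectClosure kk (AlgebraicClosure kk))

end generic

/-- After a radicial extension the fibres near the generic point are flat and geometrically reduced. -/
theorem exists_away (A : Type u) [CommRing A] [IsNoetherianRing A] [(nilradical A).IsPrime] (B : Type u) [CommRing B]
    [Algebra A B] [Algebra.FiniteType A B] :
    ∃ (K : Type u) (_ : CommRing K) (_ : IsNoetherianRing K) (_ : Algebra A K) (q : ℕ),
      (q = 1 ∨ q.Prime ∧ (q : K) = 0) ∧ (∀ x : K, ∃ n : ℕ, x ^ q ^ n ∈ (algebraMap A K).range) ∧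
      RingHom.ker (algebraMap A K) ≤ nilradical A ∧
      ∃ a ∉ nilradical A, ∀ (a' : A), a ∣ a' → ∀ (K' : Type u) [CommRing K'] [Algebra K K']
        [IsLocalization.Away (algebraMap A K a') K'],
        Module.Flat K' (K' ⊗[K] ((K ⊗[A] B) ⧸ nilradical (K ⊗[A] B))) ∧
        ∀ (L : Type u) [Field L] [Algebra K' L],
          _root_.IsReduced (L ⊗[K'] (K' ⊗[K] ((K ⊗[A] B) ⧸ nilradical (K ⊗[A] B)))) := by
  obtain ⟨K, _, _, _, _, q, hq, hpow, hker, Kinf, _, _, _, hinj, hred⟩ := exists_radicial A B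
  refine ⟨K, inferInstance, inferInstance, inferInstance, q, hq, hpow, hker, ?_⟩
  let C := (K ⊗[A] B) ⧸ nilradical (K ⊗[A] B)
  haveI := hred
  haveI : Algebra.FiniteType K C := Algebra.FiniteType.trans (S := K ⊗[A] B) inferInstance inferInstance
  let φ : CommRingCat.of K ⟶ CommRingCat.of C := CommRingCat.ofHom (algebraMap K C)
  haveI : IsNoetherianRing (CommRingCat.of K) := ‹IsNoetherianRing K›
  have hopen := GeomRedFlat5.isOpen_FE_Spec_noetherian φ (RingHom.finiteType_algebraMap.2 ‹_›)
  let gK : Spec (CommRingCat.of Kinf) ⟶ Spec (CommRingCat.of K) := Spec.map (CommRingCat.ofHom (algebraMap K Kinf))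
  haveI : AlgebraicGeometry.IsReduced (pullback (Spec.map φ) gK) := by
    haveI : _root_.IsReduced (C ⊗[K] Kinf) :=
      isReduced_of_injective (Algebra.TensorProduct.comm K C Kinf) (AlgEquiv.injective _)
    haveI : _root_.IsReduced (CommRingCat.of (C ⊗[K] Kinf)) := ‹_›
    exact isReduced_of_isOpenImmersion (pullbackSpecIso K C Kinf).hom
  have hgen : ∀ Q : PrimeSpectrum C, Q.asIdeal.comap (algebraMap K C) = ⊥ →
      GeomRedFlat5.FE (Spec.map φ) (Q : Spec (CommRingCat.of C)) := by
    intro Q hQ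
    have hbase : (Spec.map φ).base (Q : Spec (CommRingCat.of C)) = gK.base (closedPoint Kinf) := by
      refine PrimeSpectrum.ext ?_
      show Q.asIdeal.comap (algebraMap K C) = (closedPoint Kinf).asIdeal.comap (algebraMap K Kinf)
      rw [hQ]
      exact ((RingHom.injective_iff_ker_eq_bot _).1 hinj).symm.trans (by
        rw [show (closedPoint Kinf).asIdeal = ⊥ from IsLocalRing.maximalIdeal_eq_bot]; rfl)
    obtain ⟨z, hz, -⟩ := Scheme.Pullback.exists_preimage_pullback (f := Spec.map φ) (g := gK) _ _ hbase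
    refine ⟨?_, GeomRedFlat5.E_of_isReduced_field gK z hz inferInstance⟩
    have hF : IsField ((Spec (CommRingCat.of K)).presheaf.stalk ((Spec.map φ).base Q)) := by
      let p : PrimeSpectrum K := (Spec.map φ).base Q
      have hp : p.asIdeal = ⊥ := hQ
      have hloc : IsFractionRing K (Localization.AtPrime p.asIdeal) := by
        have : p.asIdeal.primeCompl = nonZeroDivisors K := by
          ext x
          rw [Ideal.mem_primeCompl_iff, hp, Ideal.mem_bot, mem_nonZeroDivisors_iff_ne_zero]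
        show IsLocalization (nonZeroDivisors K) _
        rw [← this]; infer_instance
      letI : Field (Localization.AtPrime p.asIdeal) := IsFractionRing.toField K
      exact MulEquiv.isField (Field.toIsField (Localization.AtPrime p.asIdeal))
        (Spec.stalkIso (CommRingCat.of K) ((Spec.map φ).base Q)).commRingCatIsoToRingEquiv.toMulEquiv
    letI := hF.toField
    letI : Algebra ((Spec (CommRingCat.of K)).presheaf.stalk ((Spec.map φ).base Q))
      ((Spec (CommRingCat.of C)).presheaf.stalk Q) := ((Spec.map φ).stalkMap Q).hom.toAlgebra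
    show Module.Flat _ _
    infer_instance
  obtain ⟨J, hJ⟩ : ∃ J : Ideal C, {x : Spec (CommRingCat.of C) | GeomRedFlat5.FE (Spec.map φ) x}ᶜ =
      PrimeSpectrum.zeroLocus (J : Set C) :=
    (PrimeSpectrum.isClosed_iff_zeroLocus_ideal _).1 hopen.isClosed_compl
  obtain ⟨s, hs0, hsJ⟩ : ∃ s : K, s ≠ 0 ∧ algebraMap K C s ∈ J := by
    by_contra hcon
    push Not at hcon
    obtain ⟨Q, hQ, hJQ, hdisj⟩ := Ideal.exists_le_prime_disjoint J
      (Submonoid.map (algebraMap K C).toMonoidHom (nonZeroDivisors K))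
      (Set.disjoint_left.2 fun r hr hr' => by
        obtain ⟨s, hs, rfl⟩ := hr'
        exact hcon s (nonZeroDivisors.ne_zero hs) hr)
    have h := hgen ⟨Q, hQ⟩ (le_bot_iff.1 fun s hs => by
      by_contra hs0
      exact Set.disjoint_left.1 hdisj hs ⟨s, mem_nonZeroDivisors_of_ne_zero hs0, rfl⟩)
    exact (show (⟨Q, hQ⟩ : Spec (CommRingCat.of C)) ∈ {x | GeomRedFlat5.FE (Spec.map φ) x}ᶜ from hJ ▸ hJQ) h
  obtain ⟨n, a, ha⟩ := hpow s
  refine ⟨a, fun h => hs0 ?_, fun a' haa' K' _ _ _ => ?_⟩
  · exact (pow_eq_zero_iff (pow_pos (q_pos q hq) n).ne').1 (ha ▸ IsNilpotent.eq_zero ((mem_nilradical.1 h).map _))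
  let C' := K' ⊗[K] C
  let ι : Spec (CommRingCat.of K') ⟶ Spec (CommRingCat.of K) := Spec.map (CommRingCat.ofHom (algebraMap K K'))
  haveI : IsOpenImmersion ι := IsOpenImmersion.of_isLocalization (algebraMap A K a')
  let i : Spec (CommRingCat.of C') ⟶ Spec (CommRingCat.of C) :=
    Spec.map (CommRingCat.ofHom (Algebra.TensorProduct.includeRight : C →ₐ[K] C').toRingHom)
  let p : Spec (CommRingCat.of C') ⟶ Spec (CommRingCat.of K') := Spec.map (CommRingCat.ofHom (algebraMap K' C'))
  have sq : IsPullback i p (Spec.map φ) ι := GeomRedFlat5.isPullback_tensor K K' C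
  haveI : IsOpenImmersion i := MorphismProperty.of_isPullback (P := @IsOpenImmersion) sq.flip ‹_›
  have hFE : ∀ z, GeomRedFlat5.FE (Spec.map φ) (i.base z) := fun z => by
    by_contra hn
    have hzJ : i.base z ∈ PrimeSpectrum.zeroLocus (J : Set C) := hJ ▸ hn
    let Q : PrimeSpectrum C := i.base z
    have h1 : algebraMap K C s ∈ Q.asIdeal := hzJ hsJ
    have h2 : algebraMap K C (algebraMap A K a') ∈ Q.asIdeal := by
      obtain ⟨c, rfl⟩ := haa'
      rw [map_mul, map_mul, ha, map_pow]
      exact Ideal.mul_mem_right _ _ (Ideal.pow_mem_of_mem _ h1 _ (pow_pos (q_pos q hq) n))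
    let P' : PrimeSpectrum C' := z
    have h3 : ((1 : K') ⊗ₜ[K] algebraMap K C (algebraMap A K a') : C') ∈ P'.asIdeal := h2
    rw [← Algebra.TensorProduct.tmul_one_eq_one_tmul] at h3
    exact P'.isPrime.ne_top (Ideal.eq_top_of_isUnit_mem _ h3
      ((IsLocalization.Away.algebraMap_isUnit (S := K') (algebraMap A K a')).map
        (Algebra.TensorProduct.includeLeftRingHom : K' →+* C')))
  have hflat : Flat (p ≫ ι) := by
    rw [← sq.w]
    exact GeomRedFlat5.flat_of_range_subset (Spec.map φ) i fun z => (hFE z).1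
  refine ⟨?_, fun L _ _ => ?_⟩
  · have hp : Flat p := MorphismProperty.of_isPullback (P := @Flat)
      (IsPullback.of_vert_isIso_mono (fst := p) (snd := 𝟙 _) (f := ι) (g := p ≫ ι) ⟨by simp⟩).flip hflat
    exact RingHom.flat_algebraMap_iff.1 ((HasRingHomProperty.Spec_iff (P := @Flat)).1 hp)
  · have hE : ∀ z, GeomRedFlat5.E p z := fun z => (GeomRedFlat5.E_iff_of_isPullback sq z).2 (hFE z).2
    haveI : GeometricallyReduced p := geometricallyReduced_of_E p hE
    haveI : GeometricallyReduced (Spec.map (CommRingCat.ofHom (algebraMap K' C'))) := ‹_›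
    exact UnibConn.isReduced_tensor_field (A := K') (B := C') L

end Groth.Agent.HenselConn.Radicial
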