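import Groth.Agent.HenselConn.Away
import Groth.Agent.Hensel.IntegralStrict
import Groth.Agent.GeomSep.Basic
import Groth.Agent.Hensel.Henselization
import Mathlib.RingTheory.IntegralClosure.IntegralRestrict
import Mathlib.FieldTheory.IsSepClosed

/-!
# Retractions onto the algebras whose basic opens are connected
-/

set_option autoImplicit false

universe u

open AlgebraicGeometry IsLocalRing TensorProduct

namespace Groth.Agent.HenselConn

/-- A separable element over a subfield lands in a separably closed field between. -/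
theorem mem_fieldRange {k L M : Type u} [Field k] [Field L] [Field M] [IsSepClosed L] (j : k →+* L) (τ : L →+* M)
    (ι : k →+* M) (h : τ.comp j = ι) (z : M) (hz : @IsSeparable k M _ _ ι.toAlgebra z) : z ∈ τ.range := by
  letI : Algebra k L := j.toAlgebra
  letI : Algebra L M := τ.toAlgebra
  letI : Algebra k M := ι.toAlgebra
  haveI : IsScalarTower k L M := .of_algebraMap_eq fun x => (RingHom.congr_fun h x).symm
  have hs : IsSeparable L z := IsSeparable.tower_top L hz
  have hd : (minpoly L z).natDegree = 1 := Polynomial.natDegree_eq_of_degree_eq_some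
    (IsSepClosed.degree_eq_one_of_irreducible L (minpoly.irreducible hs.isIntegral) hs)
  exact minpoly.natDegree_eq_one_iff.1 hd

section retract

variable {B D R' : Type u} [CommRing B] [IsDomain B] [CommRing D] [CommRing R'] [Algebra B D] [Algebra B R']
  (μ : D →ₐ[B] R') (hμ : Function.Injective μ)
  (h0 : EtAcyc.IsZeroAcyclic (AlgebraicGeometry.Spec.map (CommRingCat.ofHom (algebraMap B R'))))

include hμ h0 in
theorem connectedSpace_fractionRing (K : Type u) [Field K] [Algebra B K] [IsFractionRing B K] :
    ConnectedSpace (PrimeSpectrum (D ⊗[B] K)) := by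
  let S := Algebra.algebraMapSubmonoid D (nonZeroDivisors B)
  haveI : IsLocalization S (D ⊗[B] K) := inferInstance
  have hzero : ∀ z : D, μ z = 0 → z = 0 := fun z hz => hμ (hz.trans (map_zero μ).symm)
  haveI : Nontrivial (D ⊗[B] K) := by
    rw [← not_subsingleton_iff_nontrivial]
    intro hE
    obtain ⟨⟨_, r, hr, rfl⟩, hr0⟩ := (IsLocalization.eq_iff_exists S (D ⊗[B] K)).1
      (Subsingleton.elim (algebraMap D (D ⊗[B] K) 1) (algebraMap D _ 0))
    have hr0' : algebraMap B D r = 0 := by simpa using hr0
    refine (idem_away h0 (nonZeroDivisors.ne_zero hr)).1 ⟨1, ?_⟩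
    rw [pow_one, ← μ.commutes, hr0', map_zero]
  refine FormCat.connectedSpace_of_idem _ fun e he => ?_
  obtain ⟨⟨d, ⟨_, r, hr, rfl⟩⟩, hd⟩ := IsLocalization.surj S e
  let ι := algebraMap D (D ⊗[B] K)
  have hd2 : ι (d * d) = ι (algebraMap B D r * d) := by
    have h2 : ι d = e * ι (algebraMap B D r) := hd.symm
    rw [map_mul, map_mul, h2, mul_mul_mul_comm, he.eq]
    ring
  obtain ⟨⟨_, s, hs, rfl⟩, hs0⟩ := (IsLocalization.eq_iff_exists S (D ⊗[B] K)).1 hd2
  have hrs : r * s ≠ 0 := mul_ne_zero (nonZeroDivisors.ne_zero hr) (nonZeroDivisors.ne_zero hs)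
  let sd := algebraMap B D s * d
  have hsd : sd * sd - algebraMap B D (r * s) * sd = 0 := by
    rw [map_mul,
      show sd * sd - algebraMap B D r * algebraMap B D s * sd =
        algebraMap B D s * (algebraMap B D s * (d * d) - algebraMap B D s * (algebraMap B D r * d)) by ring,
      show algebraMap B D s * (d * d) = algebraMap B D s * (algebraMap B D r * d) from hs0, sub_self, mul_zero]
  obtain ⟨n, hn⟩ := (idem_away h0 hrs).2 (μ sd) ⟨0, by
    rw [pow_zero, one_mul, ← μ.commutes, ← map_mul, ← map_mul, ← map_sub, hsd, map_zero]⟩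
  have hun : ∀ t ∈ nonZeroDivisors B, IsUnit (ι (algebraMap B D t)) := fun t ht =>
    IsLocalization.map_units (D ⊗[B] K) (⟨_, t, ht, rfl⟩ : S)
  have hune : IsUnit (ι (algebraMap B D ((r * s) ^ n * s))) := hun _ (mul_mem (pow_mem (mul_mem hr hs) n) hs)
  rcases hn with hn | hn
  · have h3 : algebraMap B D ((r * s) ^ n * s) * d = 0 := by
      refine hzero _ (Eq.trans ?_ hn)
      rw [← μ.commutes, ← map_pow, ← map_mul, map_mul (algebraMap B D), map_pow (algebraMap B D), mul_assoc]
    left
    have h4 := congrArg ι h3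
    rw [map_mul, map_zero, hune.mul_right_eq_zero] at h4
    exact (hun r hr).mul_left_eq_zero.1 (hd.trans h4)
  · have h3 : algebraMap B D ((r * s) ^ n * s) * (d - algebraMap B D r) = 0 := by
      refine hzero _ (Eq.trans ?_ hn)
      rw [← μ.commutes, ← map_pow, ← map_sub, ← map_mul, map_mul (algebraMap B D), map_pow (algebraMap B D)]
      congr 1
      rw [map_mul (algebraMap B D) r s]
      ring
    right
    have h4 := congrArg ι h3
    rw [map_mul, map_zero, hune.mul_right_eq_zero, map_sub, sub_eq_zero] at h4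
    refine (hun r hr).mul_right_cancel ?_
    rw [one_mul]
    exact hd.trans h4

theorem isAlgClosed_fractionRing (K Ω : Type u) [Field K] [Algebra B K] [IsFractionRing B K] [Field Ω] [IsAlgClosed Ω]
    [Algebra B Ω] [Algebra K Ω] [IsScalarTower B K Ω]
    (hcl : ∀ z : Ω, IsIntegral B z → z ∈ (algebraMap B Ω).range) : IsAlgClosed K := by
  have hinj : Function.Injective (algebraMap B Ω) := by
    rw [IsScalarTower.algebraMap_eq B K Ω]
    exact (algebraMap K Ω).injective.comp (IsFractionRing.injective B K)
  refine IsAlgClosed.of_exists_root K fun f hf hirr => ?_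
  obtain ⟨z, hz⟩ := IsAlgClosed.exists_aeval_eq_zero Ω f (Polynomial.degree_pos_of_irreducible hirr).ne'
  have halg : IsAlgebraic B z :=
    (IsFractionRing.isAlgebraic_iff B K Ω).2 ⟨f, hf.ne_zero, hz⟩
  obtain ⟨c, hc0, hc⟩ := halg.exists_integral_multiple
  obtain ⟨w, hw⟩ := hcl _ hc
  refine ⟨algebraMap B K w / algebraMap B K c, (algebraMap K Ω).injective ?_⟩
  rw [map_zero, ← Polynomial.aeval_algebraMap_apply_eq_algebraMap_eval, map_div₀,
    ← IsScalarTower.algebraMap_apply, ← IsScalarTower.algebraMap_apply, hw, Algebra.smul_def,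
    mul_div_cancel_left₀ _ (fun h => hc0 (hinj (h.trans (map_zero _).symm))), hz]

omit [IsDomain B] in
theorem connectedSpace_baseChange (K Ω E : Type u) [Field K] [IsAlgClosed K] [Field Ω] [Algebra K Ω] [CommRing E]
    [Algebra K E] [ConnectedSpace (PrimeSpectrum E)] : ConnectedSpace (PrimeSpectrum (Ω ⊗[K] E)) := by
  haveI : ConnectedSpace (PrimeSpectrum (K ⊗[K] E)) :=
    (PrimeSpectrum.homeomorphOfRingEquiv (Algebra.TensorProduct.lid K E).symm.toRingEquiv).surjective.connectedSpace
      (PrimeSpectrum.homeomorphOfRingEquiv (Algebra.TensorProduct.lid K E).symm.toRingEquiv).continuous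
  exact GeomSep.geometricallyConnected_of_isSepClosed (k := K) (R := E) K Ω

omit [IsDomain B] in
theorem connectedSpace_tower (K Ω : Type u) [Field K] [IsAlgClosed K] [Field Ω] [Algebra B K] [Algebra K Ω] [Algebra B Ω]
    [IsScalarTower B K Ω] [ConnectedSpace (PrimeSpectrum (D ⊗[B] K))] : ConnectedSpace (PrimeSpectrum (Ω ⊗[B] D)) := by
  haveI : ConnectedSpace (PrimeSpectrum (K ⊗[B] D)) :=
    GeomSep.connectedSpace_of_equiv (Algebra.TensorProduct.comm B K D).toRingEquiv
  haveI := connectedSpace_baseChange K Ω (K ⊗[B] D)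
  exact GeomSep.connectedSpace_of_equiv (Algebra.TensorProduct.cancelBaseChange B K Ω Ω D).symm.toRingEquiv

include hμ h0 in
theorem connectedSpace_of_retract (Ω : Type u) [Field Ω] [IsAlgClosed Ω] [Algebra B Ω] [Module.IsTorsionFree B Ω]
    (hcl : ∀ z : Ω, IsIntegral B z → z ∈ (algebraMap B Ω).range) :
    ConnectedSpace (PrimeSpectrum (Ω ⊗[B] D)) := by
  letI : Algebra (FractionRing B) Ω := FractionRing.liftAlgebra B Ω
  haveI : IsScalarTower B (FractionRing B) Ω := FractionRing.isScalarTower_liftAlgebra B Ω
  haveI := isAlgClosed_fractionRing (FractionRing B) Ω hcl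
  haveI := connectedSpace_fractionRing μ hμ h0 (FractionRing B)
  exact connectedSpace_tower (FractionRing B) Ω

end retract

/-- The retraction from a strict henselization. -/
theorem exists_retract {OY OX O₁ RY RX B D : Type u} [CommRing OY] [IsLocalRing OY] [CommRing OX] [IsLocalRing OX]
    [CommRing O₁] [IsLocalRing O₁] [CommRing RY] [IsLocalRing RY] [CommRing RX] [IsLocalRing RX]
    [Algebra OY RY] [IsLocalHom (algebraMap OY RY)] [Hensel.IsStrictHenselization OY RY]
    [Algebra OX RX] [IsLocalHom (algebraMap OX RX)] [Hensel.IsStrictHenselization OX RX]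
    [CommRing B] [IsLocalRing B] [CommRing D] [IsLocalRing D] [hD : HenselianLocalRing D] [IsSepClosed (ResidueField D)]
    (gs : OY →+* OX) (iY : RY →+* RX) [IsLocalHom iY] (hsq : iY.comp (algebraMap OY RY) = (algebraMap OX RX).comp gs)
    (bY : RY →+* B) [IsLocalHom bY] (σ : OX →+* O₁) [IsLocalHom σ] (ν₀ : B →+* O₁) [IsLocalHom ν₀]
    (hbase : σ.comp gs = (ν₀.comp bY).comp (algebraMap OY RY))
    (incX : RX →+* D) [IsLocalHom incX] (incB : B →+* D) (hinc : incX.comp iY = incB.comp bY)
    (hgen : ∀ z : D, z ∈ Subring.closure (Set.range incB ∪ Set.range incX))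
    (Φ : O₁ →+* D) [IsLocalHom Φ] (hΦB : Φ.comp ν₀ = incB) (hΦX : Φ.comp σ = incX.comp (algebraMap OX RX)) :
    ∃ (θ : Hensel.StrictHenz O₁ →+* D) (μX : RX →+* Hensel.StrictHenz O₁),
      μX.comp iY = ((algebraMap O₁ (Hensel.StrictHenz O₁)).comp ν₀).comp bY ∧
      (∀ c, θ (algebraMap O₁ (Hensel.StrictHenz O₁) (ν₀ c)) = incB c) ∧ θ.comp μX = incX := by
  let R' := Hensel.StrictHenz O₁
  letI : Algebra (ResidueField O₁) (ResidueField D) := (ResidueField.map Φ).toAlgebra
  haveI : Algebra.IsSeparable (ResidueField O₁) (ResidueField R') :=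
    (Hensel.IsStrictHenselization.isSepClosure (R := O₁) (S := R')).separable
  haveI : IsSepClosed (ResidueField R') :=
    (Hensel.IsStrictHenselization.isSepClosure (R := O₁) (S := R')).sep_closed
  let τa : ResidueField R' →ₐ[ResidueField O₁] ResidueField D := IsSepClosed.lift
  let τ := τa.toRingHom
  have hτ : τ.comp (ResidueField.map (algebraMap O₁ R')) = ResidueField.map Φ := RingHom.ext τa.commutes
  obtain ⟨θ, ⟨hθ, hθr⟩, -⟩ := Hensel.IsStrictHenselization.universal (R := O₁) (S := R') D Φ τ hτ
  have hθB : ∀ c, θ (algebraMap O₁ R' (ν₀ c)) = incB c := fun c =>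
    (RingHom.congr_fun hθ _).trans (RingHom.congr_fun hΦB c)
  have hτsurj : Function.Surjective τ := by
    have hmem : ∀ z ∈ Set.range incB ∪ Set.range incX, residue D z ∈ τ.range := by
      rintro _ (⟨c, rfl⟩ | ⟨c, rfl⟩)
      · exact ⟨residue R' (algebraMap O₁ R' (ν₀ c)), by rw [← hθr, hθB]⟩
      haveI : Algebra.IsSeparable (ResidueField OX) (ResidueField RX) :=
        (Hensel.IsStrictHenselization.isSepClosure (R := OX) (S := RX)).separable
      refine mem_fieldRange ((ResidueField.map (algebraMap O₁ R')).comp (ResidueField.map σ)) τ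
        ((ResidueField.map incX).comp (ResidueField.map (algebraMap OX RX))) ?_ _ ?_
      · refine RingHom.ext fun z => ?_
        obtain ⟨z, rfl⟩ := residue_surjective z
        show τ (ResidueField.map _ (ResidueField.map σ (residue _ z))) = ResidueField.map incX (ResidueField.map _ (residue _ z))
        rw [ResidueField.map_residue, ResidueField.map_residue, ResidueField.map_residue, ResidueField.map_residue,
          ← hθr, ← RingHom.comp_apply θ, hθ, ← RingHom.comp_apply Φ, hΦX]
        rfl
      · letI := ((ResidueField.map incX).comp (ResidueField.map (algebraMap OX RX))).toAlgebra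
        rw [← ResidueField.map_residue incX c]
        have hs := Algebra.IsSeparable.isSeparable (ResidueField OX) (residue RX c)
        exact IsSeparable.map
          ({ ResidueField.map incX with commutes' := fun _ => rfl } : ResidueField RX →ₐ[ResidueField OX] ResidueField D) (RingHom.injective _) hs
    intro z
    obtain ⟨z, rfl⟩ := residue_surjective z
    show residue D z ∈ τ.range
    exact (Subring.closure_le (t := τ.range.comap (residue D))).2 hmem (hgen z)
  let τe := RingEquiv.ofBijective τ ⟨τ.injective, hτsurj⟩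
  have hτe : ∀ z, τ (τe.symm z) = z := fun z => τe.apply_symm_apply z
  let ρ : ResidueField RX →+* ResidueField R' := τe.symm.toRingHom.comp (ResidueField.map incX)
  obtain ⟨μX, ⟨hμX, hμXr⟩, -⟩ := Hensel.IsStrictHenselization.universal (R := OX) (S := RX) R'
    ((algebraMap O₁ R').comp σ) ρ (RingHom.ext fun z => by
      obtain ⟨z, rfl⟩ := residue_surjective z
      apply τ.injective
      show τ (τe.symm (ResidueField.map incX (ResidueField.map _ (residue _ z)))) = τ (ResidueField.map _ (residue _ z))
      rw [hτe, ResidueField.map_residue, ResidueField.map_residue, ResidueField.map_residue, ← hθr,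
        ← RingHom.comp_apply incX, ← hΦX]
      exact congrArg (residue D) (RingHom.congr_fun hθ (σ z)).symm)
  have hμXτ : ∀ c, τ (residue R' (μX c)) = residue D (incX c) := fun c => by
    rw [hμXr]
    show τ (τe.symm (ResidueField.map incX (residue RX c))) = _
    rw [hτe, ResidueField.map_residue]
  refine ⟨θ, μX, ?_, hθB, ?_⟩
  · let f₀ := ((algebraMap O₁ R').comp ν₀).comp bY
    haveI : IsLocalHom f₀ := RingHom.isLocalHom_comp _ _
    obtain ⟨g₀, -, huniq⟩ := Hensel.IsStrictHenselization.universal (R := OY) (S := RY) R'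
      (f₀.comp (algebraMap OY RY)) (ResidueField.map f₀) (ResidueField.map_comp (algebraMap OY RY) f₀).symm
    refine (huniq _ ⟨?_, fun v => ?_⟩).trans (huniq _ ⟨rfl, fun v => (ResidueField.map_residue f₀ v).symm⟩).symm
    · rw [RingHom.comp_assoc, hsq, ← RingHom.comp_assoc, hμX, RingHom.comp_assoc, hbase]
      rfl
    · apply τ.injective
      show τ (residue R' (μX (iY v))) = τ (ResidueField.map f₀ (residue RY v))
      rw [hμXτ, ResidueField.map_residue, ← hθr]
      show _ = residue D (θ (algebraMap O₁ R' (ν₀ (bY v))))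
      rw [hθB]
      exact congrArg (residue D) (RingHom.congr_fun hinc v)
  · obtain ⟨g₀, -, huniq⟩ := Hensel.IsStrictHenselization.universal (R := OX) (S := RX) D
      (incX.comp (algebraMap OX RX)) (ResidueField.map incX)
      (ResidueField.map_comp (algebraMap OX RX) incX).symm
    refine (huniq _ ⟨?_, fun v => ?_⟩).trans (huniq _ ⟨rfl, fun v => (ResidueField.map_residue incX v).symm⟩).symm
    · rw [RingHom.comp_assoc, hμX, ← RingHom.comp_assoc, hθ, hΦX]
    · rw [RingHom.comp_apply, hθr, hμXτ, ResidueField.map_residue]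

end Groth.Agent.HenselConn
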