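import Groth.Agent.HenselConn.ConnSec
import Groth.Prelude.Def_EtAcyc
import Groth.Agent.BigSiteLib.EtDescSec.SecBC

/-!
# Units of direct and inverse images along universally submersive maps with connected fibres
-/

set_option autoImplicit false

universe u

open CategoryTheory CategoryTheory.Limits AlgebraicGeometry Opposite TopologicalSpace
open Groth.Agent.BigSiteLib.DescSec

namespace Groth.Agent.HenselConn

set_option backward.isDefEq.respectTransparency.types false

variable {X' X : Scheme.{u}} (f : X' ⟶ X) {F : EtDesc.Sh X}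

/-- Sections of an inverse image are locally pulled back, relative to a base object. -/
theorem exists_locEq_up_over (U : X.Etale) (s' : ((EtDesc.pullSh f).obj F).obj.obj (op ((EtCoh.bc f).obj U)))
    (x : ((EtCoh.bc f).obj U).left) :
    ∃ (V : X.Etale) (p : V ⟶ U) (a : F.obj.obj (op V)) (z : ((EtCoh.bc f).obj V).left),
      ((EtCoh.bc f).map p).left z = x ∧
        LocEq ((EtDesc.pullSh f).obj F).obj (up f F V a)
          (((EtDesc.pullSh f).obj F).obj.map ((EtCoh.bc f).map p).op s') z := by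
  obtain ⟨Ω, _, _, ξ, t₀, ht₀⟩ := EtFound.exists_point_through ((EtCoh.bc f).obj U) x
  let Φ := Scheme.pointSmallEtale ξ
  let Ψ := Scheme.pointSmallEtale (ξ ≫ f)
  let G := (EtDesc.pullSh f).obj F
  let c := Φ.toPresheafFiber ((EtCoh.bc f).obj U) t₀ G.obj s'
  obtain ⟨V₀, v₀, a₀, ha⟩ := Ψ.toPresheafFiber_jointly_surjective (P := F.obj)
    ((EtFound.sheafFiberPullIso f ξ).hom.app F c)
  let u₀ := EtFound.bcFiberEquiv f ξ U t₀
  let V : X.Etale := MorphismProperty.Over.mk ⊤ (pullback.fst V₀.hom U.hom ≫ V₀.hom) (by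
    haveI : Etale V₀.hom := V₀.prop
    haveI : Etale U.hom := U.prop
    haveI : Etale (pullback.fst V₀.hom U.hom) := MorphismProperty.pullback_fst _ _ inferInstance
    exact inferInstanceAs (Etale (pullback.fst V₀.hom U.hom ≫ V₀.hom)))
  let q : V ⟶ V₀ := MorphismProperty.Over.homMk (pullback.fst V₀.hom U.hom) rfl
  let p : V ⟶ U := MorphismProperty.Over.homMk (pullback.snd V₀.hom U.hom) pullback.condition.symm
  let v : Ψ.fiber.obj V := CategoryTheory.Over.homMk
    (pullback.lift (v₀.left : Spec (CommRingCat.of Ω) ⟶ V₀.left) (u₀.left : Spec (CommRingCat.of Ω) ⟶ U.left)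
      ((CategoryTheory.Over.w v₀).trans (CategoryTheory.Over.w u₀).symm))
    ((Category.assoc _ _ _).symm.trans ((congrArg (· ≫ V₀.hom) (pullback.lift_fst _ _ _)).trans (CategoryTheory.Over.w v₀)))
  have hq : Ψ.fiber.map q v = v₀ := CategoryTheory.Over.OverMorphism.ext (pullback.lift_fst _ _ _)
  let t := (EtFound.bcFiberEquiv f ξ V).symm v
  have ht : Φ.fiber.map ((EtCoh.bc f).map p) t = t₀ := by
    apply (EtFound.bcFiberEquiv f ξ U).injective
    refine CategoryTheory.Over.OverMorphism.ext ?_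
    refine (Category.assoc _ _ _).trans ?_
    refine (congrArg ((t.left : Spec (CommRingCat.of Ω) ⟶ _) ≫ ·) (EtCoh.isPullback_bc_map f p).w).trans ?_
    refine (Category.assoc _ _ _).symm.trans ?_
    refine (congrArg (· ≫ p.left) (congrArg (fun k : Ψ.fiber.obj V => (k.left : Spec (CommRingCat.of Ω) ⟶ V.left))
      ((EtFound.bcFiberEquiv f ξ V).apply_symm_apply v))).trans ?_
    exact pullback.lift_snd _ _ _
  refine ⟨V, p, F.obj.map q.op a₀, (t.left : Spec (CommRingCat.of Ω) ⟶ ((EtCoh.bc f).obj V).left).base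
    (default : Spec (CommRingCat.of Ω)), ?_, ?_⟩
  · refine Eq.trans ?_ (ht₀ (default : Spec (CommRingCat.of Ω)))
    rw [← ht]
    exact (Scheme.Hom.comp_apply _ _ _).symm
  · refine locEq_of_germ ξ t ?_ _ rfl
    rw [Φ.toPresheafFiber_w_apply, ht]
    let a : ToType (F.obj.obj (op V)) := F.obj.map q.op a₀
    have h := (ConcreteCategory.comp_apply _ _ a).symm.trans
      ((ConcreteCategory.congr_hom (EtFound.sheafFiberPullIso_germ f ξ F V t) a).trans
        (ConcreteCategory.comp_apply _ _ _))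
    rw [show EtFound.bcFiberEquiv f ξ V t = v from Equiv.apply_symm_apply _ _] at h
    refine h.symm.trans ?_
    refine (congrArg ((EtFound.sheafFiberPullIso f ξ).inv.app F) (Eq.trans ?_ ha)).trans ?_
    · rw [Ψ.toPresheafFiber_w_apply, hq]
    · exact iso_hom_inv_apply ((EtFound.sheafFiberPullIso f ξ).app F) c

/-- A local section over a base object agrees with the given one at a point. -/
abbrev MatchO {U : X.Etale} (s' : ((EtDesc.pullSh f).obj F).obj.obj (op ((EtCoh.bc f).obj U))) {V : X.Etale} (p : V ⟶ U)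
    (a : F.obj.obj (op V)) (z : ((EtCoh.bc f).obj V).left) : Prop :=
  LocEq ((EtDesc.pullSh f).obj F).obj (up f F V a) (((EtDesc.pullSh f).obj F).obj.map ((EtCoh.bc f).map p).op s') z

theorem up_bc_map {U V W : X.Etale} (s' : ((EtDesc.pullSh f).obj F).obj.obj (op ((EtCoh.bc f).obj U)))
    (p : V ⟶ U) (m : W ⟶ V) :
    ((EtDesc.pullSh f).obj F).obj.map ((EtCoh.bc f).map m).op (((EtDesc.pullSh f).obj F).obj.map ((EtCoh.bc f).map p).op s') =
      ((EtDesc.pullSh f).obj F).obj.map ((EtCoh.bc f).map (m ≫ p)).op s' := by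
  rw [mapF, CategoryTheory.Functor.map_comp]

theorem MatchO.comp {U V W : X.Etale} {s' : ((EtDesc.pullSh f).obj F).obj.obj (op ((EtCoh.bc f).obj U))} {p : V ⟶ U}
    {a : F.obj.obj (op V)} (m : W ⟶ V) {w : ((EtCoh.bc f).obj W).left}
    (h : MatchO f s' p a (((EtCoh.bc f).map m).left w)) : MatchO f s' (m ≫ p) (F.obj.map m.op a) w := by
  have h' := LocEq.map ((EtCoh.bc f).map m) h
  rwa [← up_map, up_bc_map] at h'

theorem MatchO.of_comp {U V W : X.Etale} {s' : ((EtDesc.pullSh f).obj F).obj.obj (op ((EtCoh.bc f).obj U))} {p : V ⟶ U}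
    {a : F.obj.obj (op V)} (m : W ⟶ V) {w : ((EtCoh.bc f).obj W).left}
    (h : MatchO f s' (m ≫ p) (F.obj.map m.op a) w) : MatchO f s' p a (((EtCoh.bc f).map m).left w) := by
  refine LocEq.of_map ((EtCoh.bc f).map m) ?_
  rw [← up_map, up_bc_map]
  exact h

/-- Local agreement spreads over connected geometric fibres. -/
theorem matchO_of_connected
    (hc : ∀ (Ω : Type u) [Field Ω] [IsAlgClosed Ω] (s : Spec (CommRingCat.of Ω) ⟶ X), ConnectedSpace ↥(pullback f s))
    {U : X.Etale} (s' : ((EtDesc.pullSh f).obj F).obj.obj (op ((EtCoh.bc f).obj U)))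
    {V : X.Etale} (p₀ : V ⟶ U) (a : F.obj.obj (op V)) (z₁ z₂ : ((EtCoh.bc f).obj V).left)
    (hz : pr f V z₁ = pr f V z₂) (h : MatchO f s' p₀ a z₁) : MatchO f s' p₀ a z₂ := by
  by_contra h₂
  let v := pr f V z₁
  let S : Set ((EtCoh.bc f).obj V).left := {z | pr f V z = v}
  let M : Set ((EtCoh.bc f).obj V).left := {z | MatchO f s' p₀ a z}
  let N : Set ((EtCoh.bc f).obj V).left :=
    {z | ∃ N : Set ((EtCoh.bc f).obj V).left, IsOpen N ∧ z ∈ N ∧ N ∩ S ∩ M = ∅}
  have hNopen : IsOpen N := isOpen_iff_forall_mem_open.2 fun z ⟨N', h1, h2, h3⟩ =>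
    ⟨N', fun y hy => ⟨N', h1, hy, h3⟩, h1, h2⟩
  have hcover : S ⊆ M ∪ N := by
    intro z hzS
    by_cases hzM : MatchO f s' p₀ a z
    · exact Or.inl hzM
    refine Or.inr ?_
    obtain ⟨W, p, a', w₀, hw₀, h₀'⟩ := exists_locEq_up_over f V
      (((EtDesc.pullSh f).obj F).obj.map ((EtCoh.bc f).map p₀).op s') z
    rw [up_bc_map] at h₀'
    haveI : Etale p.left := EtFound.etale_left p
    let y := pr f W w₀
    have hyv : p.left y = v := by rw [← pr_map f p, hw₀]; exact hzS
    haveI : LocallyQuasiFinite p.left := Groth.Agent.AlgSpLib.locallyQuasiFinite_of_formallyUnramified _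
    haveI : DiscreteTopology ↥(p.left ⁻¹' {v}) := (p.left.isDiscrete_preimage_singleton v).1
    obtain ⟨O, hO, hOy⟩ := isOpen_induced_iff.1 (isOpen_discrete ({⟨y, hyv⟩} : Set ↥(p.left ⁻¹' {v})))
    have huniq : ∀ y' ∈ O, p.left y' = v → y' = y := fun y' hy' e =>
      congrArg Subtype.val (show (⟨y', e⟩ : ↥(p.left ⁻¹' {v})) ∈ ({⟨y, hyv⟩} : Set ↥(p.left ⁻¹' {v})) from hOy ▸ hy')
    have hyO : y ∈ O := by
      have : (⟨y, hyv⟩ : ↥(p.left ⁻¹' {v})) ∈ Subtype.val ⁻¹' O := by rw [hOy]; rfl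
      exact this
    let O' : Set ((EtCoh.bc f).obj W).left := {w | MatchO f s' (p ≫ p₀) a' w} ∩ pr f W ⁻¹' O
    haveI : Etale ((EtCoh.bc f).map p).left := EtFound.etale_left _
    refine ⟨((EtCoh.bc f).map p).left '' O', (Scheme.Hom.isOpenMap _) _
      ((isOpen_locEq _ _).inter (hO.preimage (pullback.fst W.hom f).continuous)), ⟨w₀, ⟨h₀', hyO⟩, hw₀⟩, ?_⟩
    refine Set.eq_empty_iff_forall_notMem.2 ?_
    rintro z₃ ⟨⟨hzimg, hwS⟩, hwM⟩
    obtain ⟨w, ⟨hwM', hwO⟩, rfl⟩ := hzimg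
    have hwy : pr f W w = y := huniq _ hwO ((pr_map f p w).symm.trans hwS)
    have hwa : MatchO f s' (p ≫ p₀) (F.obj.map p.op a) w := MatchO.comp f p hwM
    have hF : LocEq F.obj (F.obj.map p.op a) a' y := hwy ▸ locEq_of_up f F (hwa.trans hwM'.symm)
    refine hzM ?_
    rw [← hw₀]
    exact MatchO.of_comp f p ((locEq_up f F hF).trans h₀')
  have hMopen : IsOpen M := isOpen_locEq _ _
  have hz₂N : z₂ ∈ N := (hcover hz.symm).resolve_left h₂
  obtain ⟨z, hzS, hzM, N', hN', hzN', he⟩ := isPreconnected_fibre f hc V v M N hMopen hNopen hcover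
    ⟨z₁, rfl, h⟩ ⟨z₂, hz.symm, hz₂N⟩
  exact (Set.eq_empty_iff_forall_notMem.1 he z) ⟨⟨hzN', hzS⟩, hzM⟩

variable (hf : EtDesc.IsUnivSubmersive f)
include hf

/-- Sections of the inverse image over a base object descend. -/
theorem exists_up_eq_of_connected
    (hc : ∀ (Ω : Type u) [Field Ω] [IsAlgClosed Ω] (s : Spec (CommRingCat.of Ω) ⟶ X), ConnectedSpace ↥(pullback f s))
    (U : X.Etale) (s' : ((EtDesc.pullSh f).obj F).obj.obj (op ((EtCoh.bc f).obj U))) :
    ∃ s, up f F U s = s' := by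
  have hgood : ∀ {V : X.Etale} (p : V ⟶ U) (a : F.obj.obj (op V)),
      IsOpen {v : V.left | ∀ z, pr f V z = v → MatchO f s' p a z} := fun {V} p a => by
    refine (fst_surjective_isQuotientMap f hf V.hom).2.isOpen_preimage.1 ?_
    have e : pullback.fst V.hom f ⁻¹' {v : V.left | ∀ z, pr f V z = v → MatchO f s' p a z} =
        {z : ((EtCoh.bc f).obj V).left | MatchO f s' p a z} :=
      Set.ext fun z => ⟨fun hz => hz z rfl, fun hz z' hz' => matchO_of_connected f hc s' p a z z' hz'.symm hz⟩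
    rw [e]
    exact isOpen_locEq _ _
  choose V p a z₀ hz₀ hm using fun x : ((EtCoh.bc f).obj U).left => exists_locEq_up_over f U s' x
  let O : ∀ x, (V x).left.Opens := fun x => ⟨_, hgood (p x) (a x)⟩
  let W : ((EtCoh.bc f).obj U).left → X.Etale := fun x => MorphismProperty.Over.mk ⊤ ((O x).ι ≫ (V x).hom) (by
    haveI : Etale (V x).hom := (V x).prop
    exact inferInstanceAs (Etale ((O x).ι ≫ (V x).hom)))
  let ι : ∀ x, W x ⟶ V x := fun x => MorphismProperty.Over.homMk (O x).ι rfl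
  let b : ∀ x, F.obj.obj (op (W x)) := fun x => F.obj.map (ι x).op (a x)
  have hmatch : ∀ i (w : ((EtCoh.bc f).obj (W i)).left), MatchO f s' (ι i ≫ p i) (b i) w := fun i w =>
    MatchO.comp f (ι i) ((pr f (W i) w).2 (((EtCoh.bc f).map (ι i)).left w) (pr_map f (ι i) w))
  have hcomp : ∀ i j (Y : X.Etale) (m₁ : Y ⟶ W i) (m₂ : Y ⟶ W j), m₁ ≫ ι i ≫ p i = m₂ ≫ ι j ≫ p j →
      F.obj.map m₁.op (b i) = F.obj.map m₂.op (b j) := fun i j Y m₁ m₂ e => by
    refine eq_of_locEq F fun y => ?_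
    obtain ⟨z, rfl⟩ := (fst_surjective_isQuotientMap f hf Y.hom).1 y
    have h₁ := MatchO.comp f m₁ (hmatch i (((EtCoh.bc f).map m₁).left z))
    have h₂ := MatchO.comp f m₂ (hmatch j (((EtCoh.bc f).map m₂).left z))
    rw [e] at h₁
    exact locEq_of_up f F (h₁.trans h₂.symm)
  have hcov : Sieve.generate (Presieve.ofArrows W (fun x => ι x ≫ p x)) ∈ X.smallEtaleTopology U := by
    rw [EtFound.mem_topology_iff]
    intro x
    obtain ⟨x', hx'⟩ := (fst_surjective_isQuotientMap f hf U.hom).1 x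
    have hv : pr f (V x') (z₀ x') ∈ O x' := fun z' hz' =>
      matchO_of_connected f hc s' (p x') (a x') _ z' hz'.symm (hm x')
    refine ⟨W x', ι x' ≫ p x', ⟨pr f (V x') (z₀ x'), hv⟩, ⟨W x', 𝟙 _, ι x' ≫ p x', ⟨x'⟩, Category.id_comp _⟩, ?_⟩
    refine Eq.trans ?_ hx'
    show (p x').left (pr f (V x') (z₀ x')) = _
    rw [← pr_map f (p x'), hz₀ x']
    rfl
  obtain ⟨s, hs, -⟩ := (Presieve.isSheafFor_arrows_iff _ _).1 ((Presieve.isSheafFor_iff_generate _).2
    (((isSheaf_iff_isSheaf_of_type _ _).1 F.property) _ hcov)) b (fun i j Y m₁ m₂ e => hcomp i j Y m₁ m₂ e)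
  refine ⟨s, eq_of_locEq _ fun z => ?_⟩
  have hv : pr f (V z) (z₀ z) ∈ O z := fun z' hz' => matchO_of_connected f hc s' (p z) (a z) _ z' hz'.symm (hm z)
  obtain ⟨t, ht, -⟩ := Scheme.exists_preimage_of_isPullback (EtCoh.isPullback_bc_map f (ι z ≫ p z)) z
    (⟨pr f (V z) (z₀ z), hv⟩ : (W z).left) (by
      show pr f U z = (p z).left (pr f (V z) (z₀ z))
      rw [← pr_map f (p z), hz₀ z])
  rw [← ht]
  refine LocEq.of_map ((EtCoh.bc f).map (ι z ≫ p z)) ?_
  rw [← up_map, hs]
  exact hmatch z t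

/-- The unit is an isomorphism for universally submersive maps with connected geometric fibres. -/
theorem isIso_unit_of_connected
    (hc : ∀ (Ω : Type u) [Field Ω] [IsAlgClosed Ω] (s : Spec (CommRingCat.of Ω) ⟶ X), ConnectedSpace ↥(pullback f s))
    (G : EtDesc.Sh X) : IsIso ((EtDesc.adjSh f).unit.app G) := by
  have hsurj : Function.Surjective f.base := fun x => by
    obtain ⟨z, hz⟩ := (fst_surjective_isQuotientMap f hf (𝟙 X)).1 x
    refine ⟨pullback.snd (𝟙 X) f z, ?_⟩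
    rw [← Scheme.Hom.comp_apply, ← pullback.condition, Category.comp_id]
    exact hz
  haveI : ∀ U : X.Etaleᵒᵖ, IsIso (((EtDesc.adjSh f).unit.app G).hom.app U) := fun U =>
    (isIso_iff_bijective _).2 ⟨injective_unit f hsurj G U.unop, fun t => exists_up_eq_of_connected f hf hc U.unop t⟩
  haveI : IsIso ((EtDesc.adjSh f).unit.app G).hom := NatIso.isIso_of_isIso_app _
  haveI : IsIso ((sheafToPresheaf _ _).map ((EtDesc.adjSh f).unit.app G)) := this
  exact isIso_of_fully_faithful (sheafToPresheaf _ _) _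

end Groth.Agent.HenselConn
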