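import Groth.Agent.HenselConn.Main
import Groth.Agent.HenselConn.Model
import Groth.Agent.Hensel.Henselization
import Groth.Agent.Hensel.EtaleReduced
import Groth.Agent.QFormLib.Conj
import Groth.Agent.UnibConn.Scheme
import Groth.Agent.S0540

/-!
# Idempotents over a Noetherian stage
-/

set_option autoImplicit false

universe u

open TensorProduct IsLocalRing

namespace Groth.Agent.HenselConn

/-- A vanishing after a flat base change to a local ring is witnessed by a scalar becoming a unit. -/
theorem exists_smul_eq_zero_of_flat {C X T : Type u} [CommRing C] [CommRing X] [IsLocalRing X] [Algebra C X]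
    [Module.Flat C X] [AddCommGroup T] [Module C T] (w : T) (h : (1 : X) ⊗ₜ[C] w = 0) :
    ∃ t : C, IsUnit (algebraMap C X t) ∧ t • w = 0 := by
  let f : C →ₗ[C] T := LinearMap.toSpanSingleton C T w
  have h1 : LinearMap.lTensor X f ((1 : X) ⊗ₜ (1 : C)) = 0 := by simp [f, h]
  obtain ⟨z, hz⟩ := (Module.Flat.lTensor_exact X (LinearMap.exact_subtype_ker_map f) _).1 h1
  by_contra hne
  push Not at hne
  have key : ∀ z, TensorProduct.rid C X (LinearMap.lTensor X (LinearMap.ker f).subtype z) ∈ maximalIdeal X := by
    intro z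
    induction z using TensorProduct.induction_on with
    | zero => simp
    | add a b ha hb => rw [map_add, map_add]; exact add_mem ha hb
    | tmul x t =>
      rw [LinearMap.lTensor_tmul, TensorProduct.rid_tmul, Algebra.smul_def]
      refine Ideal.mul_mem_right _ _ ?_
      have : (t : C) • w = 0 := by
        have h := LinearMap.mem_ker.1 t.2
        rwa [LinearMap.toSpanSingleton_apply] at h
      exact fun hu => hne _ hu this
  have := key z
  rw [hz, TensorProduct.rid_tmul, one_smul] at this
  exact this isUnit_one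

variable {R' C' RY RX L : Type u} [CommRing R'] [IsNoetherianRing R'] [CommRing C'] [Algebra R' C']
  [Module.Flat R' C'] [CommRing RY] [HenselianLocalRing RY] [IsSepClosed (ResidueField RY)] [Algebra R' RY]
  [CommRing RX] [IsLocalRing RX] [Algebra RY RX] [IsLocalHom (algebraMap RY RX)] [Algebra R' RX]
  [IsScalarTower R' RY RX] [Field L] [Algebra RY L] [Algebra R' L] [IsScalarTower R' RY L]

/-- The evaluation of a base change of a stage in the limit. -/
noncomputable def toLimit (χ : C' →ₐ[R'] RX) : C' ⊗[R'] RY →ₐ[R'] RX :=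
  Algebra.TensorProduct.lift χ (IsScalarTower.toAlgHom R' RY RX) fun _ _ => Commute.all _ _

/-- The fibre of a stage maps to the fibre of the limit. -/
noncomputable def toLimitFibre (χ : C' →ₐ[R'] RX) : C' ⊗[R'] L →ₐ[R'] L ⊗[RY] RX :=
  Algebra.TensorProduct.lift
    (((Algebra.TensorProduct.includeRight : RX →ₐ[RY] L ⊗[RY] RX).restrictScalars R').comp χ)
    ((Algebra.TensorProduct.includeLeft : L →ₐ[L] L ⊗[RY] RX).restrictScalars R')
    fun _ _ => Commute.all _ _

theorem toLimit_tmul (χ : C' →ₐ[R'] RX) (c : C') (y : RY) : toLimit χ (c ⊗ₜ y) = χ c * algebraMap RY RX y :=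
  Algebra.TensorProduct.lift_tmul _ _ _ c y

theorem toLimitFibre_tmul (χ : C' →ₐ[R'] RX) (c : C') (l : L) :
    toLimitFibre (RY := RY) χ (c ⊗ₜ l) = l ⊗ₜ χ c :=
  (Algebra.TensorProduct.lift_tmul _ _ _ c l).trans
    ((Algebra.TensorProduct.tmul_mul_tmul (1 : L) l (χ c) (1 : RX)).trans (by rw [one_mul, mul_one]))

theorem idem_of_unit {T W : Type u} [CommRing T] [CommRing W] (f : T →+* W) {τ u : T}
    (h : τ * (u * u - u) = 0) (hu : IsUnit (f τ)) : IsIdempotentElem (f u) := by
  have h0 := congrArg f h
  rw [map_mul, map_zero, hu.mul_right_eq_zero, map_sub, map_mul, sub_eq_zero] at h0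
  exact h0

/-- The case of a strictly henselian Noetherian stage. -/
theorem idem_of_strict_stage (χ : C' →ₐ[R'] RX) (u : C' ⊗[R'] L) (p : C' ⊗[R'] RY)
    (hrel : Algebra.TensorProduct.map (AlgHom.id R' C') (IsScalarTower.toAlgHom R' RY L) p * (u * u - u) = 0)
    {RS : Type u} [CommRing RS] [IsNoetherianRing RS] [HenselianLocalRing RS] [IsSepClosed (ResidueField RS)]
    [Algebra R' RS] (g : RS →ₐ[R'] RY) (B : Type u) [CommRing B] [IsLocalRing B] [Algebra RS B]
    [IsLocalHom (algebraMap RS B)] [Module.Flat RS B] [Algebra R' B] [IsScalarTower R' RS B]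
    (δB : B →+* RX) (hδ : ∀ a, δB (algebraMap RS B a) = algebraMap RY RX (g a))
    (hgeoB : ∀ (L' : Type u) [Field L'] [Algebra RS L'], IsReduced (L' ⊗[RS] B))
    (ι : C' →ₐ[R'] B) (hι : ∀ c, δB (ι c) = χ c) (P : C' ⊗[R'] RS)
    (hP : Algebra.TensorProduct.map (AlgHom.id R' C') g P = p)
    (hPu : IsUnit (Algebra.TensorProduct.lift ι (IsScalarTower.toAlgHom R' RS B) (fun _ _ => Commute.all _ _) P)) :
    toLimitFibre (RY := RY) χ u = 0 ∨ toLimitFibre (RY := RY) χ u = 1 := by
  letI : Algebra RS L := ((algebraMap RY L).comp g.toRingHom).toAlgebra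
  haveI : IsScalarTower R' RS L := IsScalarTower.of_algebraMap_eq fun r => by
    show _ = algebraMap RY L (g (algebraMap R' RS r))
    rw [g.commutes]
    exact IsScalarTower.algebraMap_apply R' RY L r
  haveI := connectedSpace_fibre_strict RS B hgeoB L
  let ΨB : C' ⊗[R'] L →ₐ[R'] L ⊗[RS] B :=
    Algebra.TensorProduct.lift
      (((Algebra.TensorProduct.includeRight : B →ₐ[RS] L ⊗[RS] B).restrictScalars R').comp ι)
      ((Algebra.TensorProduct.includeLeft : L →ₐ[L] L ⊗[RS] B).restrictScalars R')
      fun _ _ => Commute.all _ _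
  have hΨB : ∀ (c : C') (l : L), ΨB (c ⊗ₜ[R'] l) = l ⊗ₜ[RS] ι c := fun c l => by simp [ΨB]
  let right : B →ₐ[RS] L ⊗[RY] RX :=
    { (Algebra.TensorProduct.includeRight : RX →ₐ[RY] L ⊗[RY] RX).toRingHom.comp δB with
      commutes' := fun a => by
        show (1 : L) ⊗ₜ[RY] δB (algebraMap RS B a) = (algebraMap RY L (g a)) ⊗ₜ[RY] (1 : RX)
        rw [hδ, Algebra.TensorProduct.tmul_one_eq_one_tmul] }
  let Ψ : L ⊗[RS] B →ₐ[RS] L ⊗[RY] RX :=
    Algebra.TensorProduct.lift ((Algebra.TensorProduct.includeLeft : L →ₐ[L] L ⊗[RY] RX).restrictScalars RS)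
      right fun _ _ => Commute.all _ _
  have hΨ : ∀ v, Ψ (ΨB v) = toLimitFibre (RY := RY) χ v := by
    intro v
    induction v using TensorProduct.induction_on with
    | zero => simp
    | add a b ha hb => simp only [map_add, ha, hb]
    | tmul c l =>
      rw [hΨB, toLimitFibre_tmul, ← hι]
      simp [Ψ, right]
  have hτ : ∀ z, ΨB (Algebra.TensorProduct.map (AlgHom.id R' C') (IsScalarTower.toAlgHom R' RY L)
      (Algebra.TensorProduct.map (AlgHom.id R' C') g z)) =
      (1 : L) ⊗ₜ[RS] Algebra.TensorProduct.lift ι (IsScalarTower.toAlgHom R' RS B) (fun _ _ => Commute.all _ _) z := by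
    intro z
    induction z using TensorProduct.induction_on with
    | zero => simp
    | add a b ha hb => simp only [map_add, TensorProduct.tmul_add, ha, hb]
    | tmul c r =>
      rw [Algebra.TensorProduct.map_tmul, Algebra.TensorProduct.map_tmul, hΨB, Algebra.TensorProduct.lift_tmul]
      show algebraMap RS L r ⊗ₜ[RS] ι c = _
      rw [Algebra.algebraMap_eq_smul_one, TensorProduct.smul_tmul, Algebra.smul_def, mul_comm,
        IsScalarTower.coe_toAlgHom']
  have hu : IsUnit (ΨB.toRingHom (Algebra.TensorProduct.map (AlgHom.id R' C') (IsScalarTower.toAlgHom R' RY L) p)) := by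
    rw [← hP]
    show IsUnit (ΨB _)
    rw [hτ]
    exact hPu.map (Algebra.TensorProduct.includeRight : B →ₐ[RS] L ⊗[RS] B)
  rcases QFormLib.eq_zero_or_one_of_connected (idem_of_unit ΨB.toRingHom hrel hu) with h | h
  · left; rw [← hΨ, show ΨB u = 0 from h, map_zero]
  · right; rw [← hΨ, show ΨB u = 1 from h, map_one]

/-- An element which is idempotent up to a unit of the limit gives a trivial idempotent. -/
theorem idem_stage (hgeo : ∀ (L' : Type u) [Field L'] [Algebra R' L'], IsReduced (L' ⊗[R'] C'))
    (χ : C' →ₐ[R'] RX) (u : C' ⊗[R'] L) (p : C' ⊗[R'] RY) (hp : IsUnit (toLimit χ p))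
    (hrel : Algebra.TensorProduct.map (AlgHom.id R' C') (IsScalarTower.toAlgHom R' RY L) p * (u * u - u) = 0) :
    toLimitFibre (RY := RY) χ u = 0 ∨ toLimitFibre (RY := RY) χ u = 1 := by
  classical
  obtain ⟨F, hF⟩ := exists_fg_range R' C' RY p
  let R2 : Subalgebra R' RY := Algebra.adjoin R' (F : Set RY)
  haveI : IsNoetherianRing R2 := by
    haveI : Algebra.FiniteType R' R2 := (Subalgebra.fg_iff_finiteType R2).1 ⟨F, rfl⟩
    exact Algebra.FiniteType.isNoetherianRing R' R2
  obtain ⟨p2, hp2⟩ := hF R2 Algebra.subset_adjoin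
  let P : Ideal R2 := (maximalIdeal RY).comap R2.val.toRingHom
  haveI : P.IsPrime := Ideal.comap_isPrime _ _
  let O := Localization.AtPrime P
  let fO : O →+* RY := IsLocalization.lift (M := P.primeCompl) (g := R2.val.toRingHom) fun y =>
    not_not.1 fun h => y.2 (show (y : R2).1 ∈ maximalIdeal RY from h)
  have hfO : ∀ r, fO (algebraMap R2 O r) = (r : RY) := fun r => IsLocalization.lift_eq _ r
  haveI : IsLocalHom fO := ⟨fun x hx => by
    obtain ⟨⟨r, s⟩, e⟩ := IsLocalization.surj P.primeCompl x
    have h1 : IsUnit (r : RY) := by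
      rw [← hfO r, ← e, map_mul]
      exact hx.mul ((IsLocalization.map_units O s).map fO)
    have h2 : r ∈ P.primeCompl := fun hr => (show (r : RY) ∈ maximalIdeal RY from hr) h1
    have h3 := IsLocalization.map_units O (⟨r, h2⟩ : P.primeCompl)
    rw [← e] at h3
    exact isUnit_of_mul_isUnit_left h3⟩
  let RS := Hensel.StrictHenz O
  letI : Algebra (ResidueField O) (ResidueField RY) := (ResidueField.map fO).toAlgebra
  haveI : Algebra.IsSeparable (ResidueField O) (ResidueField RS) :=
    (Hensel.IsStrictHenselization.isSepClosure (R := O) (S := RS)).separable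
  haveI : IsSepClosed (ResidueField RS) :=
    (Hensel.IsStrictHenselization.isSepClosure (R := O) (S := RS)).sep_closed
  haveI : HenselianLocalRing RS := Hensel.IsStrictHenselization.henselian (R := O)
  haveI : IsNoetherianRing O := IsLocalization.isNoetherianRing P.primeCompl O inferInstance
  haveI : IsNoetherianRing RS := (S0540.result O RS).1 inferInstance
  let τ : ResidueField RS →ₐ[ResidueField O] ResidueField RY := IsSepClosed.lift
  obtain ⟨g, ⟨hgc, hgr⟩, -⟩ := Hensel.IsStrictHenselization.universal (R := O) (S := RS) RY fO τ.toRingHom (by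
    refine RingHom.ext fun z => ?_
    obtain ⟨a, rfl⟩ := residue_surjective z
    exact τ.commutes (residue O a))
  have hgloc : ∀ x, IsUnit (g x) → IsUnit x := fun x hx => by
    by_contra h
    have h0 : residue RS x = 0 := (residue_eq_zero_iff x).2 h
    have := hgr x
    rw [h0, map_zero] at this
    exact (residue_eq_zero_iff _).1 this hx
  letI : Algebra R' RS := ((algebraMap O RS).comp ((algebraMap R2 O).comp (algebraMap R' R2))).toAlgebra
  let i2 : R2 →ₐ[R'] RS := { (algebraMap O RS).comp (algebraMap R2 O) with commutes' := fun _ => rfl }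
  have hgi : ∀ r, g (i2 r) = (r : RY) := fun r => (RingHom.congr_fun hgc (algebraMap R2 O r)).trans (hfO r)
  let g' : RS →ₐ[R'] RY := { g with commutes' := fun r => hgi (algebraMap R' R2 r) }
  let D := RS ⊗[R'] C'
  let δ : D →ₐ[R'] RX :=
    Algebra.TensorProduct.lift ((IsScalarTower.toAlgHom R' RY RX).comp g') χ fun _ _ => Commute.all _ _
  have hδt : ∀ (a : RS) (c : C'), δ (a ⊗ₜ[R'] c) = algebraMap RY RX (g a) * χ c := fun a c =>
    Algebra.TensorProduct.lift_tmul _ _ _ a c
  let q : Ideal D := (maximalIdeal RX).comap δ.toRingHom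
  haveI : q.IsPrime := Ideal.comap_isPrime _ _
  let B := Localization.AtPrime q
  have hunit : ∀ y : q.primeCompl, IsUnit (δ.toRingHom y) := fun y =>
    not_not.1 fun h => y.2 (show δ (y : D) ∈ maximalIdeal RX from h)
  let δB : B →+* RX := IsLocalization.lift (M := q.primeCompl) hunit
  have hδB : ∀ d, δB (algebraMap D B d) = δ d := fun d => IsLocalization.lift_eq _ d
  have hAB : ∀ a : RS, algebraMap RS B a = algebraMap D B (a ⊗ₜ[R'] (1 : C')) := fun a =>
    IsScalarTower.algebraMap_apply RS D B a
  have hδRS : ∀ a : RS, δB (algebraMap RS B a) = algebraMap RY RX (g a) := fun a => by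
    rw [IsScalarTower.algebraMap_apply RS D B, hδB]
    show δ (a ⊗ₜ (1 : C')) = _
    rw [hδt, map_one, mul_one]
  haveI : IsLocalHom (algebraMap RS B) := ⟨fun a ha => by
    have h1 := ha.map δB
    rw [hδRS] at h1
    exact hgloc a (isUnit_of_map_unit (algebraMap RY RX) _ h1)⟩
  haveI : Module.Flat D B := IsLocalization.flat B q.primeCompl
  haveI : Module.Flat RS B := Module.Flat.trans RS D B
  have hgeoB : ∀ (L' : Type u) [Field L'] [Algebra RS L'], IsReduced (L' ⊗[RS] B) := by
    intro L' _ _
    haveI : IsLocalization (IsUnit.submonoid RS) RS := IsLocalization.self fun x hx => hx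
    refine UnibConn.isReduced_tensor_localization (R := RS) (A := RS) (S := D) (B := B)
      (IsUnit.submonoid RS) q.primeCompl (fun L'' _ _ => ?_) L'
    letI : Algebra R' L'' := ((algebraMap RS L'').comp (algebraMap R' RS)).toAlgebra
    haveI : IsScalarTower R' RS L'' := IsScalarTower.of_algebraMap_eq' rfl
    haveI := hgeo L''
    exact isReduced_of_injective
      (Algebra.TensorProduct.cancelBaseChange R' RS RS L'' C').toRingEquiv.toRingHom
      (Algebra.TensorProduct.cancelBaseChange R' RS RS L'' C').injective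
  let ι : C' →ₐ[R'] B := (IsScalarTower.toAlgHom R' D B).comp Algebra.TensorProduct.includeRight
  have hι : ∀ c, δB (ι c) = χ c := fun c => (hδB _).trans ((hδt 1 c).trans (by rw [map_one, map_one, one_mul]))
  refine idem_of_strict_stage χ u p hrel g' B δB hδRS hgeoB ι hι
    (Algebra.TensorProduct.map (AlgHom.id R' C') i2 p2) ?_ ?_
  · rw [← hp2]
    suffices ∀ z, Algebra.TensorProduct.map (AlgHom.id R' C') g' (Algebra.TensorProduct.map (AlgHom.id R' C') i2 z) =
        Algebra.TensorProduct.map (AlgHom.id C' C') R2.val z from this p2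
    intro z
    induction z using TensorProduct.induction_on with
    | zero => simp
    | add a b ha hb => simp only [map_add, ha, hb]
    | tmul c r =>
      rw [Algebra.TensorProduct.map_tmul, Algebra.TensorProduct.map_tmul, Algebra.TensorProduct.map_tmul]
      exact congrArg (c ⊗ₜ[R'] ·) (hgi r)
  · have hz : ∀ z, Algebra.TensorProduct.lift ι (IsScalarTower.toAlgHom R' RS B) (fun _ _ => Commute.all _ _) z =
        algebraMap D B (Algebra.TensorProduct.comm R' C' RS z) := by
      intro z
      induction z using TensorProduct.induction_on with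
      | zero => simp
      | add a b ha hb => simp only [map_add, ha, hb]
      | tmul c r =>
        rw [Algebra.TensorProduct.lift_tmul, Algebra.TensorProduct.comm_tmul, IsScalarTower.coe_toAlgHom', hAB]
        refine ((algebraMap D B).map_mul _ _).symm.trans (congrArg _ ?_)
        exact (Algebra.TensorProduct.tmul_mul_tmul _ _ _ _).trans (congrArg₂ (· ⊗ₜ[R'] ·) (one_mul _) (mul_one _))
    rw [hz]
    refine IsLocalization.map_units B (⟨_, ?_⟩ : q.primeCompl)
    intro h
    refine (show δ _ ∈ maximalIdeal RX from h) ?_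
    have hδd : ∀ z, δ (Algebra.TensorProduct.comm R' C' RS (Algebra.TensorProduct.map (AlgHom.id R' C') i2 z)) =
        toLimit χ (Algebra.TensorProduct.map (AlgHom.id C' C') R2.val z) := by
      intro z
      induction z using TensorProduct.induction_on with
      | zero => simp
      | add a b ha hb => simp only [map_add, ha, hb]
      | tmul c r =>
        rw [Algebra.TensorProduct.map_tmul, Algebra.TensorProduct.comm_tmul, hδt, hgi, mul_comm]
        exact (toLimit_tmul χ c (r : RY)).symm
    rw [hδd]
    exact hp2 ▸ hp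

end Groth.Agent.HenselConn
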