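import Groth.Agent.BigSiteLib.EtDescSec.Main
import Groth.Agent.BigSiteLib.EtDescSec.LocIn
import Groth.Agent.AlgSpLib.EtLocalInst
import Groth.Agent.EtFound.PushOutside

/-!
# The sheaf of two-valued locally constant functions
-/

set_option autoImplicit false

universe u

open CategoryTheory CategoryTheory.Limits AlgebraicGeometry Opposite TopologicalSpace
open Groth.Agent.BigSiteLib.DescSec

namespace Groth.Agent.HenselConn

set_option backward.isDefEq.respectTransparency.types false

/-- Two-valued locally constant functions. -/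
def twoPresheaf (X : Scheme.{u}) : X.Etaleᵒᵖ ⥤ Type (u + 1) where
  obj U := ULift.{u + 1} (LocallyConstant U.unop.left Bool)
  map i := TypeCat.ofHom fun a => ⟨a.down.comap ⟨_, i.unop.left.continuous⟩⟩
  map_id U := by ext a; rfl
  map_comp i k := by ext a; rfl

theorem isSheaf_two (X : Scheme.{u}) : Presieve.IsSheaf X.smallEtaleTopology (twoPresheaf X) := fun U S hS x hx => by
  have hcov := (EtFound.mem_topology_iff _).1 hS
  choose W k w hk hw using hcov
  let F : U.left → Bool := fun z => (x (k z) (hk z)).down (w z)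
  have hF : ∀ {V : X.Etale} (m : V ⟶ U) (hm : S m) (v : V.left), F (m.left v) = (x m hm).down v := fun {V} m hm v => by
    obtain ⟨o, ho₁, ho₂⟩ := Scheme.exists_preimage_of_isPullback
      ((IsPullback.of_hasPullback m (k (m.left v))).map (Scheme.Etale.forget X ⋙ Over.forget X)) v (w (m.left v)) (hw _).symm
    have e := congrArg ULift.down (hx (pullback.fst m (k (m.left v))) (pullback.snd m (k (m.left v))) hm (hk (m.left v)) pullback.condition)
    exact ((congrArg (x (k (m.left v)) (hk _)).down ho₂.symm).trans (congrArg (fun t : LocallyConstant _ Bool => t o) e).symm).trans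
      (congrArg (x m hm).down ho₁)
  have hFc : IsLocallyConstant F := by
    refine (IsLocallyConstant.iff_exists_open F).2 fun z => ?_
    obtain ⟨O, hO, hwO, hcst⟩ := (IsLocallyConstant.iff_exists_open _).1 (x (k z) (hk z)).down.isLocallyConstant (w z)
    haveI : Etale (k z).left := EtFound.etale_left _
    refine ⟨(k z).left '' O, (Scheme.Hom.isOpenMap _) _ hO, ⟨w z, hwO, hw z⟩, ?_⟩
    rintro _ ⟨v, hv, rfl⟩
    rw [hF (k z) (hk z) v]
    exact hcst v hv
  refine ⟨⟨⟨F, hFc⟩⟩, fun V m hm => ULift.ext _ _ (LocallyConstant.ext fun v => hF m hm v), fun t ht => ?_⟩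
  refine ULift.ext _ _ (LocallyConstant.ext fun z => ?_)
  refine Eq.trans ?_ (congrArg (fun t : LocallyConstant _ Bool => t (w z)) (congrArg ULift.down (ht (k z) (hk z))))
  exact congrArg t.down (hw z).symm

/-- The sheaf of two-valued locally constant functions. -/
def twoSh (X : Scheme.{u}) : EtDesc.Sh X := ⟨twoPresheaf X, (isSheaf_iff_isSheaf_of_type _ _).2 (isSheaf_two X)⟩

/-- The constant sections. -/
noncomputable def twoCst {X : Scheme.{u}} (b : Bool) : (twoSh X).obj.obj (op (EtCoh.top X)) := ⟨LocallyConstant.const _ b⟩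

theorem not_locEq_twoCst {X : Scheme.{u}} (z : (EtCoh.top X).left) :
    ¬ LocEq (twoSh X).obj (twoCst (X := X) true) (twoCst false) z := by
  rintro ⟨W, k, ⟨w, hw⟩, e⟩
  exact Bool.noConfusion (congrArg (fun t : LocallyConstant _ Bool => t w) (congrArg ULift.down e))

/-- A map with bijective pullback of sections to a connected scheme has connected source. -/
theorem connectedSpace_of_secPull {X T : Scheme.{u}} (f : T ⟶ X) [ConnectedSpace X]
    (h : Function.Bijective (EtDesc.secPull f (twoSh X))) : ConnectedSpace T := by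
  let G := (EtDesc.pullSh f).obj (twoSh X)
  let c : Bool → G.obj.obj (op (EtCoh.top T)) := fun b => EtDesc.secPull f (twoSh X) (twoCst b)
  have hne : ∀ (z : (EtCoh.top T).left), ¬ LocEq G.obj (c true) (c false) z := fun z hz => by
    refine not_locEq_twoCst (X := X) (pullback.fst (EtCoh.top X).hom f ((EtCore.bcTopIso f).inv.left z)) ?_
    refine locEq_of_up f (twoSh X) ?_
    have hz' : LocEq G.obj (c true) (c false) ((EtCore.bcTopIso f).hom.left ((EtCore.bcTopIso f).inv.left z)) := by
      rwa [← Scheme.Hom.comp_apply, show (EtCore.bcTopIso f).inv.left ≫ (EtCore.bcTopIso f).hom.left = 𝟙 _ from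
        congr(($((EtCore.bcTopIso f).inv_hom_id)).left)]
    have := hz'.map (EtCore.bcTopIso f).hom
    have hc : ∀ b, G.obj.map (EtCore.bcTopIso f).hom.op (c b) = up f (twoSh X) _ (twoCst b) := fun b => by
      refine (mapF G.obj _ _ _).trans ?_
      rw [Iso.hom_inv_id, op_id, CategoryTheory.Functor.map_id]
      rfl
    rwa [hc, hc] at this
  haveI : Nonempty T := by
    by_contra hT
    haveI : IsEmpty (EtCoh.top T).left := not_nonempty_iff.1 hT
    have : c true = c false := eq_of_locEq G fun z => isEmptyElim z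
    obtain ⟨z⟩ : Nonempty (EtCoh.top X).left := (inferInstance : Nonempty X)
    exact not_locEq_twoCst (X := X) z (by rw [h.1 this]; exact LocEq.refl (P := (twoSh X).obj) _ z)
  haveI : PreconnectedSpace T := by
    rw [preconnectedSpace_iff_clopen]
    intro E hE
    by_contra hne'
    rw [not_or] at hne'
    let G' : Bool → (T.Etale) := fun b => EtFound.restrictEtale (EtCoh.top T) ⟨cond b E Eᶜ, by cases b <;> [exact hE.1.isOpen_compl; exact hE.2]⟩
    let m : ∀ b, G' b ⟶ EtCoh.top T := fun b => EtFound.restrictEtaleHom (EtCoh.top T) _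
    have hcov : Sieve.generate (Presieve.ofArrows G' m) ∈ T.smallEtaleTopology (EtCoh.top T) := by
      rw [EtFound.mem_topology_iff]
      intro z
      by_cases hz : z ∈ E
      · exact ⟨G' true, m true, ⟨z, hz⟩, ⟨_, 𝟙 _, m true, ⟨true⟩, Category.id_comp _⟩, rfl⟩
      · exact ⟨G' false, m false, ⟨z, hz⟩, ⟨_, 𝟙 _, m false, ⟨false⟩, Category.id_comp _⟩, rfl⟩
    obtain ⟨s', hs', -⟩ := (Presieve.isSheafFor_arrows_iff _ _).1 ((Presieve.isSheafFor_iff_generate _).2
      (((isSheaf_iff_isSheaf_of_type _ _).1 G.property) _ hcov)) (fun b => G.obj.map (m b).op (c b))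
      (fun i j Y p q e => by
        by_cases hij : i = j
        · subst hij
          rw [mapF, mapF, e]
        · refine eq_of_locEq G fun y => ?_
          have h1 : (m i).left (p.left y) = (m j).left (q.left y) := by
            rw [← Scheme.Hom.comp_apply, ← Scheme.Hom.comp_apply]
            exact congrArg (fun k : Y.left ⟶ _ => k y) (congrArg (fun k : Y ⟶ EtCoh.top T => k.left) e)
          have hi : (m i).left (p.left y) ∈ (cond i E Eᶜ : Set T) := (p.left y).2
          have hj : (m j).left (q.left y) ∈ (cond j E Eᶜ : Set T) := (q.left y).2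
          cases i <;> cases j
          · exact absurd rfl hij
          · exact absurd (h1 ▸ hj) hi
          · exact absurd (h1 ▸ hi) hj
          · exact absurd rfl hij)
    obtain ⟨s, hs⟩ := h.2 s'
    obtain ⟨b, hb⟩ : ∃ b, s = twoCst b := by
      obtain ⟨z⟩ := (inferInstance : Nonempty X)
      refine ⟨s.down z, ULift.ext _ _ (LocallyConstant.ext fun x => ?_)⟩
      haveI : PreconnectedSpace (EtCoh.top X).left := inferInstanceAs (PreconnectedSpace X)
      exact s.down.apply_eq_of_preconnectedSpace x z
    obtain ⟨z, hz⟩ : ∃ z : (EtCoh.top T).left, z ∈ (cond (!b) E Eᶜ : Set T) := by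
      cases b
      · exact Set.nonempty_iff_ne_empty.2 hne'.1
      · exact Set.nonempty_compl.2 hne'.2
    refine hne z ?_
    have e : G.obj.map (m (!b)).op (c b) = G.obj.map (m (!b)).op (c (!b)) := by
      rw [← hs' (!b), ← hs, hb]
    have hz' : LocEq G.obj (c b) (c (!b)) z :=
      ⟨G' (!b), m (!b), ⟨⟨z, hz⟩, rfl⟩, e⟩
    cases b
    · exact hz'.symm
    · exact hz'
  exact ⟨inferInstance⟩

end Groth.Agent.HenselConn
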